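import Groth.Agent.Formal61.Sys
import Groth.Agent.ZClosLib.CohDescent

/-!
# Pullback of formal systems
-/

set_option autoImplicit false
universe u

open CategoryTheory CategoryTheory.Limits AlgebraicGeometry Opposite

noncomputable section

namespace Groth.Agent.Formal61.Pullback

variable {A : Type u} [CommRing A] {X Y : Scheme.{u}} [X.Over (Spec (CommRingCat.of A))]
  [Y.Over (Spec (CommRingCat.of A))] (f : X ⟶ Y)

theorem toGlobal_comp (hf : f ≫ (Y ↘ Spec (CommRingCat.of A)) = X ↘ Spec (CommRingCat.of A)) (a : A) :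
    f.appTop (Coh.toGlobal (Y ↘ Spec (CommRingCat.of A)) a) = Coh.toGlobal (X ↘ Spec (CommRingCat.of A)) a := by
  rw [← hf]
  rfl

theorem gA_comp (hf : f ≫ (Y ↘ Spec (CommRingCat.of A)) = X ↘ Spec (CommRingCat.of A)) (V : Y.Opens) (a : A) :
    f.app V (FormalFun.gA (A := A) V a) = FormalFun.gA (A := A) (f ⁻¹ᵁ V) a := by
  show f.app V (Coh.resTop Y (op V) _) = Coh.resTop X (op (f ⁻¹ᵁ V)) _
  rw [← toGlobal_comp f hf]
  exact congr($(f.naturality (homOfLE (le_top : V ≤ ⊤)).op) (Coh.toGlobal (Y ↘ Spec (CommRingCat.of A)) a))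

theorem pushforward_smulMod (hf : f ≫ (Y ↘ Spec (CommRingCat.of A)) = X ↘ Spec (CommRingCat.of A))
    (N : X.Modules) (a : A) :
    (Scheme.Modules.pushforward f).map (Formal.smulMod A N a) =
      Formal.smulMod A ((Scheme.Modules.pushforward f).obj N) a := by
  apply Scheme.Modules.hom_ext
  intro V
  ext x
  show (Formal.smulMod A N a).app (f ⁻¹ᵁ V) x = _
  refine (FormalFun.smulMod_app N a (f ⁻¹ᵁ V) x).trans (Eq.trans ?_
      (FormalFun.smulMod_app ((Scheme.Modules.pushforward f).obj N) a V x).symm)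
  rw [← gA_comp f hf V a]
  rfl

theorem pullback_smulMod (hf : f ≫ (Y ↘ Spec (CommRingCat.of A)) = X ↘ Spec (CommRingCat.of A))
    (M : Y.Modules) (a : A) :
    (Scheme.Modules.pullback f).map (Formal.smulMod A M a) =
      Formal.smulMod A ((Scheme.Modules.pullback f).obj M) a := by
  refine ((Scheme.Modules.pullbackPushforwardAdjunction f).homEquiv _ _).injective ?_
  rw [Adjunction.homEquiv_unit, Adjunction.homEquiv_unit, pushforward_smulMod f hf]
  refine ((Scheme.Modules.pullbackPushforwardAdjunction f).unit.naturality (Formal.smulMod A M a)).symm.trans ?_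
  exact FormalFun.smulMod_natural _ a

theorem killedBy_pullback (hf : f ≫ (Y ↘ Spec (CommRingCat.of A)) = X ↘ Spec (CommRingCat.of A))
    {J : Ideal A} {M : Y.Modules} (hM : Formal.KilledBy J M) :
    Formal.KilledBy J ((Scheme.Modules.pullback f).obj M) := fun a ha => by
  rw [← pullback_smulMod f hf, hM a ha, Functor.map_zero]

theorem isModQuot_pullback (hf : f ≫ (Y ↘ Spec (CommRingCat.of A)) = X ↘ Spec (CommRingCat.of A))
    {J : Ideal A} {M N : Y.Modules} {π : M ⟶ N} (hπ : Sys.IsModQuot J π) :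
    Sys.IsModQuot J ((Scheme.Modules.pullback f).map π) := by
  haveI := hπ.epi
  let adj := Scheme.Modules.pullbackPushforwardAdjunction f
  haveI : PreservesColimitsOfShape WalkingSpan (Scheme.Modules.pullback f) :=
    adj.leftAdjoint_preservesColimits.preservesColimitsOfShape
  haveI : Epi ((Scheme.Modules.pullback f).map π) := Functor.map_epi _ π
  refine Sys.IsModQuot.mk' (fun a ha => ?_) fun Z φ hφ => ?_
  · rw [← pullback_smulMod f hf, ← Functor.map_comp, hπ.condition a ha, Functor.map_zero]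
  · obtain ⟨ψ, hψ⟩ := hπ.exists_desc (adj.homEquiv _ _ φ) fun a ha => by
      rw [← adj.homEquiv_naturality_left, pullback_smulMod f hf, hφ a ha, adj.homEquiv_unit,
        Functor.map_zero, comp_zero]
    refine ⟨(adj.homEquiv _ _).symm ψ, ?_⟩
    rw [← adj.homEquiv_naturality_left_symm, hψ, Equiv.symm_apply_apply]

theorem isCohFormal_pullback (hf : f ≫ (Y ↘ Spec (CommRingCat.of A)) = X ↘ Spec (CommRingCat.of A))
    {I : Ideal A} {G : ℕᵒᵖ ⥤ Y.Modules} (hG : Formal.IsCohFormal I G) :
    Formal.IsCohFormal I (G ⋙ Scheme.Modules.pullback f) :=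
  ⟨fun n => ZClosLib.CohDescent.isCoh_pullback f _ (hG.1 n), fun n => killedBy_pullback f hf (hG.2.1 n),
    fun n => isModQuot_pullback f hf (hG.2.2 n)⟩

end Groth.Agent.Formal61.Pullback
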