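import Groth.Agent.Formal61.PrinAlg

/-!
# Finiteness of the cohomology of the special fibre
-/

set_option autoImplicit false
universe u

open CategoryTheory CategoryTheory.Limits AlgebraicGeometry Opposite
open Groth.Agent.FormalSupp

noncomputable section

namespace Groth.Agent.Formal61.PrinFin

variable {A : Type u} [CommRing A] [IsNoetherianRing A]

theorem finite_Φ (𝔞 : Ideal A) (T : Type u) [AddCommGroup T] [Module A T] [Module.Finite A T] (i : ℕ)
    (h : Module.Finite A (_root_.LocCoh.H 𝔞 (i + 1) T)) :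
    Module.Finite A (Coh.HH (LocCoh.puncturedOpen A 𝔞 : Scheme.{u}) (Split.tU (𝔞 := 𝔞) T) i) := by
  classical
  obtain ⟨ι, _, g, hg⟩ := Punct.exists_cover 𝔞
  haveI : Module.Finite A (ModuleCat.of A T) := ‹Module.Finite A T›
  exact OpenFin.finite_HH (R := CommRingCat.of A) (LocCoh.puncturedOpen A 𝔞) (ModuleCat.of A T) g
    (Punct.hle 𝔞 hg) (Punct.hcov 𝔞 hg) i (by rw [← hg]; exact h)

theorem exists_algebraization (𝔞 : Ideal A) (f : A) [IsAdicComplete (Ideal.span ({f} : Set A)) A]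
    {G : ℕᵒᵖ ⥤ (LocCoh.puncturedOpen A 𝔞 : Scheme.{u}).Modules} (hD : PrinAlg.Dat 𝔞 f G)
    (h₁ : Module.Finite A (_root_.LocCoh.H 𝔞 1 (A ⧸ Ideal.span {f})))
    (h₂ : Module.Finite A (_root_.LocCoh.H 𝔞 2 (A ⧸ Ideal.span {f}))) :
    ∃ F : (LocCoh.puncturedOpen A 𝔞 : Scheme.{u}).Modules, Coh.IsCoh F ∧
      Nonempty (Formal.completion (Ideal.span ({f} : Set A)) F ≅ G) := by
  obtain ⟨N, _, ε, hN⟩ := PrinAlg.exists_model hD 0
  rw [zero_add, pow_one] at hN
  haveI := finite_Φ 𝔞 (A ⧸ Ideal.span ({f} : Set A)) 0 h₁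
  haveI := finite_Φ 𝔞 (A ⧸ Ideal.span ({f} : Set A)) 1 h₂
  haveI h0 := Split.finite_H0 hN
  haveI h1 := Split.finite_H1 hN
  exact PrinAlg.exists_algebraization hD (CohLin.finite_of_iso (A := A) ε) (CohLin.finite_of_iso (A := A) ε)

end Groth.Agent.Formal61.PrinFin
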