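import Groth.Agent.Formal61.Principal
import Groth.Agent.KFlat.TildeExact
import Groth.Agent.FormalSupp.OpenFin
import Groth.Agent.Props.SubExt
import Groth.Prelude.Def_KLin

/-!
# `M ↦ M~|U` is exact and linear, and carries `M/f^n M` to the quotient by `f^n`
-/

set_option autoImplicit false
universe u

open CategoryTheory CategoryTheory.Limits AlgebraicGeometry Opposite
open Groth.Agent.FormalSupp

noncomputable section

namespace Groth.Agent.Formal61.Affine

variable {A : Type u} [CommRing A] (V : (Spec (CommRingCat.of A)).Opens)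

/-- `M ↦ M~|V`. -/
abbrev Φ : ModuleCat.{u} A ⥤ (V : Scheme.{u}).Modules :=
  (tilde.functor (CommRingCat.of A) : ModuleCat.{u} A ⥤ _) ⋙ Scheme.Modules.restrictFunctor V.ι

instance preservesFiniteLimits_Φ : PreservesFiniteLimits (Φ V) :=
  haveI := KFlat.TildeExact.preservesFiniteLimits_tilde (CommRingCat.of A)
  comp_preservesFiniteLimits _ _

instance preservesFiniteColimits_Φ : PreservesFiniteColimits (Φ V) :=
  haveI := (tilde.adjunction (R := CommRingCat.of A)).leftAdjoint_preservesColimits.{0, 0}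
  haveI := (Scheme.Modules.restrictAdjunction V.ι).leftAdjoint_preservesColimits.{0, 0}
  comp_preservesFiniteColimits _ _

instance additive_Φ : (Φ V).Additive := by
  haveI := preservesFiniteColimits_Φ V
  haveI : PreservesBinaryBiproducts (Φ V) := preservesBinaryBiproducts_of_preservesBinaryCoproducts _
  exact Functor.additive_of_preservesBinaryBiproducts _

theorem Φ_smul (M : Type u) [AddCommGroup M] [Module A M] (a : A) :
    (Φ V).map (ModuleCat.ofHom (a • LinearMap.id (R := A) (M := M))) = Formal.smulMod A ((Φ V).obj (ModuleCat.of A M)) a := by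
  let R := CommRingCat.of A
  let M' : ModuleCat.{u} R := ModuleCat.of A M
  have h : tilde.map (R := R) (M := M') (N := M') (ModuleCat.ofHom (a • LinearMap.id)) =
      Formal.smulModΓ (tilde M') ((Scheme.ΓSpecIso R).inv a) := by
    refine ((tilde.adjunction (R := R)).homEquiv M' (tilde M')).injective ?_
    refine ((tilde.adjunction (R := R)).homEquiv_unit (f := tilde.map _)).trans (Eq.trans ?_
      ((tilde.adjunction (R := R)).homEquiv_unit (f := Formal.smulModΓ (tilde M') _)).symm)
    refine ((tilde.adjunction (R := R)).unit.naturality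
      (X := M') (Y := M') (ModuleCat.ofHom (a • LinearMap.id))).symm.trans ?_
    ext m
    refine (map_smul (((tilde.adjunction (R := R)).unit.app M').hom) a m).trans ?_
    symm
    refine (KLin.smulModΓ_app_apply (tilde M') _ ⊤ _).trans ?_
    rw [show (homOfLE (le_top : (⊤ : (Spec R).Opens) ≤ ⊤)).op = 𝟙 _ from rfl, CategoryTheory.Functor.map_id]
    rfl
  show (Scheme.Modules.restrictFunctor V.ι).map (tilde.map _) = _
  rw [h]
  apply Scheme.Modules.hom_ext
  intro W
  ext x
  show (Formal.smulModΓ (tilde M') ((Scheme.ΓSpecIso R).inv a)).app (V.ι ''ᵁ W) x = _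
  refine (KLin.smulModΓ_app_apply (tilde M') _ (V.ι ''ᵁ W) x).trans
    (Eq.trans ?_ (FormalFun.smulMod_app ((Φ V).obj (ModuleCat.of A M)) a W x).symm)
  show _ = (V.ι.appIso W).inv
      ((V : Scheme.{u}).presheaf.map (homOfLE le_top).op (V.ι.appTop ((Scheme.ΓSpecIso R).inv a))) •
    (show Γ(tilde M', V.ι ''ᵁ W) from x)
  refine congrArg (· • (show Γ(tilde M', V.ι ''ᵁ W) from x)) ?_
  rw [Scheme.Opens.ι_appIso, Scheme.Opens.ι_appTop]
  simp only [Iso.refl_inv, Scheme.Opens.toScheme_presheaf_map]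
  erw [← ConcreteCategory.comp_apply]

variable (M : Type u) [AddCommGroup M] [Module A M] (t : A)

/-- `M / t^m M` -/
theorem isModQuot (m : ℕ) :
    Sys.IsModQuot ((Ideal.span ({t} : Set A)) ^ m)
      ((Φ V).map (ModuleCat.ofHom
        (X := M) ((Ideal.span ({t} : Set A)) ^ m • (⊤ : Submodule A M)).mkQ)) := by
  let N : Submodule A M := (Ideal.span ({t} : Set A)) ^ m • ⊤
  let u : ModuleCat.of A M ⟶ ModuleCat.of A M := ModuleCat.ofHom (t ^ m • LinearMap.id)
  let π : ModuleCat.of A M ⟶ ModuleCat.of A (M ⧸ N) := ModuleCat.ofHom N.mkQ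
  haveI : Epi π := (ModuleCat.epi_iff_surjective _).2 N.mkQ_surjective
  have hw : u ≫ π = 0 := by
    ext x
    exact (Submodule.Quotient.mk_eq_zero _).2 (Submodule.smul_mem_smul (Principal.pow_mem t m) trivial)
  have hcol : IsColimit (CokernelCofork.ofπ π hw) := by
    refine CokernelCofork.IsColimit.ofπ' π hw fun {Z} φ hφ => ?_
    refine ⟨ModuleCat.ofHom (N.liftQ φ.hom ?_), ModuleCat.hom_ext (LinearMap.ext fun x => rfl)⟩
    refine Submodule.smul_le.mpr fun a ha x _ => LinearMap.mem_ker.mpr ?_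
    rw [Ideal.span_singleton_pow, Ideal.mem_span_singleton'] at ha
    obtain ⟨b, rfl⟩ := ha
    rw [mul_smul, map_smul, show φ.hom (t ^ m • x) = 0 from congr($hφ x), smul_zero]
  haveI : Epi ((Φ V).map π) := Functor.map_epi _ π
  refine Sys.IsModQuot.mk' (fun a ha => ?_) fun Z φ hφ => ?_
  · refine Principal.killing_of_gen _ ?_ a ha
    rw [← Φ_smul V M, ← Functor.map_comp]
    exact (congrArg _ hw).trans (Functor.map_zero _ _ _)
  · have hφ' : (Φ V).map u ≫ φ = 0 := by
      refine (congrArg (· ≫ φ) (Φ_smul V M (t ^ m))).trans ?_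
      exact hφ _ (Principal.pow_mem t m)
    exact ⟨_, (CokernelCofork.mapIsColimit _ hcol (Φ V)).fac
      (CokernelCofork.ofπ φ hφ') WalkingParallelPair.one⟩

/-- The `t`-power torsion of `M~|V` is bounded. -/
theorem exists_torsion_bound [IsNoetherianRing A] [Module.Finite A M] :
    ∃ c : ℕ, kernel.ι (Formal.smulMod A ((Φ V).obj (ModuleCat.of A M)) (t ^ (c + 1))) ≫
      Formal.smulMod A ((Φ V).obj (ModuleCat.of A M)) (t ^ c) = 0 := by
  let K : ℕ →o Submodule A M := ⟨fun j => LinearMap.ker (LinearMap.lsmul A M (t ^ j)), fun a b hab z hz => by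
    obtain ⟨d, rfl⟩ := Nat.exists_eq_add_of_le hab
    rw [LinearMap.mem_ker, LinearMap.lsmul_apply] at hz ⊢
    rw [pow_add, mul_comm, mul_smul, hz, smul_zero]⟩
  obtain ⟨c, hc⟩ := monotone_stabilizes_iff_noetherian.mpr inferInstance K
  refine ⟨c, ?_⟩
  let v : ModuleCat.of A M ⟶ ModuleCat.of A M := ModuleCat.ofHom (t ^ (c + 1) • LinearMap.id)
  let w : ModuleCat.of A M ⟶ ModuleCat.of A M := ModuleCat.ofHom (t ^ c • LinearMap.id)
  have h0 : kernel.ι v ≫ w = 0 := by
    ext x
    have hx : t ^ (c + 1) • (kernel.ι v).hom x = 0 := congr($(kernel.condition v) x)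
    have : (kernel.ι v).hom x ∈ K c := by
      rw [hc (c + 1) (Nat.le_succ c)]
      exact hx
    exact this
  have h1 : kernel.ι ((Φ V).map v) ≫ (Φ V).map w = 0 := by
    rw [← PreservesKernel.iso_inv_ι (Φ V) v, Category.assoc, ← Functor.map_comp, h0,
      Functor.map_zero, comp_zero]
  rw [← Φ_smul V M, ← Φ_smul V M]
  exact h1

end Groth.Agent.Formal61.Affine
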