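import Groth.Agent.Formal61.Principal
import Groth.Agent.FormalFun.Powers
import Groth.Agent.Adic.Basic

/-!
# Cohomology and formal completion along `t` when the cohomology has bounded torsion
-/

set_option autoImplicit false
universe u

open CategoryTheory CategoryTheory.Limits AlgebraicGeometry Opposite

noncomputable section

namespace Groth.Agent.Formal61.BddTors

variable {A : Type u} [CommRing A] {X : Scheme.{u}} [X.Over (Spec (CommRingCat.of A))]
variable {G : X.Modules} {t : A}

/-- multiplication by `t ^ n` -/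
abbrev sm (G : X.Modules) (t : A) (n : ℕ) : G ⟶ G := Formal.smulMod A G (t ^ n)

theorem sm_add (G : X.Modules) (t : A) (a b : ℕ) : sm G t (a + b) = sm G t a ≫ sm G t b := by
  rw [sm, pow_add, mul_comm, CohIII.smulMod_mul]

variable {c : ℕ} (hc : kernel.ι (sm G t (c + 1)) ≫ sm G t c = 0)

include hc in
theorem kill_of_pow (n : ℕ) {T : X.Modules} (k : T ⟶ G) (hk : k ≫ sm G t n = 0) : k ≫ sm G t c = 0 := by
  induction n with
  | zero => rw [← Nat.zero_add c, sm_add, ← Category.assoc, hk, zero_comp]
  | succ n ih =>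
    rcases Nat.lt_or_ge n c with h | h
    · obtain ⟨d, rfl⟩ := Nat.exists_eq_add_of_le h
      rw [sm_add, ← Category.assoc, hk, zero_comp]
    · obtain ⟨m, rfl⟩ := Nat.exists_eq_add_of_le h
      refine ih ?_
      rw [show c + m + 1 = m + (c + 1) by omega, sm_add, ← Category.assoc] at hk
      rw [show c + m = m + c by omega, sm_add, ← Category.assoc, ← kernel.lift_ι _ _ hk, Category.assoc,
        hc, comp_zero]

variable (G t c) in
/-- the torsion free quotient -/
def Q : X.Modules := cokernel (kernel.ι (sm G t (c + 1)))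

variable (G t c) in
/-- the projection -/
def p : G ⟶ Q G t c := cokernel.π _

instance : Epi (p G t c) := inferInstanceAs (Epi (cokernel.π _))

variable (G t c) in
/-- multiplication by `t ^ (c + 1)` on the quotient -/
def J₀ : Q G t c ⟶ G := cokernel.desc _ (sm G t (c + 1)) (kernel.condition _)

theorem p_J₀ : p G t c ≫ J₀ G t c = sm G t (c + 1) := cokernel.π_desc _ _ _

variable (G t c) in
/-- the embedding -/
def J (k : ℕ) : Q G t c ⟶ G := J₀ G t c ≫ sm G t k

theorem p_J (k : ℕ) : p G t c ≫ J G t c k = sm G t (c + k + 1) := by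
  rw [J, ← Category.assoc, p_J₀, show c + k + 1 = (c + 1) + k by omega, sm_add G t (c + 1) k]

theorem J_succ (k : ℕ) : J G t c (k + 1) = Formal.smulMod A (Q G t c) t ≫ J G t c k := by
  rw [← cancel_epi (p G t c), p_J, ← Category.assoc, ← FormalFun.smulMod_natural, Category.assoc, p_J]
  show Formal.smulMod A G (t ^ (c + (k + 1) + 1)) = Formal.smulMod A G t ≫ Formal.smulMod A G (t ^ (c + k + 1))
  rw [← CohIII.smulMod_mul, ← pow_succ]
  rfl

theorem J_zero_p : J G t c 0 ≫ p G t c = Formal.smulMod A (Q G t c) (t ^ (c + 1)) := by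
  rw [← cancel_epi (p G t c), ← Category.assoc, p_J]
  exact FormalFun.smulMod_natural _ _

include hc in
theorem mono_J (k : ℕ) : Mono (J G t c k) := by
  refine Preadditive.mono_of_cancel_zero _ fun {T} a ha => ?_
  obtain ⟨T', q, hq, x, hx⟩ := surjective_up_to_refinements_of_epi (p G t c) a
  have h : x ≫ sm G t (c + 1) = 0 := by
    rw [sm_add, ← Category.assoc, kill_of_pow hc (c + k + 1) x
      (by rw [← p_J, ← Category.assoc, ← hx, Category.assoc, ha, comp_zero]), zero_comp]
  rw [← cancel_epi q, hx, comp_zero, ← kernel.lift_ι _ _ h, Category.assoc]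
  exact (congrArg (_ ≫ ·) (cokernel.condition _)).trans comp_zero

theorem J_π (k : ℕ) : J G t c k ≫ Formal.modPowπ (Ideal.span ({t} : Set A)) (c + k + 1) G = 0 := by
  rw [← cancel_epi (p G t c), ← Category.assoc, p_J, comp_zero]
  exact (Sys.isModQuot_modPowπ _ _ G).condition _ (Principal.pow_mem t _)

variable (G t c) in
/-- `0 → G' → G → G/t^(c+k+1)G → 0` -/
abbrev S (k : ℕ) : ShortComplex X.Modules :=
  ShortComplex.mk (J G t c k) (Formal.modPowπ (Ideal.span ({t} : Set A)) (c + k + 1) G) (J_π k)

include hc in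
theorem shortExact_S (k : ℕ) : (S G t c k).ShortExact where
  exact := ShortComplex.exact_of_g_is_cokernel _ (CokernelCofork.IsColimit.ofπ' _ _ fun {Z} φ hφ =>
    have hx := (Sys.isModQuot_modPowπ (Ideal.span ({t} : Set A)) (c + k + 1) G).exists_desc φ
      (Principal.killing_of_gen φ (by
        show sm G t (c + k + 1) ≫ φ = 0
        rw [← p_J, Category.assoc]
        exact (congrArg (_ ≫ ·) hφ).trans comp_zero))
    ⟨hx.choose, hx.choose_spec⟩)
  mono_f := mono_J hc k
  epi_g := inferInstance

variable {i : ℕ}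

theorem hMap_J (k : ℕ) (w : Coh.HH X (Q G t c) i) :
    CohLin.hMap (J G t c k) i w = t ^ k • CohLin.hMap (J₀ G t c) i w :=
  (CohLin.hMap_comp _ _ i w).trans (FormalFun.hMap_smulMod G (t ^ k) i _)

theorem toHH_eq_zero {n : ℕ} {z : Coh.HH X G i}
    (hz : z ∈ Ideal.span ({t} : Set A) ^ (n + 1) • (⊤ : Submodule A (Coh.HH X G i))) :
    Formal.toHHmodPow (Ideal.span ({t} : Set A)) G i n z = 0 := by
  refine Submodule.smul_induction_on hz (fun a ha w _ => ?_) fun a b ha hb => by rw [map_add, ha, hb, add_zero]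
  show CohLin.hMap (Formal.modPowπ _ (n + 1) G) i (a • w) = 0
  rw [← FormalFun.hMap_smulMod, ← CohLin.hMap_comp]
  exact (congrArg (fun φ => CohLin.hMap φ i w) ((Sys.isModQuot_modPowπ _ _ G).condition a ha)).trans
    (map_zero (CohLin.hMapHom _ _ i w))

include hc in
theorem exists_eq_pow_smul (k : ℕ) {z : Coh.HH X G i}
    (hz : Formal.toHHmodPow (Ideal.span ({t} : Set A)) G i (c + k) z = 0) : ∃ v, z = t ^ k • v := by
  obtain ⟨w, rfl⟩ := CohLin.exists_hMap_f_eq (shortExact_S hc k) z hz
  exact ⟨_, hMap_J k w⟩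

theorem toHH_of_le {y : ∀ n, Formal.HHmodPow (Ideal.span ({t} : Set A)) G i n}
    (hy : y ∈ Formal.HHlim (Ideal.span ({t} : Set A)) G i) {n m : ℕ} (h : n ≤ m) {z : Coh.HH X G i}
    (hz : Formal.toHHmodPow (Ideal.span ({t} : Set A)) G i m z = y m) :
    Formal.toHHmodPow (Ideal.span ({t} : Set A)) G i n z = y n := by
  induction m, h using Nat.le_induction with
  | base => exact hz
  | succ m h ih =>
    refine ih ?_
    rw [← hy m, ← hz]
    exact ((Formal.toHHlim (Ideal.span ({t} : Set A)) G i z).2 m).symm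

variable [IsNoetherianRing A] [IsAdicComplete (Ideal.span ({t} : Set A)) A]

include hc in
/-- The formal functions theorem for bounded torsion. -/
theorem bijective_toHHlim (P : Submodule A (Coh.HH X G i)) [Module.Finite A P] {N : ℕ}
    (hP : ∀ x : Coh.HH X G i, t ^ N • x ∈ P) (hN : ∀ x : Coh.HH X G (i + 1), t ^ N • x = 0) :
    Function.Bijective (Formal.toHHlim (Ideal.span ({t} : Set A)) G i) := by
  let I := Ideal.span ({t} : Set A)
  haveI : IsAdicComplete I P := Adic.isAdicComplete_of_finite I
  have hPj : ∀ (j : ℕ) {z : Coh.HH X G i}, Formal.toHHmodPow I G i (c + (N + j)) z = 0 →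
      ∃ q : P, q ∈ I ^ j • (⊤ : Submodule A P) ∧ (q : Coh.HH X G i) = z := fun j z hz => by
    obtain ⟨v, rfl⟩ := exists_eq_pow_smul hc (N + j) hz
    exact ⟨t ^ j • ⟨t ^ N • v, hP v⟩, Submodule.smul_mem_smul (Principal.pow_mem t j) trivial,
      by rw [Submodule.coe_smul, pow_add, mul_comm, mul_smul]⟩
  refine ⟨(injective_iff_map_eq_zero _).2 fun z hz => ?_, fun ⟨y, hy⟩ => ?_⟩
  · have hz' : ∀ n, Formal.toHHmodPow I G i n z = 0 := fun n => congrFun (congrArg Subtype.val hz) n
    choose q hq hqz using fun j => hPj j (hz' (c + (N + j)))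
    have h0 : q 0 = 0 := IsHausdorff.haus' (I := I) (q 0) fun j => by
      rw [SModEq.zero, show q 0 = q j from Subtype.ext ((hqz 0).trans (hqz j).symm)]
      exact hq j
    rw [← hqz 0, h0]
    rfl
  · let e : ∀ k, Coh.HH X (Q G t c) (i + 1) := fun k => CohLin.hδ (shortExact_S hc k) i (y (c + k))
    have hnat : ∀ k, e k = t • e (k + 1) := fun k => by
      have h := FormalFun.δ_natural (shortExact_S hc (k + 1)) (shortExact_S hc k)
        (S := S G t c (k + 1)) (S' := S G t c k)
        { τ₁ := Formal.smulMod A (Q G t c) t, τ₂ := 𝟙 G, τ₃ := Formal.modPowTrans I (c + k + 1) G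
          comm₁₂ := ((Category.comp_id _).trans (J_succ k)).symm
          comm₂₃ := (Category.id_comp _).trans (Formal.modPowπ_trans _ _ G).symm } i (y (c + (k + 1)))
      show CohLin.hδ (shortExact_S hc k) i (y (c + k)) = _
      rw [← hy (c + k)]
      exact h.trans (FormalFun.hMap_smulMod _ t (i + 1) _)
    have he : ∀ k, e k = 0 := fun k => by
      have h1 : ∀ j, e k = t ^ j • e (k + j) := by
        intro j
        induction j with
        | zero => simp
        | succ j ih =>
          rw [ih, hnat (k + j), ← mul_smul, ← pow_succ]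
          rfl
      rw [h1 (N + (c + 1)), pow_add, mul_smul, ← FormalFun.hMap_smulMod (Q G t c) (t ^ (c + 1)), ← J_zero_p,
        CohLin.hMap_comp, ← FormalFun.hMap_smulMod (Q G t c) (t ^ N), ← CohLin.hMap_comp,
        ← FormalFun.smulMod_natural, CohLin.hMap_comp, FormalFun.hMap_smulMod, hN, map_zero]
    choose x hx using fun k => CohLin.exists_hMap_g_eq (shortExact_S hc k) (y (c + k)) (he k)
    have hd : ∀ j, ∃ q : P, q ∈ I ^ j • (⊤ : Submodule A P) ∧
        (q : Coh.HH X G i) = x (N + (j + 1)) - x (N + j) := fun j => hPj j (by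
      rw [map_sub, sub_eq_zero]
      exact (toHH_of_le hy (by omega) (hx (N + (j + 1)))).trans (hx (N + j)).symm)
    choose D hD hDx using hd
    let s : ℕ → P := fun j => ∑ l ∈ Finset.range j, D l
    obtain ⟨w, hw⟩ := IsPrecomplete.prec' (I := I) (M := P) s (fun {a b} hab => by
      induction b, hab using Nat.le_induction with
      | base => exact SModEq.refl _
      | succ b hb ih =>
        refine ih.trans (SModEq.symm ?_)
        rw [SModEq.sub_mem]
        refine Submodule.smul_mono (Ideal.pow_le_pow_right hb) le_rfl ?_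
        simpa [s, Finset.sum_range_succ] using hD b)
    have hs : ∀ j, (s j : Coh.HH X G i) = x (N + j) - x N := by
      intro j
      induction j with
      | zero => simp [s]
      | succ j ih =>
        simp only [s, Finset.sum_range_succ, Submodule.coe_add] at ih ⊢
        rw [ih, hDx]
        abel
    refine ⟨x N + w, Subtype.ext (funext fun n => ?_)⟩
    show Formal.toHHmodPow I G i n (x N + w) = y n
    refine Eq.trans ?_ (toHH_of_le hy (show n ≤ c + (N + (n + 1)) by omega) (hx (N + (n + 1))))
    rw [← sub_eq_zero, ← map_sub]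
    refine toHH_eq_zero ?_
    rw [show x N + (w : Coh.HH X G i) - x (N + (n + 1)) = -((s (n + 1) - w : P) : Coh.HH X G i) by
      rw [Submodule.coe_sub, hs]; abel]
    refine Submodule.neg_mem _ ?_
    have hmem := SModEq.sub_mem.mp (hw (n + 1))
    exact (Submodule.map_smul'' _ ⊤ P.subtype).le.trans (Submodule.smul_mono le_rfl le_top)
      (Submodule.mem_map_of_mem (f := P.subtype) hmem)

end Groth.Agent.Formal61.BddTors
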