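import Groth.Prelude.Def_Formal2
import Groth.Agent.CohTop.TowerMilnor
import Groth.Agent.CohTop.Restrict
import Groth.Agent.LocCoh.Punctured
import Groth.Agent.QCoh.Exact
import Groth.Agent.ModShf.Flasque
import Groth.Agent.LimTower.NatVanish

/-!
# Cohomology of the limit of a quasi-coherent formal system
-/

set_option autoImplicit false
universe u

open CategoryTheory CategoryTheory.Limits AlgebraicGeometry Opposite TopologicalSpace

noncomputable section

namespace Groth.Agent.Formal61.Limit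

variable {A : Type u} [CommRing A] {I : Ideal A} {X : Scheme.{u}} [X.Over (Spec (CommRingCat.of A))]
  {G : ℕᵒᵖ ⥤ X.Modules}

/-- `toSheaf` preserves limits. -/
instance preservesLimits_toSheaf :
    PreservesLimitsOfShape ℕᵒᵖ (SheafOfModules.toSheaf.{u} X.ringCatSheaf) := by
  have : PreservesLimitsOfShape ℕᵒᵖ (SheafOfModules.toSheaf.{u} X.ringCatSheaf ⋙ sheafToPresheaf _ _) :=
    inferInstanceAs (PreservesLimitsOfShape ℕᵒᵖ
      (SheafOfModules.forget.{u} X.ringCatSheaf ⋙ PresheafOfModules.toPresheaf X.ringCatSheaf.obj))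
  exact preservesLimitsOfShape_of_reflects_of_preserves _
    (sheafToPresheaf (Opens.grothendieckTopology X) AddCommGrpCat.{u})

/-- The tower of abelian sheaves. -/
abbrev abTower (G : ℕᵒᵖ ⥤ X.Modules) : ℕᵒᵖ ⥤ CohTop.Ab X.toTopCat :=
  G ⋙ ModShf.toAbFunctor X

instance preservesLimits_toAbFunctor : PreservesLimitsOfShape ℕᵒᵖ (ModShf.toAbFunctor X) :=
  preservesLimits_toSheaf

/-- The underlying sheaf of the limit is the limit of the underlying sheaves. -/
def limIso (G : ℕᵒᵖ ⥤ X.Modules) : Coh.toAb (limit G) ≅ (limit (abTower G) : CohTop.Ab X.toTopCat) :=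
  preservesLimitIso (ModShf.toAbFunctor X) G

theorem limIso_π (G : ℕᵒᵖ ⥤ X.Modules) (n : ℕᵒᵖ) :
    (limIso G).hom ≫ limit.π (abTower G) n = (SheafOfModules.toSheaf X.ringCatSheaf).map (limit.π G n) := by
  exact preservesLimitIso_hom_π (ModShf.toAbFunctor X) G n

/-- Affine opens. -/
def affs (X : Scheme.{u}) : Set (Opens X.toTopCat) := {U | IsAffineOpen (X := X) U}

theorem isBasis_affs : Opens.IsBasis (affs X) := X.isBasis_affineOpens

theorem epi_map (hG : Formal2.IsQCohFormal I G) (n : ℕ) : Epi (G.map (homOfLE (Nat.le_succ n)).op) := by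
  obtain ⟨h, hiso⟩ := hG.2.2 n
  haveI : Epi (cokernel.desc (Formal.smulFamily (I ^ (n + 1)) (G.obj (op (n + 1))))
    (G.map (homOfLE (Nat.le_succ n)).op) h) := @IsIso.epi_of_iso _ _ _ _ _ hiso
  rw [← cokernel.π_desc (Formal.smulFamily (I ^ (n + 1)) (G.obj (op (n + 1)))) (G.map (homOfLE (Nat.le_succ n)).op) h]
  exact epi_comp _ _

theorem surj_affine (hG : Formal2.IsQCohFormal I G) (V : Opens X.toTopCat) (hV : V ∈ affs X) (n : ℕ) :
    Function.Surjective (((abTower G).map (homOfLE (Nat.le_succ n)).op).hom.app (op V)).hom := by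
  haveI := epi_map hG n
  haveI : (G.obj (op (n + 1))).IsQuasicoherent := hG.1 (n + 1)
  haveI : (G.obj (op n)).IsQuasicoherent := hG.1 n
  exact QCoh.app_surjective_of_epi (G.map (homOfLE (Nat.le_succ n)).op) (U := V) hV

theorem van_affine (hG : Formal2.IsQCohFormal I G) (V : Opens X.toTopCat) (hV : V ∈ affs X) (n i : ℕ) (hi : 0 < i) :
    Subsingleton (CohTop.HU ((abTower G).obj (op n)) i V) := by
  obtain ⟨k, rfl⟩ := Nat.exists_eq_add_of_le' hi
  haveI : (G.obj (op n)).IsQuasicoherent := hG.1 n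
  exact LocCoh.Punctured.subsingleton_HU_of_isAffineOpen (G.obj (op n)) hV k

theorem conc (hG : Formal2.IsQCohFormal I G) (U : Opens X.toTopCat) (j : ℕ) :
    CohTop.TowerMilnor.Conc (abTower G) U j :=
  CohTop.TowerMilnor.conc (affs X) isBasis_affs U j (abTower G) (surj_affine hG) (van_affine hG)

theorem subsingleton_HU_limit (hG : Formal2.IsQCohFormal I G) (U : Opens X.toTopCat) (hU : U ∈ affs X) (p : ℕ)
    (hp : 0 < p) : Subsingleton (CohTop.HU (X := X.toTopCat) (limit (abTower G)) p U) := by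
  obtain ⟨j, rfl⟩ := Nat.exists_eq_add_of_le' hp
  obtain ⟨-, ⟨e⟩⟩ := conc hG U j
  have h0 : Subsingleton (Formal2.limOne (fun n : ℕ => CohTop.HU ((abTower G).obj (op n)) j U)
      (fun n : ℕ => CohTop.HUmap ((abTower G).map (homOfLE (Nat.le_succ n)).op) j U)) := by
    have hs : Function.Surjective (Formal2.towerDiff (fun n : ℕ => CohTop.HU ((abTower G).obj (op n)) j U)
        (fun n : ℕ => CohTop.HUmap ((abTower G).map (homOfLE (Nat.le_succ n)).op) j U)) := by
      refine LimTower.Equiv.towerDiff_surjective _ _ fun n y => ?_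
      rcases Nat.eq_zero_or_pos j with rfl | hj
      · obtain ⟨x, hx⟩ := surj_affine hG U hU n (CohTop.Basic.HU0Equiv _ U y)
        refine ⟨(CohTop.Basic.HU0Equiv _ U).symm x, (CohTop.Basic.HU0Equiv _ U).injective ?_⟩
        rw [CohTop.Basic.HU0Equiv_map, AddEquiv.apply_symm_apply, hx]
      · haveI := van_affine hG U hU n j hj
        exact ⟨0, Subsingleton.elim _ _⟩
    refine subsingleton_of_forall_eq 0 fun c => ?_
    obtain ⟨a, rfl⟩ := QuotientAddGroup.mk'_surjective _ c
    exact (QuotientAddGroup.eq_zero_iff _).2 (hs a)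
  refine subsingleton_of_forall_eq 0 fun x => ?_
  have hx : x ∈ (AddMonoidHom.pi fun n : ℕ =>
      CohTop.HUmap (limit.π (abTower G) (op n)) (j + 1) U).ker := funext fun n => by
    haveI := van_affine hG U hU n (j + 1) (Nat.succ_pos j)
    exact Subsingleton.elim _ _
  exact congrArg Subtype.val (e.injective (Subsingleton.elim (e ⟨x, hx⟩) (e 0)))

theorem subsingleton_HHon_limit (hG : Formal2.IsQCohFormal I G) (U : X.Opens) (hU : IsAffineOpen U) (p : ℕ)
    (hp : 0 < p) : Subsingleton (Coh.HHon X (limit G) U p) := by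
  haveI := subsingleton_HU_limit hG U hU p hp
  have hsub : Subsingleton (CohTop.HU (X := X.toTopCat) (Coh.toAb (limit G)) p U) := by
    refine ⟨fun a b => ?_⟩
    have h : ∀ x : CohTop.HU (X := X.toTopCat) (Coh.toAb (limit G)) p U,
        CohTop.HUmap (limIso G).inv p U (CohTop.HUmap (limIso G).hom p U x) = x := fun x => by
      rw [← CohTop.Basic.HUmap_comp, Iso.hom_inv_id, CohTop.Basic.HUmap_id]
    rw [← h a, ← h b]
    exact congrArg _ (@Subsingleton.elim _ (subsingleton_HU_limit hG U hU p hp) _ _)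
  exact @Equiv.subsingleton _ _ (CohTop.Restrict.HUEquivRestr (Coh.toAb (limit G)) U p).symm.toEquiv hsub

set_option maxHeartbeats 800000 in
theorem exists_milnor (hG : Formal2.IsQCohFormal I G) (p : ℕ) :
    ∃ (α : Formal2.limOne (fun n => Coh.HH X (G.obj (op n)) p) (Formal2.HHsysMap G p) →+
        Coh.HH X (limit G) (p + 1))
      (β : Coh.HH X (limit G) (p + 1) →+
        Formal2.limZero (fun n => Coh.HH X (G.obj (op n)) (p + 1)) (Formal2.HHsysMap G (p + 1))),
      Function.Injective α ∧ Function.Surjective β ∧ α.range = β.ker ∧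
      ∀ (x : Coh.HH X (limit G) (p + 1)) (n : ℕ),
        (β x : ∀ n, Coh.HH X (G.obj (op n)) (p + 1)) n =
          Sheaf.H.map ((SheafOfModules.toSheaf _).map (limit.π G (op n))) (p + 1) x := by
  obtain ⟨hs, ⟨e⟩⟩ := conc hG ⊤ p
  let E := fun (F : CohTop.Ab X.toTopCat) (n : ℕ) => CohTop.Basic.HEquivHUTop F n
  let π' : ∀ n : ℕ, Coh.HH X (limit G) (p + 1) →+ Coh.HH X (G.obj (op n)) (p + 1) := fun n =>
    Sheaf.H.map ((SheafOfModules.toSheaf _).map (limit.π G (op n))) (p + 1)
  let E' : Coh.HH X (limit G) (p + 1) ≃+ CohTop.HU (X := X.toTopCat) (limit (abTower G)) (p + 1) ⊤ :=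
    (E (Coh.toAb (limit G)) (p + 1)).trans
      { toFun := CohTop.HUmap (limIso G).hom (p + 1) ⊤
        invFun := CohTop.HUmap (limIso G).inv (p + 1) ⊤
        left_inv := fun x => by rw [← CohTop.Basic.HUmap_comp, Iso.hom_inv_id, CohTop.Basic.HUmap_id]
        right_inv := fun x => by rw [← CohTop.Basic.HUmap_comp, Iso.inv_hom_id, CohTop.Basic.HUmap_id]
        map_add' := map_add _ }
  have hπ : ∀ (n : ℕ) (x : Coh.HH X (limit G) (p + 1)),
      CohTop.HUmap (limit.π (abTower G) (op n)) (p + 1) ⊤ (E' x) = E _ (p + 1) (π' n x) := fun n x => by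
    refine ((CohTop.Basic.HUmap_comp _ _ _ _ _).symm.trans ?_)
    rw [limIso_π]
    exact (CohTop.Basic.HEquivHUTop_map _ _ x).symm
  have hcompat : ∀ x, AddMonoidHom.pi π' x ∈
      Formal2.limZero (fun n => Coh.HH X (G.obj (op n)) (p + 1)) (Formal2.HHsysMap G (p + 1)) := fun x => by
    refine funext fun n => sub_eq_zero.mpr ?_
    show π' n x = Sheaf.H.map _ (p + 1) (π' (n + 1) x)
    show _ = Sheaf.H.map _ (p + 1) (Sheaf.H.map _ (p + 1) x)
    rw [Formal.HHmap_comp]
    exact congrArg (fun f => Sheaf.H.map ((SheafOfModules.toSheaf _).map f) (p + 1) x) (limit.w G (homOfLE (Nat.le_succ n)).op).symm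
  let β := (AddMonoidHom.pi π').codRestrict _ hcompat
  have hker : β.ker.map E'.toAddMonoidHom =
      (AddMonoidHom.pi fun n : ℕ => CohTop.HUmap (limit.π (abTower G) (op n)) (p + 1) ⊤).ker := by
    ext y
    constructor
    · rintro ⟨x, hx, rfl⟩
      refine funext fun n => (hπ n x).trans ?_
      rw [show π' n x = 0 from congrFun (congrArg Subtype.val hx) n, map_zero]
      rfl
    · intro hy
      refine ⟨E'.symm y, Subtype.ext (funext fun n => (E _ (p + 1)).injective ?_), E'.apply_symm_apply y⟩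
      refine ((hπ n _).symm.trans ?_).trans (map_zero (E _ (p + 1))).symm
      rw [AddEquiv.apply_symm_apply]
      exact congrFun hy n
  obtain ⟨c⟩ := LimTower.Equiv.congrLimOne (A := fun n : ℕ => Coh.HH X (G.obj (op n)) p)
    (B := fun n : ℕ => CohTop.HU ((abTower G).obj (op n)) p (⊤ : Opens X.toTopCat))
    (Formal2.HHsysMap G p) (fun n : ℕ => CohTop.HUmap ((abTower G).map (homOfLE (Nat.le_succ n)).op) p ⊤)
    (fun n => E _ p) (fun n x => CohTop.Basic.HEquivHUTop_map _ p x)
  let k : Formal2.limOne (fun n => Coh.HH X (G.obj (op n)) p) (Formal2.HHsysMap G p) ≃+ β.ker :=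
    (c.trans e.symm).trans ((AddSubgroup.equivMapOfInjective β.ker E'.toAddMonoidHom E'.injective).trans
      (AddEquiv.addSubgroupCongr hker)).symm
  refine ⟨β.ker.subtype.comp k.toAddMonoidHom, β, Subtype.val_injective.comp k.injective, fun ξ => ?_, ?_,
    fun x n => rfl⟩
  · obtain ⟨η, hη⟩ := hs (fun n => E _ (p + 1) (ξ.1 n)) fun n => by
      refine (CohTop.Basic.HEquivHUTop_map _ (p + 1) _).symm.trans (congrArg _ ?_)
      exact (sub_eq_zero.mp (congrFun ξ.2 n)).symm
    refine ⟨E'.symm η, Subtype.ext (funext fun n => (E _ (p + 1)).injective ?_)⟩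
    refine (hπ n _).symm.trans ?_
    rw [AddEquiv.apply_symm_apply]
    exact hη n
  · rw [AddMonoidHom.range_comp, AddMonoidHom.range_eq_top.mpr k.surjective, ← AddMonoidHom.range_eq_map,
      AddSubgroup.range_subtype]

end Groth.Agent.Formal61.Limit
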