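import Groth.Agent.Formal61.Sys

/-!
# On a Noetherian scheme finitely many elements of an ideal of the base suffice
-/

set_option autoImplicit false
universe u

open CategoryTheory CategoryTheory.Limits AlgebraicGeometry Opposite TopologicalSpace

noncomputable section

namespace Groth.Agent.Formal61.GenFin

variable {A : Type u} [CommRing A] {X : Scheme.{u}} [X.Over (Spec (CommRingCat.of A))]

theorem gA_res {U W : X.Opens} (h : W ≤ U) (a : A) :
    X.presheaf.map (homOfLE h).op (FormalFun.gA (A := A) U a) = FormalFun.gA (A := A) W a := by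
  show X.presheaf.map (homOfLE h).op (X.presheaf.map (homOfLE (le_top : U ≤ ⊤)).op _) =
    X.presheaf.map (homOfLE (le_top : W ≤ ⊤)).op _
  exact congr($((X.presheaf.map_comp (homOfLE (le_top : U ≤ ⊤)).op (homOfLE h).op).symm)
    (Coh.toGlobal (X ↘ Spec (CommRingCat.of A)) a))

/-- A morphism of modules vanishing on all opens inside members of a cover is zero. -/
theorem hom_eq_zero_of_cover {M N : X.Modules} (φ : M ⟶ N)
    (h : ∀ x : X, ∃ U : X.Opens, x ∈ U ∧ ∀ W : X.Opens, W ≤ U → φ.app W = 0) : φ = 0 := by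
  choose U hxU hU using h
  refine Scheme.Modules.hom_ext _ _ fun V => ?_
  ext s
  refine TopCat.Sheaf.eq_of_locally_eq' ⟨N.presheaf, N.isSheaf⟩ (fun x : V => V ⊓ U x.1) V
    (fun x => homOfLE inf_le_left)
    (fun y hy => TopologicalSpace.Opens.mem_iSup.2 ⟨⟨y, hy⟩, hy, hxU y⟩) _ _ fun x => ?_
  have n := congr($(φ.mapPresheaf.naturality (homOfLE (inf_le_left : V ⊓ U x.1 ≤ V)).op) s)
  refine n.symm.trans ?_
  change φ.app (V ⊓ U x.1) _ = _
  rw [hU x.1 _ inf_le_right]
  exact (map_zero (N.presheaf.map (homOfLE (inf_le_left : V ⊓ U x.1 ≤ V)).op).hom).symm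

variable (X) in
/-- Finitely many elements of `J` generate `J O_X`: a map killing them kills all of `J`. -/
theorem exists_finset [IsLocallyNoetherian X] [CompactSpace X] (J : Ideal A) :
    ∃ s : Finset A, (↑s : Set A) ⊆ J ∧
      ∀ (M T : X.Modules) (t : M ⟶ T), (∀ a ∈ s, Formal.smulMod A M a ≫ t = 0) →
        ∀ a ∈ J, Formal.smulMod A M a ≫ t = 0 := by
  classical
  have hloc : ∀ x : X, ∃ (U : X.Opens) (s : Finset A), x ∈ U ∧ (↑s : Set A) ⊆ J ∧
      ∀ a ∈ J, FormalFun.gA (A := A) U a ∈ Ideal.span (FormalFun.gA (A := A) U '' (↑s : Set A)) := by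
    intro x
    obtain ⟨U, hU, hx, -⟩ := exists_isAffineOpen_mem_and_subset (X := X) (TopologicalSpace.Opens.mem_top x)
    haveI : IsNoetherianRing Γ(X, U) := IsLocallyNoetherian.component_noetherian ⟨U, hU⟩
    obtain ⟨s', hs', hfin⟩ := Submodule.fg_span_iff_fg_span_finset_subset
      (R := Γ(X, U)) (FormalFun.gA (A := A) U '' (J : Set A)) |>.1 (IsNoetherian.noetherian _)
    obtain ⟨s, hs, rfl⟩ := Finset.subset_set_image_iff.1 hs'
    refine ⟨U, s, hx, hs, fun a ha => ?_⟩
    have := hfin ▸ Submodule.subset_span (R := Γ(X, U)) (Set.mem_image_of_mem (FormalFun.gA (A := A) U) ha)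
    rwa [Finset.coe_image] at this
  choose U s hxU hs hgen using hloc
  obtain ⟨F, hF⟩ := CompactSpace.elim_nhds_subcover (fun x => (U x : Set X)) fun x => (U x).2.mem_nhds (hxU x)
  refine ⟨F.biUnion s, fun a ha => ?_, fun M T t ht a ha => ?_⟩
  · obtain ⟨x, -, hx⟩ := Finset.mem_biUnion.1 ha
    exact hs x hx
  · refine hom_eq_zero_of_cover _ fun y => ?_
    obtain ⟨x, hxF, hyx⟩ : ∃ x ∈ F, y ∈ U x := by
      have : y ∈ ⋃ x ∈ F, (U x : Set X) := hF.symm ▸ Set.mem_univ y
      simpa using this
    refine ⟨U x, hyx, fun W hW => ?_⟩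
    ext m
    let r := X.presheaf.map (homOfLE hW).op
    have hmem : ∀ c ∈ Ideal.span (FormalFun.gA (A := A) (U x) '' (↑(s x) : Set A)),
        ∀ m : Γ(M, W), t.app W (r c • m) = 0 := by
      intro c hc
      induction hc using Submodule.span_induction with
      | mem c hc =>
        intro m
        obtain ⟨b, hb, rfl⟩ := hc
        rw [show r (FormalFun.gA (A := A) (U x) b) = FormalFun.gA (A := A) W b from gA_res hW b,
          ← FormalFun.smulMod_app]
        exact congr($(ht b (Finset.mem_biUnion.2 ⟨x, hxF, hb⟩)).app W m)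
      | zero => intro m; rw [map_zero, zero_smul, map_zero]
      | add c d _ _ hc hd => intro m; rw [map_add, add_smul, map_add, hc m, hd m, add_zero]
      | smul d c _ hc => intro m; rw [smul_eq_mul, map_mul, mul_comm, mul_smul, hc (r d • m)]
    have := hmem _ (hgen x a ha) m
    rw [show r (FormalFun.gA (A := A) (U x) a) = FormalFun.gA (A := A) W a from gA_res hW a,
      ← FormalFun.smulMod_app] at this
    exact this

/-- An additive linear right exact functor preserves quotients by `J`. -/
theorem isModQuot_map [IsLocallyNoetherian X] [CompactSpace X] (Φ : X.Modules ⥤ X.Modules) [Φ.Additive]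
    [PreservesFiniteColimits Φ]
    (hΦ : ∀ (N : X.Modules) (a : A), Φ.map (Formal.smulMod A N a) = Formal.smulMod A (Φ.obj N) a)
    {J : Ideal A} {M N : X.Modules} {π : M ⟶ N} (hπ : Sys.IsModQuot J π) :
    Sys.IsModQuot J (Φ.map π) := by
  classical
  obtain ⟨s, hs, hkey⟩ := exists_finset X J
  haveI := hπ.epi
  let a : (↥s) → A := fun k => k.1
  let f : (↥s) → (M ⟶ M) := fun k => Formal.smulMod A M (a k)
  let c := biproduct.desc f
  have hc : c ≫ π = 0 := by
    apply biproduct.hom_ext'
    intro k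
    rw [comp_zero, ← Category.assoc, biproduct.ι_desc]
    exact hπ.condition _ (hs k.2)
  have hcok : IsColimit (CokernelCofork.ofπ π hc) := by
    refine CokernelCofork.IsColimit.ofπ' π hc fun {Z} φ hφ => ?_
    have h := hπ.exists_desc φ (hkey M Z φ fun b hb => by
      have := biproduct.ι (fun _ : ↥s => M) ⟨b, hb⟩ ≫= hφ
      rw [comp_zero, ← Category.assoc, biproduct.ι_desc] at this
      exact this)
    exact ⟨h.choose, h.choose_spec⟩
  haveI : Epi (Φ.map π) := Φ.map_epi π
  refine Sys.IsModQuot.mk' (fun b hb => ?_) fun Z φ hφ => ?_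
  · rw [← hΦ, ← Φ.map_comp, hπ.condition b hb, Φ.map_zero]
  · have h' : Φ.map c ≫ φ = 0 := by
      have hid : c = ∑ k, biproduct.π (fun _ : ↥s => M) k ≫ f k := by
        apply biproduct.hom_ext'
        intro j
        rw [biproduct.ι_desc, Preadditive.comp_sum, Finset.sum_eq_single j
          (fun k _ hk => by rw [biproduct.ι_π_ne_assoc _ (Ne.symm hk), zero_comp]) (by simp),
          biproduct.ι_π_self_assoc]
      rw [hid, Functor.map_sum, Preadditive.sum_comp]
      refine Finset.sum_eq_zero fun k _ => ?_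
      rw [Functor.map_comp, Category.assoc, hΦ, hφ _ (hs k.2), comp_zero]
    exact ⟨_, ((CokernelCofork.mapIsColimit _ hcok Φ).fac (CokernelCofork.ofπ φ h') WalkingParallelPair.one)⟩

end Groth.Agent.Formal61.GenFin
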