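import Groth.Agent.Formal61.Sec0
import Mathlib.AlgebraicGeometry.Noetherian

/-!
# Pointwise calculus for sections of `M~`
-/

set_option autoImplicit false
universe u

open CategoryTheory Opposite AlgebraicGeometry TopologicalSpace

noncomputable section

namespace Groth.Agent.Formal61.Sec0

variable {A : Type u} [CommRing A]
variable {M N P Q T : Type u} [AddCommGroup M] [Module A M] [AddCommGroup N] [Module A N] [AddCommGroup P] [Module A P]
  [AddCommGroup Q] [Module A Q] [AddCommGroup T] [Module A T]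
variable {V W : (Spec (CommRingCat.of A)).Opens}

theorem lm_comp (z : PrimeSpectrum A) (p : M →ₗ[A] N) (q : N →ₗ[A] P) (v : Lp z M) :
    lm z (q.comp p) v = lm z q (lm z p v) := by
  induction v using LocalizedModule.induction_on with
  | _ m s => simp only [lm_mk, LinearMap.comp_apply]

theorem lm_id (z : PrimeSpectrum A) (v : Lp z M) : lm z (LinearMap.id : M →ₗ[A] M) v = v := by
  induction v using LocalizedModule.induction_on with
  | _ m s => simp only [lm_mk, LinearMap.id_apply]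

theorem mk_eq_zero {z : PrimeSpectrum A} {m : M} {s : z.asIdeal.primeCompl} :
    (LocalizedModule.mk m s : Lp z M) = 0 ↔ ∃ h ∉ z.asIdeal, h • m = 0 := by
  rw [← LocalizedModule.zero_mk s, LocalizedModule.mk_eq]
  constructor
  · rintro ⟨c, hc⟩
    simp only [smul_zero, Submonoid.smul_def, smul_smul] at hc
    exact ⟨_, (c * s).2, hc⟩
  · rintro ⟨h, hh, e⟩
    refine ⟨⟨h, hh⟩, ?_⟩
    simp only [smul_zero, Submonoid.smul_def]
    rw [smul_comm, e, smul_zero]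

theorem smul_bijective {z : PrimeSpectrum A} {a : A} (ha : a ∉ z.asIdeal) :
    Function.Bijective fun v : Lp z M => a • v := by
  have h := (Module.End.isUnit_iff _).mp
    (IsLocalizedModule.map_units (S := z.asIdeal.primeCompl) (LocalizedModule.mkLinearMap z.asIdeal.primeCompl M) ⟨a, ha⟩)
  exact h

theorem smul_eq_zero_iff' {z : PrimeSpectrum A} {a : A} (ha : a ∉ z.asIdeal) {v : Lp z M} :
    a • v = 0 ↔ v = 0 :=
  ⟨fun h => (smul_bijective ha).1 (h.trans (smul_zero a).symm), fun h => by rw [h, smul_zero]⟩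

/-- Localisation preserves containment of kernels. -/
theorem lm_eq_zero_of_ker_le {z : PrimeSpectrum A} {p : P →ₗ[A] Q} {t : P →ₗ[A] T}
    (h : LinearMap.ker p ≤ LinearMap.ker t) {v : Lp z P} (hv : lm z p v = 0) : lm z t v = 0 := by
  induction v using LocalizedModule.induction_on with
  | _ m s =>
    rw [lm_mk, mk_eq_zero] at hv ⊢
    obtain ⟨c, hc, e⟩ := hv
    refine ⟨c, hc, ?_⟩
    rw [← map_smul] at e ⊢
    exact h e

theorem lm_injective {z : PrimeSpectrum A} {p : P →ₗ[A] Q} (hp : Function.Injective p) :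
    Function.Injective (lm z p) := by
  rw [injective_iff_map_eq_zero]
  intro v hv
  have := lm_eq_zero_of_ker_le (t := (LinearMap.id : P →ₗ[A] P))
    (by rw [LinearMap.ker_eq_bot.mpr hp]; exact bot_le) hv
  rwa [lm_id] at this

/-- Modules killed by `I` vanish off `V(I)`. -/
theorem eq_zero_of_not_mem {z : PrimeSpectrum A} {I : Ideal A} (hz : z ∉ PrimeSpectrum.zeroLocus (I : Set A))
    {n : ℕ} (h : ∀ a ∈ I ^ n, ∀ m : M, a • m = 0) (v : Lp z M) : v = 0 := by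
  rw [PrimeSpectrum.mem_zeroLocus, Set.not_subset] at hz
  obtain ⟨a, haI, ha⟩ := hz
  induction v using LocalizedModule.induction_on with
  | _ m s =>
    rw [mk_eq_zero]
    exact ⟨a ^ n, fun hn => ha (z.isPrime.mem_of_pow_mem n hn), h _ (Ideal.pow_mem_pow haI n) m⟩

theorem loc_mk (m : M) : Loc (V := V) fun z => (LocalizedModule.mk m 1 : Lp z.1 M) :=
  fun z => ⟨V, z.2, le_rfl, m, 1, fun w => ⟨fun h => w.1.isPrime.ne_top ((Ideal.eq_top_iff_one _).2 h), rfl⟩⟩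

theorem Loc.smul {s : ∀ z : V, Lp z.1 M} (hs : Loc s) (r : A) : Loc fun z => r • s z := fun z => by
  obtain ⟨W, hW, h, m, a, hma⟩ := hs z
  refine ⟨W, hW, h, r • m, a, fun w => ?_⟩
  obtain ⟨ha, e⟩ := hma w
  exact ⟨ha, (congrArg (r • ·) e).trans (LocalizedModule.smul'_mk _ _ _)⟩

theorem Loc.add {s t : ∀ z : V, Lp z.1 M} (hs : Loc s) (ht : Loc t) : Loc fun z => s z + t z := fun z => by
  obtain ⟨W₁, hW₁, h₁, m₁, a₁, e₁⟩ := hs z
  obtain ⟨W₂, hW₂, h₂, m₂, a₂, e₂⟩ := ht z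
  refine ⟨W₁ ⊓ W₂, ⟨hW₁, hW₂⟩, inf_le_left.trans h₁, a₂ • m₁ + a₁ • m₂, a₁ * a₂, fun w => ?_⟩
  obtain ⟨ha₁, f₁⟩ := e₁ ⟨w.1, w.2.1⟩
  obtain ⟨ha₂, f₂⟩ := e₂ ⟨w.1, w.2.2⟩
  exact ⟨w.1.asIdeal.primeCompl.mul_mem ha₁ ha₂,
    (congrArg₂ (· + ·) f₁ f₂).trans (LocalizedModule.mk_add_mk (s1 := ⟨a₁, ha₁⟩) (s2 := ⟨a₂, ha₂⟩) ..)⟩

theorem Loc.map {s : ∀ z : V, Lp z.1 M} (hs : Loc s) (φ : M →ₗ[A] N) : Loc fun z => lm z.1 φ (s z) := fun z => by
  obtain ⟨W, hW, h, m, a, hma⟩ := hs z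
  refine ⟨W, hW, h, φ m, a, fun w => ?_⟩
  obtain ⟨ha, e⟩ := hma w
  exact ⟨ha, (congrArg (lm w.1 φ) e).trans (lm_mk _ _ _ _)⟩

theorem Loc.sub {s t : ∀ z : V, Lp z.1 M} (hs : Loc s) (ht : Loc t) : Loc fun z => s z - t z := by
  convert hs.add (ht.smul (-1)) using 2
  rw [sub_eq_add_neg, neg_one_smul]

theorem Loc.res {s : ∀ z : V, Lp z.1 M} (hs : Loc s) (hWV : W ≤ V) :
    Loc fun z : W => s ⟨z.1, hWV z.2⟩ := fun z => by
  obtain ⟨W', hW', h, m, a, hma⟩ := hs ⟨z.1, hWV z.2⟩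
  exact ⟨W' ⊓ W, ⟨hW', z.2⟩, inf_le_right, m, a, fun w => hma ⟨w.1, w.2.1⟩⟩

/-- Exactness at a point. -/
theorem exists_lm_eq {p : P →ₗ[A] Q} {q : Q →ₗ[A] M} (hpq : LinearMap.ker q ≤ LinearMap.range p) {z : PrimeSpectrum A}
    {v : Lp z Q} (hv : lm z q v = 0) : ∃ v' : Lp z P, lm z p v' = v := by
  induction v using LocalizedModule.induction_on with
  | _ m a =>
    rw [lm_mk, mk_eq_zero] at hv
    obtain ⟨c, hc, e⟩ := hv
    rw [← map_smul] at e
    obtain ⟨m', hm'⟩ := hpq (x := c • m) e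
    refine ⟨LocalizedModule.mk m' (⟨c, hc⟩ * a), ?_⟩
    rw [lm_mk, hm']
    exact LocalizedModule.mk_cancel_common_left ⟨c, hc⟩ a m

/-- Lifting of a section through an exact sequence. -/
theorem exists_lift {p : P →ₗ[A] Q} {q : Q →ₗ[A] M} {t : P →ₗ[A] T} (hpq : LinearMap.ker q ≤ LinearMap.range p)
    (ht : LinearMap.ker p ≤ LinearMap.ker t) {s : ∀ z : V, Lp z.1 Q} (hs : Loc s) (hq : ∀ z, lm z.1 q (s z) = 0) :
    ∃ w : Formal2.HV A T 0 V, ∀ (z : V) (v : Lp z.1 P), lm z.1 p v = s z → val w z = lm z.1 t v := by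
  have hex : ∀ z : V, ∃ v : Lp z.1 P, lm z.1 p v = s z := fun z => exists_lm_eq hpq (hq z)
  choose v hv using hex
  have huniq : ∀ (z : V) (v' : Lp z.1 P), lm z.1 p v' = s z → lm z.1 t (v z) = lm z.1 t v' := fun z v' h' => by
    rw [← sub_eq_zero, ← map_sub]
    exact lm_eq_zero_of_ker_le ht (by rw [map_sub, hv, h', sub_self])
  have hloc : Loc fun z => lm z.1 t (v z) := fun z => by
    obtain ⟨W, hW, h, m, a, hma⟩ := hs z
    obtain ⟨ha, e⟩ := hma ⟨z.1, hW⟩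
    have hz := hq z
    rw [e, lm_mk, mk_eq_zero] at hz
    obtain ⟨c, hc, e'⟩ := hz
    rw [← map_smul] at e'
    obtain ⟨m', hm'⟩ := hpq (x := c • m) e'
    refine ⟨W ⊓ PrimeSpectrum.basicOpen c, ⟨hW, hc⟩, inf_le_left.trans h, t m', c * a, fun w => ?_⟩
    obtain ⟨ha', ew⟩ := hma ⟨w.1, w.2.1⟩
    have hcw : c ∉ w.1.asIdeal := w.2.2
    refine ⟨w.1.asIdeal.primeCompl.mul_mem hcw ha', ?_⟩
    refine (huniq ⟨w.1, h w.2.1⟩ (LocalizedModule.mk m' (⟨c, hcw⟩ * ⟨a, ha'⟩)) ?_).trans (lm_mk _ _ _ _)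
    rw [lm_mk, hm']
    exact (LocalizedModule.mk_cancel_common_left (⟨c, hcw⟩ : w.1.asIdeal.primeCompl) ⟨a, ha'⟩ m).trans ew.symm
  obtain ⟨w, hw⟩ := exists_val_eq hloc
  exact ⟨w, fun z v' h' => (hw z).trans (huniq z v' h')⟩

/-- An element vanishing on a basic open is killed by a power. -/
theorem exists_pow_smul_eq_zero (d : M) (e : A)
    (h : ∀ z : PrimeSpectrum A, e ∉ z.asIdeal → (LocalizedModule.mk d 1 : Lp z M) = 0) :
    ∃ l : ℕ, e ^ l • d = 0 := by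
  let K : Ideal A := LinearMap.ker (LinearMap.toSpanSingleton A M d)
  have he : e ∈ K.radical := by
    rw [Ideal.radical_eq_sInf, Ideal.mem_sInf]
    rintro J ⟨hJK, hJ⟩
    by_contra heJ
    obtain ⟨c, hc, ec⟩ := mk_eq_zero.1 (h ⟨J, hJ⟩ heJ)
    exact hc (hJK (LinearMap.mem_ker.2 ec))
  obtain ⟨l, hl⟩ := he
  exact ⟨l, LinearMap.mem_ker.1 hl⟩

/-- A section times a suitable element is a global element. -/
theorem exists_numerator [IsNoetherianRing A] {s : ∀ z : V, Lp z.1 M} (hs : Loc s) (z₀ : V) :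
    ∃ (j : A) (m : M), j ∉ z₀.1.asIdeal ∧ ∀ z : V, j • s z = LocalizedModule.mk m 1 := by
  classical
  have hloc : ∀ z : V, ∃ (c : A) (m : M), c ∉ z.1.asIdeal ∧
      (∀ w : PrimeSpectrum A, c ∉ w.asIdeal → w ∈ V) ∧
      ∀ w : V, c ∉ w.1.asIdeal → c • s w = LocalizedModule.mk m 1 := fun z => by
    obtain ⟨W, hW, h, m, a, hma⟩ := hs z
    obtain ⟨_, ⟨b, rfl⟩, hzb, hbW⟩ := PrimeSpectrum.isTopologicalBasis_basic_opens.exists_subset_of_mem_open hW W.2
    obtain ⟨ha, -⟩ := hma ⟨z.1, hW⟩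
    refine ⟨b * a, b • m, fun hba => (z.1.isPrime.mem_or_mem hba).elim hzb ha,
      fun w hw => h (hbW fun hb => hw (Ideal.mul_mem_right _ _ hb)), fun w hw => ?_⟩
    have hbw : w.1 ∈ W := hbW fun hb => hw (Ideal.mul_mem_right _ _ hb)
    obtain ⟨ha', e⟩ := hma ⟨w.1, hbw⟩
    refine (congrArg ((b * a) • ·) e).trans ?_
    show (b * a) • LocalizedModule.mk m _ = _
    rw [LocalizedModule.smul'_mk, mul_smul, smul_comm]
    exact LocalizedModule.mk_cancel ⟨a, ha'⟩ (b • m)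
  obtain ⟨b, m₀, hb, hbV, hbm⟩ := hloc z₀
  choose c mc hc hcV hcm using hloc
  haveI : NoetherianSpace (PrimeSpectrum A) := inferInstance
  obtain ⟨t, ht⟩ := (NoetherianSpace.isCompact (V.carrier : Set (PrimeSpectrum A))).elim_finite_subcover
    (fun z : V => (PrimeSpectrum.basicOpen (c z) : Set (PrimeSpectrum A)))
    (fun z => (PrimeSpectrum.basicOpen (c z)).2) fun z hz => Set.mem_iUnion.2 ⟨⟨z, hz⟩, hc ⟨z, hz⟩⟩
  have hk : ∀ z : V, ∃ l : ℕ, (b * c z) ^ l • (b • mc z - c z • m₀) = 0 := fun z =>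
    exists_pow_smul_eq_zero _ _ fun w hw => by
      have hbw : b ∉ w.asIdeal := fun h => hw (Ideal.mul_mem_right _ _ h)
      have hcw : c z ∉ w.asIdeal := fun h => hw (Ideal.mul_mem_left _ _ h)
      have hwV : w ∈ V := hbV w hbw
      have e1 := hbm ⟨w, hwV⟩ hbw
      have e2 := hcm z ⟨w, hwV⟩ hcw
      rw [← LocalizedModule.mkLinearMap_apply, map_sub, map_smul, map_smul, LocalizedModule.mkLinearMap_apply,
        LocalizedModule.mkLinearMap_apply, ← e1, ← e2, smul_comm, sub_self]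
  choose l hl using hk
  let L := t.sup l
  refine ⟨b ^ (L + 1), b ^ L • m₀, fun h => hb (z₀.1.isPrime.mem_of_pow_mem _ h), fun w => ?_⟩
  obtain ⟨z, hzt, hwz⟩ := Set.mem_iUnion₂.1 (ht w.2)
  have hcw : c z ∉ w.1.asIdeal := hwz
  have h0 : (b * c z) ^ L • (b • mc z - c z • m₀) = 0 := by
    rw [show L = (L - l z) + l z by have := Finset.le_sup (f := l) hzt; omega, pow_add, mul_smul, hl z, smul_zero]
  rw [← sub_eq_zero, ← smul_eq_zero_iff' (fun h => hcw (w.1.isPrime.mem_of_pow_mem (L + 1) h))]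
  have e2 := hcm z w hcw
  have h1 := congrArg (LocalizedModule.mkLinearMap w.1.asIdeal.primeCompl M) h0
  rw [map_smul, map_sub, map_smul, map_smul, map_zero, LocalizedModule.mkLinearMap_apply,
    LocalizedModule.mkLinearMap_apply, ← e2] at h1
  rw [← h1, ← LocalizedModule.mkLinearMap_apply, map_smul, LocalizedModule.mkLinearMap_apply]
  module

end Groth.Agent.Formal61.Sec0
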