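import Groth.Agent.Formal61.Affine
import Groth.Agent.Formal61.GenFin
import Groth.Agent.Formal61.SecPt
import Groth.Agent.QCoh.Qcqs

/-!
# Quasi-coherent modules on a punctured spectrum as `Γ(U, G)~|U`
-/

set_option autoImplicit false
universe u

open CategoryTheory CategoryTheory.Limits AlgebraicGeometry Opposite TopologicalSpace
open Groth.Agent.FormalSupp

noncomputable section

namespace Groth.Agent.Formal61.Model

variable {A : Type u} [CommRing A] (V : (Spec (CommRingCat.of A)).Opens)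

/-- Global sections of a module on `V`, as a module over `A`. -/
def Γf : (V : Scheme.{u}).Modules ⥤ ModuleCat.{u} A :=
  Scheme.Modules.pushforward V.ι ⋙ moduleSpecΓFunctor (R := CommRingCat.of A)

/-- `Φ` is left adjoint to the global sections. -/
def adj : Affine.Φ V ⊣ Γf V :=
  (tilde.adjunction (R := CommRingCat.of A)).comp (Scheme.Modules.restrictAdjunction V.ι)

instance : (Γf V).IsRightAdjoint := (adj V).isRightAdjoint

instance : (Γf V).Additive := (adj V).right_adjoint_additive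

theorem isIso_counit [QuasiCompact V.ι] (G : (V : Scheme.{u}).Modules) [G.IsQuasicoherent] :
    IsIso ((adj V).counit.app G) := by
  haveI : ((Scheme.Modules.pushforward V.ι).obj G).IsQuasicoherent := QCoh.isQuasicoherent_pushforward V.ι G
  haveI h1 : IsIso ((tilde.adjunction (R := CommRingCat.of A)).counit.app ((Scheme.Modules.pushforward V.ι).obj G)) :=
    (isQuasicoherent_iff_isIso_fromTildeΓ ((Scheme.Modules.pushforward V.ι).obj G)).mp ‹_›
  rw [adj, Adjunction.comp_counit_app]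
  haveI h2 : IsIso ((Scheme.Modules.restrictFunctor V.ι).map
      ((tilde.adjunction (R := CommRingCat.of A)).counit.app ((Scheme.Modules.pushforward V.ι).obj G))) :=
    inferInstance
  haveI h3 : IsIso ((Scheme.Modules.restrictAdjunction V.ι).counit.app G) := inferInstance
  exact @IsIso.comp_isIso _ _ _ _ _ _ _ h2 h3

/-- Quasi-coherent modules on `V` are of the form `H~|V`. -/
def counitIso [QuasiCompact V.ι] (G : (V : Scheme.{u}).Modules) [G.IsQuasicoherent] :
    (Affine.Φ V).obj ((Γf V).obj G) ≅ G :=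
  haveI := isIso_counit V G
  asIso ((adj V).counit.app G)

theorem Γf_smul (G : (V : Scheme.{u}).Modules) (a : A) :
    (Γf V).map (Formal.smulMod A G a) =
    a • 𝟙 ((Γf V).obj G) := by
  apply ((adj V).homEquiv _ _).symm.injective
  refine ((adj V).homEquiv_counit _ _ _).trans (Eq.trans ?_ ((adj V).homEquiv_counit _ _ _).symm)
  refine ((adj V).counit.naturality (Formal.smulMod A G a)).trans ?_
  refine (FormalFun.smulMod_natural ((adj V).counit.app G) a).symm.trans ?_
  exact congrArg (· ≫ (adj V).counit.app G) (Affine.Φ_smul V ((Γf V).obj G) a).symm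

theorem Γf_smul_apply (G : (V : Scheme.{u}).Modules) (a : A) (x : (Γf V).obj G) :
    ((Γf V).map (Formal.smulMod A G a)).hom x = a • x := by
  rw [Γf_smul]; rfl

theorem Γf_injective {G G' : (V : Scheme.{u}).Modules} (φ : G ⟶ G') [Mono φ] :
    Function.Injective ((Γf V).map φ).hom :=
  (ModuleCat.mono_iff_injective _).1 inferInstance

theorem Γf_exact (S : ShortComplex (V : Scheme.{u}).Modules) (hS : S.ShortExact)
    (x : (Γf V).obj S.X₂) (hx : ((Γf V).map S.g).hom x = 0) : ∃ y, ((Γf V).map S.f).hom y = x := by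
  haveI : PreservesFiniteLimits (Γf V) :=
    haveI := (adj V).rightAdjoint_preservesLimits.{0, 0}
    inferInstance
  have h : (S.map (Γf V)).Exact := ShortComplex.Exact.map_of_mono_of_preservesKernel hS.exact (Γf V) hS.mono_f inferInstance
  exact (ShortComplex.moduleCat_exact_iff _).1 h x hx

/-- Every element is killed by a power of the ideal cutting out the complement. -/
def Torsion (𝔞 : Ideal A) (N : Type u) [AddCommGroup N] [Module A N] : Prop :=
  ∀ x : N, ∃ m : ℕ, ∀ a ∈ 𝔞 ^ m, a • x = 0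

theorem isZero_of_torsion {𝔞 : Ideal A} (N : ModuleCat.{u} A) (h : Torsion 𝔞 N) :
    IsZero ((Affine.Φ (LocCoh.puncturedOpen A 𝔞)).obj N) := by
  let U := LocCoh.puncturedOpen A 𝔞
  rw [IsZero.iff_id_eq_zero]
  refine Scheme.Modules.hom_ext _ _ fun W => ?_
  ext s
  let t : (AlgebraicGeometry.structureSheafInType A (N : Type u)).obj.obj (op (U.ι ''ᵁ W)) := s
  suffices H : t = 0 from H
  refine Subtype.ext (funext fun z => ?_)
  show t.1 z = 0
  induction t.1 z using LocalizedModule.induction_on with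
  | _ n d =>
    obtain ⟨g, hg, hgz⟩ := Set.not_subset.1
      (show ¬ (𝔞 : Set A) ⊆ (z.1.asIdeal : Set A) from U.ι_image_le W z.2)
    obtain ⟨m, hm⟩ := h n
    exact Sec0.mk_eq_zero.2
      ⟨g ^ m, fun hn => hgz (z.1.isPrime.mem_of_pow_mem m hn), hm _ (Ideal.pow_mem_pow hg m)⟩

theorem torsion_of_isZero [IsNoetherianRing A] {𝔞 : Ideal A} (N : ModuleCat.{u} A)
    (h : IsZero ((Affine.Φ (LocCoh.puncturedOpen A 𝔞)).obj N)) : Torsion 𝔞 N := by
  let U := LocCoh.puncturedOpen A 𝔞
  intro x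
  suffices H : 𝔞 ≤ Ideal.radical (LinearMap.ker (LinearMap.toSpanSingleton A N x) : Ideal A) by
    obtain ⟨m, hm⟩ := Ideal.exists_pow_le_of_le_radical_of_fg H (IsNoetherian.noetherian 𝔞)
    exact ⟨m, fun a ha => hm ha⟩
  rw [Ideal.radical_eq_sInf, le_sInf_iff]
  rintro p ⟨hxp, hp⟩
  by_contra hap
  have hU : U.ι ''ᵁ ⊤ = U := U.ι_image_top
  have h0 : ∀ t : (AlgebraicGeometry.structureSheafInType A (N : Type u)).obj.obj (op (U.ι ''ᵁ ⊤)), t = 0 := fun t => by
    have e : 𝟙 ((Affine.Φ U).obj N) = 0 := (IsZero.iff_id_eq_zero _).1 h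
    exact congr(($e).app ⊤ t)
  let t : (AlgebraicGeometry.structureSheafInType A (N : Type u)).obj.obj (op (U.ι ''ᵁ ⊤)) :=
    ⟨fun z => LocalizedModule.mk x 1, fun z =>
      ⟨_, z.2, 𝟙 _, x, 1, fun w => ⟨fun hw => w.1.isPrime.ne_top ((Ideal.eq_top_iff_one _).2 hw), rfl⟩⟩⟩
  have ht := congrFun (congrArg Subtype.val (h0 t)) ⟨⟨p, hp⟩, by rw [hU]; exact hap⟩
  obtain ⟨g, hg, e⟩ := Sec0.mk_eq_zero.1 ht
  exact hg (hxp e)

/-- A linear map with torsion kernel and cokernel gives an isomorphism on the punctured spectrum. -/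
theorem isIso_map {𝔞 : Ideal A} {P Q : ModuleCat.{u} A} (φ : P ⟶ Q)
    (hker : Torsion 𝔞 (LinearMap.ker φ.hom)) (hcoker : Torsion 𝔞 ((Q : Type u) ⧸ LinearMap.range φ.hom)) :
    IsIso ((Affine.Φ (LocCoh.puncturedOpen A 𝔞)).map φ) := by
  let F := Affine.Φ (LocCoh.puncturedOpen A 𝔞)
  have h1 : IsZero (F.obj (kernel φ)) :=
    (isZero_of_torsion (ModuleCat.of A (LinearMap.ker φ.hom)) hker).of_iso (F.mapIso (ModuleCat.kernelIsoKer φ))
  have h2 : IsZero (F.obj (cokernel φ)) :=
    (isZero_of_torsion (ModuleCat.of A ((Q : Type u) ⧸ LinearMap.range φ.hom)) hcoker).of_iso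
      (F.mapIso (ModuleCat.cokernelIsoRangeQuotient φ))
  haveI : Mono (F.map φ) :=
    Preadditive.mono_of_kernel_zero ((h1.of_iso (PreservesKernel.iso F φ).symm).eq_of_src _ _)
  haveI : Epi (F.map φ) :=
    Preadditive.epi_of_cokernel_zero ((h2.of_iso (PreservesCokernel.iso F φ).symm).eq_of_tgt _ _)
  exact isIso_of_mono_of_epi _

theorem torsion_ker [IsNoetherianRing A] {𝔞 : Ideal A} {P Q : ModuleCat.{u} A} (φ : P ⟶ Q)
    [Mono ((Affine.Φ (LocCoh.puncturedOpen A 𝔞)).map φ)] : Torsion 𝔞 (LinearMap.ker φ.hom) := by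
  let F := Affine.Φ (LocCoh.puncturedOpen A 𝔞)
  exact torsion_of_isZero (ModuleCat.of A (LinearMap.ker φ.hom))
    (((isZero_kernel_of_mono (F.map φ)).of_iso (PreservesKernel.iso F φ)).of_iso
      (F.mapIso (ModuleCat.kernelIsoKer φ).symm))

theorem torsion_coker [IsNoetherianRing A] {𝔞 : Ideal A} {P Q : ModuleCat.{u} A} (φ : P ⟶ Q)
    [Epi ((Affine.Φ (LocCoh.puncturedOpen A 𝔞)).map φ)] : Torsion 𝔞 ((Q : Type u) ⧸ LinearMap.range φ.hom) := by
  let F := Affine.Φ (LocCoh.puncturedOpen A 𝔞)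
  exact torsion_of_isZero (ModuleCat.of A ((Q : Type u) ⧸ LinearMap.range φ.hom))
    (((isZero_cokernel_of_epi (F.map φ)).of_iso (PreservesCokernel.iso F φ)).of_iso
      (F.mapIso (ModuleCat.cokernelIsoRangeQuotient φ).symm))

/-- A coherent module on the punctured spectrum is `N~|U` with `N` finite. -/
theorem exists_finite_model [IsNoetherianRing A] (𝔞 : Ideal A) (G : (LocCoh.puncturedOpen A 𝔞 : Scheme.{u}).Modules)
    (hG : Coh.IsCoh G) :
    ∃ (N : ModuleCat.{u} A) (_ : Module.Finite A N) (ψ : N ⟶ (Γf (LocCoh.puncturedOpen A 𝔞)).obj G),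
      IsIso ((Affine.Φ (LocCoh.puncturedOpen A 𝔞)).map ψ) := by
  let U := LocCoh.puncturedOpen A 𝔞
  haveI := hG.1
  obtain ⟨G', hq, hft, ⟨e⟩⟩ := Props.SubExt.exists_finiteType_extension U
    (TopologicalSpace.NoetherianSpace.isCompact _) G hG.2
  haveI := hq
  let N : ModuleCat.{u} A := (moduleSpecΓFunctor (R := CommRingCat.of A)).obj G'
  haveI hN : Module.Finite A N := by
    have h : Module.Finite Γ(Spec (CommRingCat.of A), ⊤) Γ(G', ⊤) :=
      haveI := hft
      QCoh.finite_sections_of_isFiniteType G' (isAffineOpen_top _)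
    obtain ⟨t, ht⟩ := h.fg_top
    refine ⟨⟨t, eq_top_iff.2 ?_⟩⟩
    intro x hxt
    clear hxt
    have hx : (x : Γ(G', ⊤)) ∈ Submodule.span Γ(Spec (CommRingCat.of A), ⊤) (t : Set Γ(G', ⊤)) := ht ▸ trivial
    induction hx using Submodule.span_induction with
    | mem y hy => exact Submodule.subset_span hy
    | zero => exact zero_mem _
    | add y z _ _ h₁ h₂ => exact add_mem h₁ h₂
    | smul a y _ h₁ =>
      obtain ⟨b, rfl⟩ := (Scheme.ΓSpecIso (CommRingCat.of A)).symm.commRingCatIsoToRingEquiv.surjective a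
      have hb := Submodule.smul_mem _ b h₁
      let y' : Γ(G', ⊤) := y
      have e : (b • (show (N : Type u) from y) : N) =
          (show (N : Type u) from (Scheme.ΓSpecIso (CommRingCat.of A)).inv b • y') := by
        show ((Spec (CommRingCat.of A)).presheaf.map (𝟙 (op ⊤))) ((Scheme.ΓSpecIso (CommRingCat.of A)).inv b) • y' =
          (Scheme.ΓSpecIso (CommRingCat.of A)).inv b • y'
        exact congrArg (· • y') (ConcreteCategory.congr_hom
          ((Spec (CommRingCat.of A)).presheaf.map_id (op ⊤)) ((Scheme.ΓSpecIso (CommRingCat.of A)).inv b))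
      exact e ▸ hb
  haveI : IsIso ((tilde.adjunction (R := CommRingCat.of A)).counit.app G') :=
    (isQuasicoherent_iff_isIso_fromTildeΓ G').mp hq
  let d : (Affine.Φ U).obj N ≅ G :=
    (Scheme.Modules.restrictFunctor U.ι).mapIso (asIso ((tilde.adjunction (R := CommRingCat.of A)).counit.app G')) ≪≫ e
  haveI : QuasiCompact U.ι := inferInstance
  haveI := isIso_counit U G
  refine ⟨N, hN, (adj U).homEquiv _ _ d.hom, ?_⟩
  have h : (Affine.Φ U).map ((adj U).homEquiv _ _ d.hom) ≫ (adj U).counit.app G = d.hom :=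
    ((adj U).homEquiv_counit _ _ _).symm.trans (((adj U).homEquiv _ _).symm_apply_apply _)
  have : IsIso ((Affine.Φ U).map ((adj U).homEquiv _ _ d.hom) ≫ (adj U).counit.app G) := by
    rw [h]; infer_instance
  exact IsIso.of_isIso_comp_right _ ((adj U).counit.app G)

/-- `M ↦ M/JM` gives the quotient by `J` on every open. -/
theorem isModQuot_mkQ (J : Ideal A) (hJ : J.FG) (M : Type u) [AddCommGroup M] [Module A M] :
    Sys.IsModQuot J ((Affine.Φ V).map (ModuleCat.ofHom (X := M) (J • (⊤ : Submodule A M)).mkQ)) := by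
  classical
  obtain ⟨s, hs⟩ := hJ
  let N : Submodule A M := J • ⊤
  let u : ModuleCat.of A (s → M) ⟶ ModuleCat.of A M :=
    ∑ a : s, ModuleCat.ofHom (LinearMap.proj a) ≫ ModuleCat.ofHom ((a : A) • LinearMap.id)
  have hu : ∀ x : s → M, u.hom x = ∑ a : s, (a : A) • x a := fun x => by
    simp [u, ModuleCat.hom_sum]
  let π : ModuleCat.of A M ⟶ ModuleCat.of A (M ⧸ N) := ModuleCat.ofHom N.mkQ
  haveI : Epi π := (ModuleCat.epi_iff_surjective _).2 N.mkQ_surjective
  have hw : u ≫ π = 0 := by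
    refine ModuleCat.hom_ext (LinearMap.ext fun x => ?_)
    refine (Submodule.Quotient.mk_eq_zero _).2 ?_
    show u.hom x ∈ N
    rw [hu]
    exact sum_mem fun a _ => Submodule.smul_mem_smul (hs ▸ Ideal.subset_span a.2) trivial
  have hcol : IsColimit (CokernelCofork.ofπ π hw) := by
    refine CokernelCofork.IsColimit.ofπ' π hw fun {Z} φ hφ => ?_
    refine ⟨ModuleCat.ofHom (N.liftQ φ.hom ?_), ModuleCat.hom_ext (LinearMap.ext fun x => rfl)⟩
    refine Submodule.smul_le.mpr fun a ha x _ => LinearMap.mem_ker.mpr ?_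
    rw [← hs] at ha
    induction ha using Submodule.span_induction with
    | mem b hb =>
      have h := congr($hφ (Pi.single (⟨b, hb⟩ : s) x))
      rw [ConcreteCategory.comp_apply] at h
      rw [show (ConcreteCategory.hom u) (Pi.single (⟨b, hb⟩ : s) x) = b • x by
        refine (hu _).trans ?_
        rw [Finset.sum_eq_single (⟨b, hb⟩ : s) (fun c _ hc => by rw [Pi.single_eq_of_ne hc, smul_zero])
          (fun hn => (hn (Finset.mem_univ _)).elim), Pi.single_eq_same]] at h
      exact h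
    | zero => rw [zero_smul, map_zero]
    | add b c _ _ hb hc => rw [add_smul, map_add, hb, hc, add_zero]
    | smul r b _ hb => rw [smul_assoc, map_smul, hb, smul_zero]
  haveI : Epi ((Affine.Φ V).map π) := Functor.map_epi _ π
  refine Sys.IsModQuot.mk' (fun a ha => ?_) fun Z φ hφ => ?_
  · rw [← Affine.Φ_smul V M, ← Functor.map_comp]
    refine (congrArg (Affine.Φ V).map (?_ : _ = (0 : ModuleCat.of A M ⟶ ModuleCat.of A (M ⧸ N)))).trans
      (Functor.map_zero _ _ _)
    ext x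
    exact (Submodule.Quotient.mk_eq_zero _).2 (Submodule.smul_mem_smul ha trivial)
  · have hφ' : (Affine.Φ V).map u ≫ φ = 0 := by
      simp only [u, Functor.map_sum, Preadditive.sum_comp]
      refine Finset.sum_eq_zero fun a _ => ?_
      rw [Functor.map_comp, Category.assoc, Affine.Φ_smul V M]
      refine (congrArg _ (hφ (a : A) (hs ▸ Ideal.subset_span a.2))).trans comp_zero
    exact ⟨_, (CokernelCofork.mapIsColimit _ hcol (Affine.Φ V)).fac
      (CokernelCofork.ofπ φ hφ') WalkingParallelPair.one⟩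

/-- A compatible family of modules gives a system of sheaves. -/
theorem exists_system_iso [QuasiCompact V.ι] (G : ℕᵒᵖ ⥤ (V : Scheme.{u}).Modules)
    (hG : ∀ n : ℕ, (G.obj (op n)).IsQuasicoherent) :
    ∃ e : ∀ n : ℕ, (Affine.Φ V).obj ((Γf V).obj (G.obj (op n))) ≅ G.obj (op n),
      ∀ n : ℕ, (Affine.Φ V).map ((Γf V).map (G.map (homOfLE (Nat.le_succ n)).op)) ≫ (e n).hom =
        (e (n + 1)).hom ≫ G.map (homOfLE (Nat.le_succ n)).op :=
  ⟨fun n => haveI := hG n; counitIso V (G.obj (op n)),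
    fun n => (adj V).counit.naturality (G.map (homOfLE (Nat.le_succ n)).op)⟩

theorem quasiCompact_ι [IsNoetherianRing A] : QuasiCompact V.ι := inferInstance

theorem exists_pow_mem [IsNoetherianRing A] {𝔞 : Ideal A} {H : Type u} [AddCommGroup H] [Module A H] (L : Submodule A H)
    (x : H) (h : ∀ a ∈ 𝔞, ∃ m : ℕ, a ^ m • x ∈ L) : ∃ m : ℕ, ∀ a ∈ 𝔞 ^ m, a • x ∈ L := by
  have H : 𝔞 ≤ Ideal.radical (L.comap (LinearMap.toSpanSingleton A H x) : Ideal A) := fun a ha => by
    obtain ⟨m, hm⟩ := h a ha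
    exact ⟨m, hm⟩
  obtain ⟨m, hm⟩ := Ideal.exists_pow_le_of_le_radical_of_fg H (IsNoetherian.noetherian 𝔞)
  exact ⟨m, fun a ha => hm ha⟩

theorem exists_pow_mem_range [IsNoetherianRing A] {𝔞 : Ideal A} {P Q : ModuleCat.{u} A} (φ : P ⟶ Q)
    [Epi ((Affine.Φ (LocCoh.puncturedOpen A 𝔞)).map φ)] (y : Q) :
    ∃ m : ℕ, ∀ a ∈ 𝔞 ^ m, ∃ x, φ.hom x = a • y := by
  obtain ⟨m, hm⟩ := torsion_coker (𝔞 := 𝔞) φ ((LinearMap.range φ.hom).mkQ y)
  refine ⟨m, fun a ha => ?_⟩
  have h := hm a ha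
  rw [← map_smul] at h
  exact LinearMap.mem_range.1 ((Submodule.Quotient.mk_eq_zero (LinearMap.range φ.hom)).1 h)

/-- `H⁰` is global sections. -/
def h0 {X : Scheme.{u}} (M : X.Modules) : Coh.HH X M 0 ≃+ Γ(M, ⊤) :=
  Sheaf.H.equiv₀ (Coh.toAb M) isTerminalTop

theorem h0_map {X : Scheme.{u}} {M N : X.Modules} (φ : M ⟶ N) (x : Coh.HH X M 0) :
    h0 N (CohLin.hMap φ 0 x) = φ.app ⊤ (h0 M x) :=
  (Sheaf.H.equiv₀_naturality isTerminalTop (CohLin.abMap φ) x).symm

theorem h0_smul {X : Scheme.{u}} (M : X.Modules) (r : Coh.Γtop X) (x : Coh.HH X M 0) :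
    h0 M (r • x) = (show Γ(X, ⊤) from r) • h0 M x := by
  refine ((Sheaf.H.equiv₀_naturality isTerminalTop (Coh.smulAb M r) x).symm).trans ?_
  refine (Coh.smulAb_app M r (op ⊤) _).trans ?_
  exact congrArg (fun t : Γ(X, ⊤) => t • h0 M x)
    (ConcreteCategory.congr_hom (X.presheaf.map_id (op ⊤)) (show Γ(X, ⊤) from r))

theorem scalar_eq (a : A) :
    (show Γ((V : Scheme.{u}), ⊤) from Coh.toGlobal ((V : Scheme.{u}) ↘ Spec (CommRingCat.of A)) a) =
      V.ι.app ⊤ ((Spec (CommRingCat.of A)).presheaf.map (𝟙 (op ⊤))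
        ((Scheme.ΓSpecIso (CommRingCat.of A)).inv a)) :=
  congrArg (V.ι.app ⊤) (ConcreteCategory.congr_hom
    ((Spec (CommRingCat.of A)).presheaf.map_id (op ⊤)) _).symm

/-- Global sections are `H⁰`. -/
def θ (G : (V : Scheme.{u}).Modules) : Coh.HH (V : Scheme.{u}) G 0 ≃ₗ[A] (Γf V).obj G where
  __ := h0 G
  map_smul' a x := by
    show h0 G (Coh.toGlobal ((V : Scheme.{u}) ↘ Spec (CommRingCat.of A)) a • x) = _
    rw [h0_smul, scalar_eq V a]
    rfl

theorem θ_map {G G' : (V : Scheme.{u}).Modules} (φ : G ⟶ G') (x : Coh.HH (V : Scheme.{u}) G 0) :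
    θ V G' (CohLin.hMap φ 0 x) = ((Γf V).map φ).hom (θ V G x) :=
  h0_map φ x

attribute [irreducible] Γf

end Groth.Agent.Formal61.Model
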