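import Groth.Agent.Formal61.GradedMap
import Groth.Agent.Formal61.Limit
import Groth.Agent.Formal61.Model
import Groth.Agent.S0825

/-!
# The topology on limits of cohomology when `cd(A, I) = 1`
-/

set_option autoImplicit false
universe u

open CategoryTheory CategoryTheory.Limits AlgebraicGeometry Opposite

noncomputable section

namespace Groth.Agent.Formal61.CdOneTop

variable {A : Type u} [CommRing A]

/-- Linear combinations writing `I^(K + m c)` inside `I^m`, with coefficients in `I^K`. -/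
theorem exists_decomp {r : ℕ} {f : Fin r → A} {I : Ideal A} (hI : I = Ideal.span (Set.range f)) {c : ℕ}
    {φ : Fin r → (↥(I ^ c) →ₗ[A] A)} (hφ : ∀ x : ↥(I ^ c), (x : A) = ∑ j, f j * φ j x) :
    ∀ m K : ℕ, ∃ (k : ℕ) (w : Fin k → A) (ψ : Fin k → A → A), (∀ i, w i ∈ I ^ m) ∧
      (∀ i, ∀ x ∈ I ^ (K + m * c), ψ i x ∈ I ^ K) ∧
      (∀ i (a : A), ∀ x ∈ I ^ (K + m * c), ψ i (a * x) = a * ψ i x) ∧
      ∀ x ∈ I ^ (K + m * c), x = ∑ i, w i * ψ i x := by
  classical
  let φ' : Fin r → A → A := fun j x => if h : x ∈ I ^ c then φ j ⟨x, h⟩ else 0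
  intro m
  induction m with
  | zero =>
    intro K
    exact ⟨1, fun _ => 1, fun _ x => x, fun _ => by simp, fun _ x hx => by simpa using hx, fun _ _ _ _ => rfl,
      fun x _ => by simp⟩
  | succ m ih =>
    intro K
    obtain ⟨k, w, ψ, hw, hψ, hlin, hsum⟩ := ih (K + c)
    have hN : K + c + m * c = K + (m + 1) * c := by ring
    rw [hN] at hψ hlin hsum
    have hc : ∀ i, ∀ x ∈ I ^ (K + (m + 1) * c), ψ i x ∈ I ^ c := fun i x hx =>
      Ideal.pow_le_pow_right (Nat.le_add_left c K) (hψ i x hx)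
    refine ⟨k * r, fun i => w (finProdFinEquiv.symm i).1 * f (finProdFinEquiv.symm i).2,
      fun i x => φ' (finProdFinEquiv.symm i).2 (ψ (finProdFinEquiv.symm i).1 x), fun i => ?_, fun i x hx => ?_,
      fun i a x hx => ?_, fun x hx => ?_⟩
    · rw [pow_succ]
      exact Ideal.mul_mem_mul (hw _) (hI.ge (Ideal.subset_span ⟨_, rfl⟩))
    · simp only [φ', dif_pos (hc _ x hx)]
      exact GradedMap.phi_mem (K := K) _ _ (by rw [add_comm c K]; exact hψ _ x hx) _
    · simp only [hlin _ a x hx, φ', dif_pos (hc _ x hx), dif_pos (Ideal.mul_mem_left _ a (hc _ x hx))]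
      exact map_smul (φ _) a ⟨_, hc _ x hx⟩
    · rw [← finProdFinEquiv.sum_comp]
      simp only [Equiv.symm_apply_apply, Fintype.sum_prod_type]
      refine (hsum x hx).trans (Finset.sum_congr rfl fun i _ => ?_)
      refine (congrArg (w i * ·) (hφ ⟨_, hc i x hx⟩)).trans ?_
      rw [Finset.mul_sum]
      exact Finset.sum_congr rfl fun j _ => by simp only [φ', dif_pos (hc i x hx), mul_assoc]

variable [IsNoetherianRing A] {X : Scheme.{u}} [X.Over (Spec (CommRingCat.of A))] [AlgebraicGeometry.IsNoetherian X]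
  {G : ℕᵒᵖ ⥤ X.Modules} {I : Ideal A}

omit [IsNoetherianRing A] [AlgebraicGeometry.IsNoetherian X] in
theorem sysMap_eq (p n : ℕ) (x : Coh.HH X (G.obj (op (n + 1))) p) :
    Formal2.HHsysMap G p n x = CohLin.hMap (G.map (homOfLE (Nat.le_succ n)).op) p x := (CohLin.hMap_apply _ _).symm

/-- Compatible families come from classes of the limit. -/
theorem exists_lift (hG : Formal.IsCohFormal I G) (p : ℕ) (x : ∀ n, Coh.HH X (G.obj (op n)) p)
    (hx : ∀ n, Formal2.HHsysMap G p n (x (n + 1)) = x n) :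
    ∃ z : Coh.HH X (limit G) p, ∀ n, CohLin.hMap (limit.π G (op n)) p z = x n := by
  cases p with
  | zero =>
    obtain ⟨s, hs⟩ := LimitTrunc.exists_section G ⊤ (fun n => Model.h0 (G.obj (op n)) (x n)) fun n => by
      rw [← Model.h0_map, ← sysMap_eq, hx n]
    exact ⟨(Model.h0 (limit G)).symm s, fun n => (Model.h0 _).injective (by
      rw [Model.h0_map, AddEquiv.apply_symm_apply]; exact hs n)⟩
  | succ p =>
    obtain ⟨α, β, -, hβ, -, hπ⟩ := Limit.exists_milnor (I := I) ⟨fun n => (hG.1 n).1, hG.2.1, hG.2.2⟩ p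
    obtain ⟨z, hz⟩ := hβ ⟨x, funext fun n => sub_eq_zero.2 (hx n).symm⟩
    exact ⟨z, fun n => (CohLin.hMap_apply _ _).trans ((hπ z n).symm.trans (by rw [hz]))⟩

theorem exists_bound (hG : Formal.IsCohFormal I G) {r : ℕ} {f : Fin r → A} (hI : I = Ideal.span (Set.range f))
    {c : ℕ} {φ : Fin r → (↥(I ^ c) →ₗ[A] A)} (hφ : ∀ x : ↥(I ^ c), (x : A) = ∑ j, f j * φ j x) (p m : ℕ) :
    ∃ d : ℕ, ∀ x : ∀ n, Coh.HH X (G.obj (op n)) p,
      (∀ n, Formal2.HHsysMap G p n (x (n + 1)) = x n) → x d = 0 →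
        ∃ (k : ℕ) (a : Fin k → A) (y : Fin k → ∀ n, Coh.HH X (G.obj (op n)) p),
          (∀ i, a i ∈ I ^ m ∧ ∀ n, Formal2.HHsysMap G p n (y i (n + 1)) = y i n) ∧ x = ∑ i, a i • y i := by
  obtain ⟨K, hK⟩ := LimTors.exists_bound hG
  obtain ⟨k, w, ψ, hw, hψ, hlin, hsum⟩ := exists_decomp hI hφ m K
  let F := limit G
  let N := K + m * c + 1
  have hle : I ^ N ≤ I ^ (K + m * c) := Ideal.pow_le_pow_right (Nat.le_succ _)
  refine ⟨K + m * c, fun x hx hx0 => ?_⟩
  obtain ⟨z, hz⟩ := exists_lift hG p x hx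
  -- the class comes from `I^N F`
  have hMQ := Sys.isModQuot_modPowπ I N F
  haveI := hMQ.epi
  obtain ⟨ψ₀, hψ₀⟩ := (LimitTrunc.isModQuot_π (I := I) ⟨fun n => (hG.1 n).1, hG.2.1, hG.2.2⟩
    (IsNoetherian.noetherian I) (K + m * c)).exists_desc (Formal.modPowπ I N F) hMQ.condition
  let S := ShortComplex.mk (Formal2.idealPowModι I N F) (Formal.modPowπ I N F) (kernel.condition _)
  have hS : S.ShortExact :=
    { exact := ShortComplex.exact_of_f_is_kernel _ (kernelIsKernel (Formal.modPowπ I N F))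
      mono_f := inferInstanceAs (Mono (Formal2.idealPowModι I N F))
      epi_g := inferInstanceAs (Epi (Formal.modPowπ I N F)) }
  obtain ⟨v, hv⟩ := CohLin.exists_hMap_f_eq hS z (show CohLin.hMap (Formal.modPowπ I N F) p z = 0 by
    rw [← hψ₀, CohLin.hMap_comp, hz, hx0, map_zero])
  choose θ hθ using fun i => GradedMap.exists_component F N K (ψ i)
    (fun g hg h hh => by rw [← hlin i g h (hle hh), ← hlin i h g (hle hg), mul_comm])
    (fun T y hy hya => hK N T y hy hya) (Or.inr fun g hg => hψ i g (hle hg))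
  have hι : Formal2.idealPowModι I N F = ∑ i, θ i ≫ Formal.smulMod A F (w i) := by
    obtain ⟨Sg, hSg, q, hq, hqι⟩ := GradedMap.exists_cover (I := I) F _ N rfl
    rw [← cancel_epi q]
    refine Sigma.hom_ext _ _ fun g => ?_
    rw [hqι g, Preadditive.comp_sum, Preadditive.comp_sum]
    refine ((congrArg _ (hsum g (hle (hSg g)))).trans (GradedMap.smulMod_finsetSum F _ _)).trans
      (Finset.sum_congr rfl fun i _ => ?_)
    rw [← Category.assoc, ← Category.assoc, hθ i g (hSg g) _ ((Category.assoc _ _ _).trans (hqι g)),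
      ← CohIII.smulMod_mul, mul_comm]
  refine ⟨k, w, fun i n => CohLin.hMap (limit.π G (op n)) p (CohLin.hMap (θ i) p v), fun i => ⟨hw i, fun n => ?_⟩, funext fun n => ?_⟩
  · rw [sysMap_eq, ← CohLin.hMap_comp, limit.w]
  · have hz' : z = ∑ i, w i • CohLin.hMap (θ i) p v := by
      refine hv.symm.trans ?_
      show CohLin.hMap (Formal2.idealPowModι I N F) p v = _
      rw [hι]
      refine (map_sum (CohLin.hMapHom _ _ p v) _ _).trans ?_
      exact Finset.sum_congr rfl fun i _ => (CohLin.hMap_comp _ _ p v).trans (FormalFun.hMap_smulMod _ _ _ _)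
    rw [← hz n, hz', map_sum, Finset.sum_apply]
    refine Finset.sum_congr rfl fun i _ => ?_
    rw [← FormalFun.hMap_smulMod, ← CohLin.hMap_comp, FormalFun.smulMod_natural, CohLin.hMap_comp,
      FormalFun.hMap_smulMod]
    rfl

end Groth.Agent.Formal61.CdOneTop
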