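import Groth.Agent.LocCoh.BootLocal

/-!
# Module-theoretic consequences of surjectivity of `H¹(η)`

If `H¹(RΓ_J M) → H¹(RΓ_J(M)^∧)` is surjective then the obstructions against lifting formal sections
are uniformly killed by powers of `J`:
* `exists_pow_boundary`: a compatible family of germs `J^k → M/I^nM` extends after multiplying by `J^k`;
* `exists_pow_tower`: a family of torsion elements is a coboundary after multiplying by `J^k`.
-/

set_option autoImplicit false
set_option backward.isDefEq.respectTransparency false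
universe u

open CategoryTheory CategoryTheory.Limits CategoryTheory.Pretriangulated DerivedCategory

attribute [local instance] HasDerivedCategory.standard

noncomputable section

namespace Groth.Agent.Formal61.DerSurj

open Groth.Agent.DRing Groth.Agent.DualCx
open Groth.Agent.LocCoh
open RGHom (inMap qJ pJ)
open CompRlim (π₀ T₀ inc X T π)

variable {A : Type u} [CommRing A]

section Boundary

variable (J : Ideal A)

/-- `A/J^k`, killed by `J^k`. -/
theorem smul_quot_eq_zero (k : ℕ) : ∀ c ∈ J ^ k, ∀ w : A ⧸ (J ^ k • ⊤ : Submodule A A), c • w = 0 := fun c hc w =>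
  Submodule.Quotient.induction_on _ w fun a =>
    (Submodule.Quotient.mk_eq_zero _).2 (Submodule.smul_mem_smul hc Submodule.mem_top)

/-- The boundary class of a map `J^k → N`. -/
def θ {N : Type u} [AddCommGroup N] [Module A N] (k : ℕ) (φ : ↥(J ^ k • ⊤ : Submodule A A) →ₗ[A] N) :
    Dual.inD A (A ⧸ (J ^ k • ⊤ : Submodule A A)) ⟶ (shiftFunctor (Dual.D A) (1 : ℤ)).obj (Dual.inD A N) :=
  (ExtAR.sesQ_shortExact (J ^ k • ⊤ : Submodule A A)).singleTriangle.mor₃ ≫
    (shiftFunctor (Dual.D A) (1 : ℤ)).map (inMap (ModuleCat.ofHom φ))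

theorem θ_comp {N N' : Type u} [AddCommGroup N] [Module A N] [AddCommGroup N'] [Module A N'] (k : ℕ)
    (φ : ↥(J ^ k • ⊤ : Submodule A A) →ₗ[A] N) (g : ModuleCat.of A N ⟶ ModuleCat.of A N') :
    θ J k φ ≫ (shiftFunctor (Dual.D A) (1 : ℤ)).map (inMap g) = θ J k (g.hom.comp φ) := by
  simp only [θ, Category.assoc, ← Functor.map_comp]
  rfl

theorem inclusion_le {k K : ℕ} (h : k ≤ K) : (J ^ K • ⊤ : Submodule A A) ≤ J ^ k • ⊤ :=
  Submodule.smul_mono (Ideal.pow_le_pow_right h) le_rfl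

theorem pJ_θ {N : Type u} [AddCommGroup N] [Module A N] {k K : ℕ} (h : k ≤ K)
    (φ : ↥(J ^ k • ⊤ : Submodule A A) →ₗ[A] N) :
    inMap (pJ J A h) ≫ θ J k φ = θ J K (φ.comp (Submodule.inclusion (inclusion_le J h))) := by
  let hSk := ExtAR.sesQ_shortExact (J ^ k • ⊤ : Submodule A A)
  let hSK := ExtAR.sesQ_shortExact (J ^ K • ⊤ : Submodule A A)
  have hnat : inMap (pJ J A h) ≫ hSk.singleTriangle.mor₃ =
      hSK.singleTriangle.mor₃ ≫ (shiftFunctor (Dual.D A) (1 : ℤ)).map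
        (inMap (ModuleCat.ofHom (Submodule.inclusion (inclusion_le J h)))) :=
    (ShortComplex.ShortExact.singleTriangle.map hSK hSk (ExtAR.sesQMap (inclusion_le J h))).comm₃.symm
  refine (Category.assoc _ _ _).symm.trans ((congrArg (· ≫ _) hnat).trans ((Category.assoc _ _ _).trans ?_))
  rw [← Functor.map_comp, ← Functor.map_comp]
  rfl

theorem inMap_comp {V V' V'' : ModuleCat.{u} A} (f : V ⟶ V') (g : V' ⟶ V'') :
    inMap (f ≫ g) = inMap f ≫ inMap g := (singleFunctor (ModuleCat.{u} A) 0).map_comp _ _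

theorem θ_smul {N : Type u} [AddCommGroup N] [Module A N] (k : ℕ) (c : A)
    (φ : ↥(J ^ k • ⊤ : Submodule A A) →ₗ[A] N) : θ J k (c • φ) = c • θ J k φ := by
  have h : inMap (ModuleCat.ofHom (c • φ)) = c • inMap (ModuleCat.ofHom φ) := by
    rw [← CompRlim.inMap_smul]
    rfl
  simp only [θ]
  rw [h, Functor.map_smul, Linear.comp_smul]

/-- A germ with vanishing boundary extends. -/
theorem exists_extend {N : Type u} [AddCommGroup N] [Module A N] (k : ℕ)
    (φ : ↥(J ^ k • ⊤ : Submodule A A) →ₗ[A] N) (h : θ J k φ = 0) :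
    ∃ m : N, ∀ x : ↥(J ^ k • ⊤ : Submodule A A), φ x = (x : A) • m := by
  let hS := ExtAR.sesQ_shortExact (J ^ k • ⊤ : Submodule A A)
  obtain ⟨ψ, hψ⟩ := Triangle.yoneda_exact₃ _ (rot_of_distTriang _ hS.singleTriangle_distinguished)
    ((shiftFunctor (Dual.D A) (1 : ℤ)).map (inMap (ModuleCat.ofHom φ))) h
  obtain ⟨ψ₀, hψ₀⟩ := (shiftFunctor (Dual.D A) (1 : ℤ)).map_surjective (X := Dual.inD A A) ψ
  obtain ⟨g, hg⟩ := (singleFunctor (ModuleCat.{u} A) 0).map_surjective
    (X := ModuleCat.of A A) (Y := ModuleCat.of A N) ψ₀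
  have h1 : inMap (ModuleCat.ofHom φ) =
      inMap (-(ModuleCat.ofHom (J ^ k • ⊤ : Submodule A A).subtype ≫ g)) := by
    refine (shiftFunctor (Dual.D A) (1 : ℤ)).map_injective (hψ.trans ?_)
    rw [← hψ₀, ← hg]
    refine (Preadditive.neg_comp _ _).trans ?_
    rw [← Functor.map_comp]
    refine Eq.trans ?_ (congrArg _ (Functor.map_neg _).symm)
    rw [Functor.map_neg]
    refine congrArg (fun t => -(shiftFunctor (Dual.D A) (1 : ℤ)).map t) ?_
    exact ((singleFunctor (ModuleCat.{u} A) 0).map_comp _ _).symm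
  have h2 := congrArg ModuleCat.Hom.hom ((singleFunctor (ModuleCat.{u} A) 0).map_injective h1)
  refine ⟨-(g.hom 1), fun x => ?_⟩
  refine (LinearMap.congr_fun h2 x).trans ?_
  show -(g.hom (x : A)) = (x : A) • -(g.hom 1)
  exact (congrArg Neg.neg ((congrArg g.hom (mul_one (x : A)).symm).trans (g.hom.map_smul (x : A) 1))).trans
    (smul_neg _ _).symm

end Boundary

variable [IsNoetherianRing A] (I J : Ideal A) [DRing.HasRgammaI J] (M : Type u) [AddCommGroup M] [Module A M]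

variable {J} in
/-- Classes killed by `J^k` after factoring. -/
theorem exists_kill_class {p : ℤ} (x : Dual.inD A A ⟶
      (shiftFunctor (Dual.D A) p).obj ((DRing.RgammaI J).obj (Dual.inD A M))) :
    ∃ k : ℕ, ∀ c ∈ J ^ k, c • x = 0 := by
  obtain ⟨k, x', rfl⟩ := RGHom.exists_factor_RgammaI J M p x
  refine ⟨k, fun c hc => ?_⟩
  have h : c • inMap (qJ J A k) = 0 := by
    rw [← CompRlim.inMap_smul]
    refine Eq.trans (congrArg inMap ?_) (Functor.map_zero _ _ _)
    exact ModuleCat.hom_ext (LinearMap.ext fun a => smul_quot_eq_zero J k c hc _)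
  rw [← Linear.smul_comp, h, zero_comp]

variable [DRing.HasDerivedCompletion I]

/-- The hypothesis. -/
def SurjH1 : Prop :=
  Function.Surjective ((DerivedCategory.homologyFunctor (ModuleCat.{u} A) 1).map
    (DRing.toDerivedCompletion I ((DRing.RgammaI J).obj (Dual.inD A M)))).hom

variable {I J M}

/-- Lifting along `η` in degree one. -/
theorem exists_lift_eta (hs : SurjH1 I J M) (g : Dual.inD A A ⟶ (shiftFunctor (Dual.D A) (1 : ℤ)).obj
      ((DRing.derivedCompletion I).obj ((DRing.RgammaI J).obj (Dual.inD A M))).obj) :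
    ∃ x : Dual.inD A A ⟶ (shiftFunctor (Dual.D A) (1 : ℤ)).obj ((DRing.RgammaI J).obj (Dual.inD A M)),
      x ≫ (shiftFunctor (Dual.D A) (1 : ℤ)).map
        (DRing.toDerivedCompletion I ((DRing.RgammaI J).obj (Dual.inD A M))) = g := by
  obtain ⟨c, hc⟩ := hs (Cx.homUnitEquivShift _ 1 g)
  refine ⟨(Cx.homUnitEquivShift _ 1).symm c, (Cx.homUnitEquivShift _ 1).injective ?_⟩
  rw [BootLocal.homUnitEquivShift_natural, LinearEquiv.apply_symm_apply]
  exact hc

variable [Module.Finite A M]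

/-- A compatible family of germs extends after multiplying by a power of `J`. -/
theorem exists_pow_boundary (hs : SurjH1 I J M) (k : ℕ → ℕ)
    (φ : ∀ n, ↥(J ^ k n • ⊤ : Submodule A A) →ₗ[A] M ⧸ (I ^ n • ⊤ : Submodule A M))
    (hφ : ∀ n, ∃ (K : ℕ) (h₁ : k n ≤ K) (h₂ : k (n + 1) ≤ K),
      (T₀ I M (Nat.le_succ n)).hom.comp ((φ (n + 1)).comp (Submodule.inclusion (inclusion_le J h₂))) =
        (φ n).comp (Submodule.inclusion (inclusion_le J h₁))) :
    ∃ k₀ : ℕ, ∀ c ∈ J ^ k₀, ∀ n, ∃ (K : ℕ) (h : k n ≤ K) (m : M ⧸ (I ^ n • ⊤ : Submodule A M)),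
      ∀ x : ↥(J ^ K • ⊤ : Submodule A A), c • φ n (Submodule.inclusion (inclusion_le J h) x) = (x : A) • m := by
  have := CompLocal.hasProduct (A := A)
  obtain ⟨⟨a, cc, hT, ha⟩, -⟩ := CompRlim.main_compat I J M
  let hb := fun (n K : ℕ) => RGHom.bijective_comp_ε_shift J K (smul_quot_eq_zero J K)
    (Dual.inD A (M ⧸ (I ^ n • ⊤ : Submodule A M))) 1
  choose ℓ hℓ using fun n => (hb n (k n)).2 (θ J (k n) (φ n))
  let e : ∀ n, Dual.inD A A ⟶ (shiftFunctor (Dual.D A) (1 : ℤ)).obj (X I J M n) := fun n =>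
    inMap (qJ J A (k n)) ≫ ℓ n
  have he : ∀ n, e (n + 1) ≫ (shiftFunctor (Dual.D A) (1 : ℤ)).map (T I J M n (n + 1) (Nat.le_succ n)) = e n := by
    intro n
    obtain ⟨K, h₁, h₂, hK⟩ := hφ n
    have hlift : inMap (pJ J A h₂) ≫ ℓ (n + 1) ≫
        (shiftFunctor (Dual.D A) (1 : ℤ)).map (T I J M n (n + 1) (Nat.le_succ n)) = inMap (pJ J A h₁) ≫ ℓ n := by
      refine (hb n K).1 ?_
      show (_ ≫ _ ≫ _) ≫ _ = (_ ≫ ℓ n) ≫ _
      rw [Category.assoc, Category.assoc, Category.assoc, CompRlim.map_ε]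
      refine (congrArg (inMap (pJ J A h₂) ≫ ·) (Category.assoc _ _ _).symm).trans ?_
      refine (congrArg (fun t => inMap (pJ J A h₂) ≫ t ≫ _) (hℓ (n + 1))).trans ?_
      refine Eq.trans ?_ (congrArg (inMap (pJ J A h₁) ≫ ·) (hℓ n)).symm
      rw [θ_comp, pJ_θ, pJ_θ]
      exact congrArg (θ J K) hK
    simp only [e, Category.assoc]
    rw [← RGHom.qJ_pJ J A h₂, inMap_comp, Category.assoc]
    refine (congrArg (inMap (qJ J A K) ≫ ·) hlift).trans ?_
    rw [← Category.assoc, ← inMap_comp, RGHom.qJ_pJ]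
  let hm := Milnor.homEq (C := Dual.D A) (-1) 1 (neg_add_cancel 1) (Dual.inD A A)
  let E := Pi.lift fun n => (hm (X I J M n)).symm (e n)
  have hE : E ≫ Pi.lift (fun n => Pi.π (X I J M) n - Pi.π (X I J M) (n + 1) ≫ T I J M n (n + 1) (Nat.le_succ n)) = 0 := by
    refine Pi.hom_ext _ _ fun n => ?_
    rw [Category.assoc, Pi.lift_π, zero_comp, Preadditive.comp_sub, ← Category.assoc, Pi.lift_π, Pi.lift_π,
      sub_eq_zero, ← Milnor.homEq_symm_comp, he]
  obtain ⟨g, hg⟩ := Triangle.coyoneda_exact₂ _ hT E hE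
  obtain ⟨x, hx⟩ := exists_lift_eta hs (hm _ g)
  have hxe : ∀ n, x ≫ (shiftFunctor (Dual.D A) (1 : ℤ)).map (π I J M n) = e n := by
    intro n
    rw [← ha n, Functor.map_comp, ← Category.assoc, hx, ← Milnor.homEq_comp, Equiv.apply_eq_iff_eq_symm_apply]
    refine ((Category.assoc _ _ _).symm.trans ?_)
    exact (congrArg (· ≫ Pi.π (X I J M) n) hg.symm).trans (Pi.lift_π _ _)
  obtain ⟨k₀, hk₀⟩ := exists_kill_class M x
  refine ⟨k₀, fun c hc n => ?_⟩
  have h0 : inMap (qJ J A (k n)) ≫ (c • ℓ n) = 0 := by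
    rw [Linear.comp_smul]
    show c • e n = 0
    rw [← hxe n, ← Linear.smul_comp, hk₀ c hc, zero_comp]
  obtain ⟨K, hK, hK0⟩ := RGHom.exists_factor_zero_RgammaI J _ 1 (k n) (c • ℓ n) h0
  have h1 : θ J K ((c • φ n).comp (Submodule.inclusion (inclusion_le J hK))) = 0 := by
    rw [← pJ_θ, θ_smul]
    refine ((congrArg (fun t => inMap (pJ J A hK) ≫ (c • t)) (hℓ n).symm).trans ?_)
    rw [← Linear.smul_comp, ← Category.assoc, hK0, zero_comp]
  obtain ⟨m, hm'⟩ := exists_extend J K _ h1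
  exact ⟨K, hK, m, hm'⟩

/-- A family of torsion elements is a coboundary after multiplying by a power of `J`. -/
theorem exists_pow_tower (hs : SurjH1 I J M) (t : ∀ n : ℕ, M ⧸ (I ^ n • ⊤ : Submodule A M))
    (ht : ∀ n, ∃ k : ℕ, ∀ c ∈ J ^ k, c • t n = 0) :
    ∃ k₀ : ℕ, ∀ c ∈ J ^ k₀, ∃ s : ∀ n : ℕ, M ⧸ (I ^ n • ⊤ : Submodule A M),
      (∀ n, ∃ k : ℕ, ∀ a ∈ J ^ k, a • s n = 0) ∧ ∀ n, c • t n = s n - (T₀ I M (Nat.le_succ n)).hom (s (n + 1)) := by
  have := CompLocal.hasProduct (A := A)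
  obtain ⟨⟨a, cc, hT, ha⟩, -⟩ := CompRlim.main_compat I J M
  choose kt hkt using ht
  let tb : ∀ n, ModuleCat.of A (A ⧸ (J ^ kt n • ⊤ : Submodule A A)) ⟶ ModuleCat.of A (M ⧸ (I ^ n • ⊤ : Submodule A M)) :=
    fun n => ModuleCat.ofHom (Submodule.liftQ _ (LinearMap.toSpanSingleton A _ (t n))
      (Submodule.smul_le.2 fun r hr b _ => LinearMap.mem_ker.2 (by
        rw [map_smul, LinearMap.toSpanSingleton_apply, smul_comm, hkt n r hr, smul_zero])))
  choose τ' hτ' using fun n => (RGHom.bijective_comp_ε J (RGHom.HD_inD_torsion J (kt n) (smul_quot_eq_zero J (kt n)))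
    (Dual.inD A (M ⧸ (I ^ n • ⊤ : Submodule A M)))).2 (inMap (tb n))
  let τ : ∀ n, Dual.inD A A ⟶ X I J M n := fun n => inMap (qJ J A (kt n)) ≫ τ' n
  have hτ : ∀ n, τ n ≫ (DRing.RgammaIε J).app _ =
      inMap (V' := ModuleCat.of A (M ⧸ (I ^ n • ⊤ : Submodule A M))) (ModuleCat.ofHom (LinearMap.toSpanSingleton A _ (t n))) := by
    intro n
    refine (Category.assoc _ _ _).trans ((congrArg (inMap (qJ J A (kt n)) ≫ ·) (hτ' n)).trans ?_)
    exact ((singleFunctor (ModuleCat.{u} A) 0).map_comp _ _).symm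
  obtain ⟨x, hx⟩ := exists_lift_eta hs (Pi.lift τ ≫ cc)
  obtain ⟨k₀, hk₀⟩ := exists_kill_class M x
  refine ⟨k₀, fun c hc => ?_⟩
  have h0 : (c • Pi.lift τ) ≫ cc = 0 := by
    rw [Linear.smul_comp, ← hx, ← Linear.smul_comp, hk₀ c hc, zero_comp]
  obtain ⟨S, hS⟩ := Triangle.coyoneda_exact₃ _ hT (c • Pi.lift τ) h0
  have hs' : ∀ n, ∃ g : ModuleCat.of A A ⟶ ModuleCat.of A (M ⧸ (I ^ n • ⊤ : Submodule A M)),
      (singleFunctor (ModuleCat.{u} A) 0).map g = (S ≫ Pi.π (X I J M) n) ≫ (DRing.RgammaIε J).app _ :=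
    fun n => (singleFunctor (ModuleCat.{u} A) 0).map_surjective _
  choose g hg using hs'
  refine ⟨fun n => (g n).hom 1, fun n => ?_, fun n => ?_⟩
  · obtain ⟨k, S', hS'⟩ := RGHom.exists_factor_RgammaI J _ 0
      ((S ≫ Pi.π (X I J M) n) ≫ (shiftFunctorZero (Dual.D A) ℤ).inv.app _)
    obtain ⟨g', hg'⟩ := (singleFunctor (ModuleCat.{u} A) 0).map_surjective
      (X := ModuleCat.of A (A ⧸ (J ^ k • ⊤ : Submodule A A))) (Y := ModuleCat.of A (M ⧸ (I ^ n • ⊤ : Submodule A M)))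
      (S' ≫ (shiftFunctorZero (Dual.D A) ℤ).hom.app _ ≫ (DRing.RgammaIε J).app _)
    have he : g n = qJ J A k ≫ g' := by
      refine (singleFunctor (ModuleCat.{u} A) 0).map_injective ((hg n).trans ?_)
      rw [Functor.map_comp, hg']
      refine Eq.trans ?_ (Category.assoc _ _ _)
      rw [hS']
      refine Eq.trans ?_ (Category.assoc _ _ _).symm
      refine congrArg (_ ≫ ·) ?_
      rw [← Category.assoc, Iso.inv_hom_id_app]
      exact (Category.id_comp _).symm
    refine ⟨k, fun r hr => ?_⟩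
    show r • (g n).hom 1 = 0
    rw [he]
    show r • g'.hom (Submodule.Quotient.mk 1) = 0
    rw [← map_smul, smul_quot_eq_zero J k r hr, map_zero]
  · have h1 := congrArg (fun f => (f ≫ Pi.π (X I J M) n) ≫ (DRing.RgammaIε J).app _) hS
    have key : ModuleCat.ofHom (c • LinearMap.toSpanSingleton A _ (t n)) = g n - g (n + 1) ≫ T₀ I M (Nat.le_succ n) := by
      refine (singleFunctor (ModuleCat.{u} A) 0).map_injective ?_
      rw [Functor.map_sub, Functor.map_comp]
      refine ((CompRlim.inMap_smul c (ModuleCat.ofHom (LinearMap.toSpanSingleton A _ (t n)))).trans ?_)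
      refine (congrArg (c • ·) (hτ n).symm).trans ?_
      rw [hg, hg, ← Linear.smul_comp]
      have e1 : (c • Pi.lift τ) ≫ Pi.π (X I J M) n = c • τ n := by rw [Linear.smul_comp, Pi.lift_π]
      rw [← e1]
      refine h1.trans ?_
      simp only [Triangle.mk_mor₂]
      rw [Category.assoc S, Pi.lift_π, Preadditive.comp_sub, Preadditive.sub_comp]
      refine congrArg (_ - ·) ?_
      simp only [Category.assoc]
      exact congrArg (fun q => S ≫ Pi.π (X I J M) (n + 1) ≫ q)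
        ((DRing.RgammaIε J).naturality (inMap (T₀ I M (Nat.le_succ n))))
    have h2 := LinearMap.congr_fun (congrArg ModuleCat.Hom.hom key) 1
    refine Eq.trans ?_ h2
    simp

end Groth.Agent.Formal61.DerSurj
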