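import Groth.Agent.Formal61.SecPt
import Groth.Agent.Formal61.DerSurj
import Groth.Agent.Adic.Basic

/-!
# Global numerators for formal sections from surjectivity of `H¹(η)`
-/

set_option autoImplicit false
set_option backward.isDefEq.respectTransparency false
universe u

open CategoryTheory AlgebraicGeometry TopologicalSpace
open Groth.Agent.Formal61.Sec0

attribute [local instance] HasDerivedCategory.standard

noncomputable section

namespace Groth.Agent.Formal61.SurjOfDer

variable {A : Type u} [CommRing A] [IsNoetherianRing A]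
variable {N : Type u} [AddCommGroup N] [Module A N]

theorem mk_eq_mk_iff_sub {z : PrimeSpectrum A} (a b : N) :
    (LocalizedModule.mk a 1 : Lp z N) = LocalizedModule.mk b 1 ↔ (LocalizedModule.mk (a - b) 1 : Lp z N) = 0 := by
  rw [← LocalizedModule.mkLinearMap_apply, ← LocalizedModule.mkLinearMap_apply,
    ← LocalizedModule.mkLinearMap_apply, map_sub, sub_eq_zero]

/-- Elements vanishing off `V(J)` are `J`-power torsion. -/
theorem exists_pow_smul_eq_zero_of_germ (J : Ideal A) (d : N)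
    (h : ∀ z : PrimeSpectrum A, ¬ J ≤ z.asIdeal → (LocalizedModule.mk d 1 : Lp z N) = 0) :
    ∃ k : ℕ, ∀ c ∈ J ^ k, c • d = 0 := by
  have hJ : J ≤ Ideal.radical (show Ideal A from LinearMap.ker (LinearMap.toSpanSingleton A N d)) := fun e he => by
    obtain ⟨l, hl⟩ := exists_pow_smul_eq_zero d e fun z hz => h z fun hJz => hz (hJz he)
    exact ⟨l, LinearMap.mem_ker.2 hl⟩
  obtain ⟨k, hk⟩ := Ideal.exists_pow_le_of_le_radical_of_fg hJ (IsNoetherian.noetherian J)
  exact ⟨k, fun c hc => LinearMap.mem_ker.1 (hk hc)⟩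

theorem germ_eq_zero_of_pow {J : Ideal A} {d : N} {k : ℕ} (h : ∀ c ∈ J ^ k, c • d = 0) {z : PrimeSpectrum A}
    (hz : ¬ J ≤ z.asIdeal) : (LocalizedModule.mk d 1 : Lp z N) = 0 := by
  obtain ⟨c, hc, hcz⟩ := Set.not_subset.1 (fun h' => hz (fun x hx =>
    z.isPrime.mem_of_pow_mem k ((h' : ((J ^ k : Ideal A) : Set A) ⊆ z.asIdeal) (Ideal.pow_mem_pow hx k))))
  exact mk_eq_zero.2 ⟨c, hcz, h c hc⟩

/-- A section off `V(J)` is given by a germ on a power of `J`. -/
theorem exists_germ [Module.Finite A N] (J : Ideal A) (w : ∀ z : LocCoh.puncturedOpen A J, Lp z.1 N) (hw : Loc w) :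
    ∃ (K : ℕ) (φ : ↥(J ^ K • ⊤ : Submodule A A) →ₗ[A] N),
      ∀ (x : ↥(J ^ K • ⊤ : Submodule A A)) (z : LocCoh.puncturedOpen A J),
        (x : A) • w z = LocalizedModule.mk (φ x) 1 := by
  let L : Ideal A :=
    { carrier := { a | ∃ m : N, ∀ z, a • w z = LocalizedModule.mk m 1 }
      add_mem' := fun {a b} ⟨m, hm⟩ ⟨m', hm'⟩ => ⟨m + m', fun z => by
        rw [add_smul, hm, hm', ← LocalizedModule.mkLinearMap_apply, ← LocalizedModule.mkLinearMap_apply,
          ← LocalizedModule.mkLinearMap_apply, map_add]⟩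
      zero_mem' := ⟨0, fun z => by rw [zero_smul, LocalizedModule.zero_mk]⟩
      smul_mem' := fun a b ⟨m, hm⟩ => ⟨a • m, fun z => by
        rw [smul_eq_mul, mul_smul, hm, LocalizedModule.smul'_mk]⟩ }
  have hJL : J ≤ L.radical := by
    rw [Ideal.radical_eq_sInf]
    refine le_sInf ?_
    rintro P ⟨hLP, hP⟩
    by_contra hJP
    obtain ⟨a, m, ha, ham⟩ := exists_numerator hw ⟨⟨P, hP⟩, hJP⟩
    exact ha (hLP ⟨m, ham⟩)
  obtain ⟨k, hk⟩ := Ideal.exists_pow_le_of_le_radical_of_fg hJL (IsNoetherian.noetherian J)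
  let T : Submodule A N :=
    { carrier := { d | ∀ z : LocCoh.puncturedOpen A J, (LocalizedModule.mk d 1 : Lp z.1 N) = 0 }
      add_mem' := fun {a b} ha hb z => by
        rw [← LocalizedModule.mkLinearMap_apply, map_add, LocalizedModule.mkLinearMap_apply,
          LocalizedModule.mkLinearMap_apply, ha z, hb z, add_zero]
      zero_mem' := fun z => LocalizedModule.zero_mk _
      smul_mem' := fun a b hb z => by rw [← LocalizedModule.smul'_mk, hb z, smul_zero] }
  have hT : ∃ k₀, J ^ k₀ • T = ⊥ := by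
    obtain ⟨g, hg⟩ := IsNoetherian.noetherian T
    choose kd hkd using fun d : T => exists_pow_smul_eq_zero_of_germ J (d : N) fun z hz => d.2 ⟨z, hz⟩
    classical
    have hgT : ∀ d ∈ g, d ∈ T := fun d hd => (le_of_eq hg) (Submodule.subset_span hd)
    refine ⟨g.attach.sup fun d => kd ⟨d.1, hgT d.1 d.2⟩, ?_⟩
    refine eq_bot_iff.2 ((le_of_eq (congrArg (fun P : Submodule A N => _ • P) hg.symm)).trans (Submodule.smul_le.2 ?_))
    intro c hc d hd
    rw [Submodule.mem_bot]
    induction hd using Submodule.span_induction with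
    | mem d hd =>
      exact hkd _ c (Ideal.pow_le_pow_right (Finset.le_sup
        (f := fun d : {x // x ∈ g} => kd ⟨d.1, hgT d.1 d.2⟩) (Finset.mem_attach g ⟨d, hd⟩)) hc)
    | zero => rw [smul_zero]
    | add a b _ _ ha hb => rw [smul_add, ha, hb, add_zero]
    | smul a b _ hb => rw [smul_comm, hb, smul_zero]
  obtain ⟨k₀, hk₀⟩ := hT
  obtain ⟨c, hc⟩ := J.exists_pow_inf_eq_pow_smul T
  let r := c + k₀
  have hr : (J ^ r • ⊤ : Submodule A N) ⊓ T = ⊥ := by
    rw [hc r (Nat.le_add_right _ _), show r - c = k₀ from Nat.add_sub_cancel_left c k₀, eq_bot_iff, ← hk₀]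
    exact smul_mono_right _ inf_le_right
  have hex : ∀ x : ↥(J ^ (r + k) • ⊤ : Submodule A A),
      ∃ m ∈ (J ^ r • ⊤ : Submodule A N), ∀ z : LocCoh.puncturedOpen A J, (x : A) • w z = LocalizedModule.mk m 1 := by
    rintro ⟨x, hx⟩
    rw [pow_add, Submodule.mul_smul] at hx
    refine Submodule.smul_induction_on
      (p := fun y : A => ∃ m ∈ (J ^ r • ⊤ : Submodule A N), ∀ z : LocCoh.puncturedOpen A J, y • w z = LocalizedModule.mk m 1)
      hx (fun a ha b hb => ?_) (fun a b ⟨m, hm, e⟩ ⟨m', hm', e'⟩ => ?_)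
    · have hb' : b ∈ J ^ k := by
        refine Submodule.smul_induction_on hb (fun p hp q _ => Ideal.mul_mem_right q _ hp) (fun _ _ h h' => add_mem h h')
      obtain ⟨m, hm⟩ := hk hb'
      refine ⟨a • m, Submodule.smul_mem_smul ha Submodule.mem_top, fun z => ?_⟩
      show (a • b) • w z = _
      rw [smul_eq_mul, mul_smul, hm, LocalizedModule.smul'_mk]
    · refine ⟨m + m', add_mem hm hm', fun z => ?_⟩
      show (a + b) • w z = _
      rw [add_smul, e, e', ← LocalizedModule.mkLinearMap_apply, ← LocalizedModule.mkLinearMap_apply,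
        ← LocalizedModule.mkLinearMap_apply, map_add]
  choose m hm hmw using hex
  have huniq : ∀ (x : ↥(J ^ (r + k) • ⊤ : Submodule A A)) (m' : N), m' ∈ (J ^ r • ⊤ : Submodule A N) →
      (∀ z : LocCoh.puncturedOpen A J, (x : A) • w z = LocalizedModule.mk m' 1) → m x = m' := fun x m' h' e => by
    have h : m x - m' ∈ (J ^ r • ⊤ : Submodule A N) ⊓ T :=
      ⟨sub_mem (hm x) h', fun z => (mk_eq_mk_iff_sub _ _).1 ((hmw x z).symm.trans (e z))⟩
    rw [hr, Submodule.mem_bot, sub_eq_zero] at h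
    exact h
  refine ⟨r + k, { toFun := m, map_add' := fun x y => huniq _ _ (add_mem (hm x) (hm y)) fun z => ?_,
                   map_smul' := fun a x => huniq _ _ (Submodule.smul_mem _ a (hm x)) fun z => ?_ }, hmw⟩
  · show ((x : A) + (y : A)) • w z = _
    rw [add_smul, hmw, hmw, ← LocalizedModule.mkLinearMap_apply, ← LocalizedModule.mkLinearMap_apply,
      ← LocalizedModule.mkLinearMap_apply, map_add]
  · show (a • (x : A)) • w z = LocalizedModule.mk (a • m x) 1
    rw [smul_eq_mul, mul_smul, hmw, LocalizedModule.smul'_mk]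

/-- A germ into elements vanishing off `V(J)` is zero on a higher power. -/
theorem exists_pow_map_eq_zero [Module.Finite A N] (J : Ideal A) (K : ℕ)
    (d : ↥(J ^ K • ⊤ : Submodule A A) →ₗ[A] N)
    (hd : ∀ x (z : LocCoh.puncturedOpen A J), (LocalizedModule.mk (d x) 1 : Lp z.1 N) = 0) :
    ∃ (K' : ℕ) (h : K ≤ K'), d.comp (Submodule.inclusion (DerSurj.inclusion_le J h)) = 0 := by
  classical
  obtain ⟨g, hg⟩ := IsNoetherian.noetherian (⊤ : Submodule A ↥(J ^ K • ⊤ : Submodule A A))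
  choose k hk using fun x => exists_pow_smul_eq_zero_of_germ J (d x) fun z hz => hd x ⟨z, hz⟩
  let r := g.sup k
  have hr : ∀ c ∈ J ^ r, ∀ x, c • d x = 0 := fun c hc x => by
    have hx : x ∈ Submodule.span A (g : Set ↥(J ^ K • ⊤ : Submodule A A)) := hg.symm ▸ Submodule.mem_top
    induction hx using Submodule.span_induction with
    | mem y hy => exact hk y c (Ideal.pow_le_pow_right (Finset.le_sup (f := k) hy) hc)
    | zero => rw [map_zero, smul_zero]
    | add a b _ _ ha hb => rw [map_add, smul_add, ha, hb, add_zero]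
    | smul a b _ hb => rw [map_smul, smul_comm, hb, smul_zero]
  refine ⟨r + K, Nat.le_add_left K r, LinearMap.ext fun x => ?_⟩
  show d ⟨(x : A), _⟩ = 0
  have hx : (x : A) ∈ (J ^ r • (J ^ K • ⊤) : Submodule A A) := by
    rw [← Submodule.mul_smul, ← pow_add]; exact x.2
  have key : ∀ y : A, y ∈ (J ^ r • (J ^ K • ⊤) : Submodule A A) →
      ∃ hy : y ∈ (J ^ K • ⊤ : Submodule A A), d ⟨y, hy⟩ = 0 := fun y hy => by
    refine Submodule.smul_induction_on hy (fun c hc b hb => ⟨Submodule.smul_mem _ c hb, ?_⟩)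
      (fun a b ⟨ha, ea⟩ ⟨hb, eb⟩ => ⟨add_mem ha hb, ?_⟩)
    · show d (c • (⟨b, hb⟩ : ↥(J ^ K • ⊤ : Submodule A A))) = 0
      rw [map_smul, hr c hc]
    · show d (⟨a, ha⟩ + ⟨b, hb⟩) = 0
      rw [map_add, ea, eb, add_zero]
  exact (key _ hx).2

variable {M : Type u} [AddCommGroup M] [Module A M] [Module.Finite A M]

/-- Global numerators for compatible formal sections off `V(J)`. -/
theorem exists_numerators (I J : Ideal A) [IsAdicComplete I A] [DRing.HasRgammaI J] [DRing.HasDerivedCompletion I]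
    (hs : DerSurj.SurjH1 I J M) (w : ∀ (n : ℕ) (z : LocCoh.puncturedOpen A J), Lp z.1 (M ⧸ (I ^ n • ⊤ : Submodule A M)))
    (hw : ∀ n, Loc (w n)) (hcompat : ∀ n z, lm z.1 (LocCoh.CompRlim.T₀ I M (Nat.le_succ n)).hom (w (n + 1) z) = w n z)
    (v : LocCoh.puncturedOpen A J) :
    ∃ (j : A) (m : M), j ∉ v.1.asIdeal ∧ ∀ (n : ℕ) (z : LocCoh.puncturedOpen A J),
      LocalizedModule.mk ((Submodule.mkQ (I ^ n • ⊤ : Submodule A M)) m) 1 = j • w n z := by
  classical
  choose k φ hφ using fun n => exists_germ J (w n) (hw n)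
  obtain ⟨k₁, hk₁⟩ := DerSurj.exists_pow_boundary hs k φ fun n => by
    let K₀ := max (k n) (k (n + 1))
    let d := (LocCoh.CompRlim.T₀ I M (Nat.le_succ n)).hom.comp
        ((φ (n + 1)).comp (Submodule.inclusion (DerSurj.inclusion_le J (le_max_right (k n) (k (n + 1)))))) -
      (φ n).comp (Submodule.inclusion (DerSurj.inclusion_le J (le_max_left (k n) (k (n + 1)))))
    obtain ⟨K, hK, hK0⟩ := exists_pow_map_eq_zero J K₀ d fun x z => (mk_eq_mk_iff_sub _ _).1 (by
      simp only [LinearMap.comp_apply]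
      rw [← hφ n, ← lm_mk z.1 (LocCoh.CompRlim.T₀ I M (Nat.le_succ n)).hom, ← hφ (n + 1), map_smul, hcompat]
      rfl)
    refine ⟨K, (le_max_left _ _).trans hK, (le_max_right _ _).trans hK, LinearMap.ext fun x => sub_eq_zero.1 ?_⟩
    exact LinearMap.congr_fun hK0 x
  obtain ⟨g, hg, hgv⟩ := Set.not_subset.1 (show ¬ ((J : Set A) ⊆ v.1.asIdeal) from v.2)
  choose K hK m hm using hk₁ (g ^ k₁) (Ideal.pow_mem_pow hg k₁)
  have hmw : ∀ n (z : LocCoh.puncturedOpen A J), LocalizedModule.mk (m n) 1 = g ^ k₁ • w n z := fun n z => by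
    obtain ⟨x, hx, hxz⟩ := Set.not_subset.1 (fun h' => z.2 (fun a ha =>
      z.1.isPrime.mem_of_pow_mem (K n) ((h' : ((J ^ K n • ⊤ : Submodule A A) : Set A) ⊆ z.1.asIdeal)
        (by simpa using Submodule.smul_mem_smul (Ideal.pow_mem_pow ha (K n)) (Submodule.mem_top : (1 : A) ∈ _)))))
    refine (smul_bijective hxz).1 ?_
    show x • LocalizedModule.mk (m n) 1 = x • g ^ k₁ • w n z
    rw [LocalizedModule.smul'_mk, ← hm n ⟨x, hx⟩, ← LocalizedModule.smul'_mk, smul_comm x, ← hφ n]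
    rfl
  let T₀ := fun n => (LocCoh.CompRlim.T₀ I M (Nat.le_succ n)).hom
  obtain ⟨k₂, hk₂⟩ := DerSurj.exists_pow_tower hs (fun n => m n - T₀ n (m (n + 1))) fun n =>
    exists_pow_smul_eq_zero_of_germ J _ fun z hz => (mk_eq_mk_iff_sub _ _).1 (by
      rw [hmw n ⟨z, hz⟩, ← lm_mk z (T₀ n), hmw (n + 1) ⟨z, hz⟩, map_smul]
      exact congrArg (_ • ·) (hcompat n ⟨z, hz⟩).symm)
  obtain ⟨s, hs0, hs1⟩ := hk₂ (g ^ k₂) (Ideal.pow_mem_pow hg k₂)
  let m' := fun n => g ^ k₂ • m n - s n
  have hm' : ∀ n, T₀ n (m' (n + 1)) = m' n := fun n => by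
    have := hs1 n
    simp only [m', map_sub, map_smul]
    rw [smul_sub, sub_eq_iff_eq_add] at this
    rw [this]
    simp only [T₀]
    abel
  choose b hb using fun n => Submodule.mkQ_surjective _ (m' n)
  have hadic := Adic.isAdicComplete_of_finite (I := I) (M := M)
  have hle : ∀ {p q : ℕ}, p ≤ q → b p ≡ b q [SMOD (I ^ p • ⊤ : Submodule A M)] := by
    intro p q hpq
    induction q, hpq using Nat.le_induction with
    | base => rfl
    | succ q hpq ih =>
      refine ih.trans (SModEq.mono (Submodule.smul_mono_left (Ideal.pow_le_pow_right hpq)) ?_)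
      rw [SModEq]
      exact (hb q).trans ((hm' q).symm.trans (congrArg (T₀ q) (hb (q + 1)).symm))
  obtain ⟨M₀, hM₀⟩ := IsPrecomplete.prec hadic.toIsPrecomplete (f := b) hle
  refine ⟨g ^ k₂ * g ^ k₁, M₀, fun h => (v.1.isPrime.mem_or_mem h).elim (fun h => hgv (v.1.isPrime.mem_of_pow_mem _ h))
    (fun h => hgv (v.1.isPrime.mem_of_pow_mem _ h)), fun n z => ?_⟩
  have e : Submodule.mkQ (I ^ n • ⊤ : Submodule A M) M₀ = g ^ k₂ • m n - s n := (SModEq.def.1 (hM₀ n)).symm.trans (hb n)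
  rw [e, mul_smul, ← hmw, LocalizedModule.smul'_mk, mk_eq_mk_iff_sub, sub_sub_cancel_left]
  obtain ⟨kk, hkk⟩ := hs0 n
  rw [← LocalizedModule.mkLinearMap_apply, map_neg, LocalizedModule.mkLinearMap_apply, germ_eq_zero_of_pow hkk z.2, neg_zero]

end Groth.Agent.Formal61.SurjOfDer
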