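import Groth.Agent.Formal61.ColimGlue
import Groth.Agent.Formal61.SurjOfDer

/-!
# Formal sections under depth conditions (dualizing complexes)
-/

set_option autoImplicit false
set_option backward.isDefEq.respectTransparency false
universe u

open CategoryTheory AlgebraicGeometry TopologicalSpace
open Groth.Agent.Formal61.Sec0 Groth.Agent.Formal61.SeqColim

attribute [local instance] HasDerivedCategory.standard

noncomputable section

namespace Groth.Agent.Formal61.ColimDual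

variable {A : Type u} [CommRing A] [IsNoetherianRing A] (I : Ideal A)
variable {M : Type u} [AddCommGroup M] [Module A M] [Module.Finite A M]

/-- Depth zero means associated. -/
theorem mem_associatedPrimes_of_depth_lt_one (p : Ideal A) [p.IsPrime]
    (h : ¬ (1 : ℕ∞) ≤ LocCoh.depth (Localization.AtPrime p) (LocalizedModule p.primeCompl M)) :
    p ∈ associatedPrimes A M := by
  have h0 : LocCoh.depth (Localization.AtPrime p) (LocalizedModule p.primeCompl M) = 0 := by
    by_contra hne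
    exact h (Order.one_le_iff_pos.2 (pos_iff_ne_zero.2 hne))
  rw [Groth.Agent.Depth.depth_eq_idealDepth, Groth.Agent.Depth.idealDepth_eq_zero_iff] at h0
  obtain ⟨P, hP, hle⟩ := h0
  have hPm : P = IsLocalRing.maximalIdeal (Localization.AtPrime p) :=
    ((IsLocalRing.maximalIdeal.isMaximal _).eq_of_le (IsAssociatedPrime.isPrime hP).ne_top hle).symm
  have h2 := Module.associatedPrimes.comap_mem_associatedPrimes_of_mem_associatedPrimes_of_isLocalizedModule_of_fg
    p.primeCompl (LocalizedModule.mkLinearMap p.primeCompl M) P hP (IsNoetherian.noetherian _)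
  rw [hPm] at h2
  exact (Localization.AtPrime.under_maximalIdeal (I := p)).subst (motive := fun q : Ideal A => q ∈ associatedPrimes A M) h2

/-- Associated means depth zero. -/
theorem depth_eq_zero_of_mem (p : Ideal A) [p.IsPrime] (h : p ∈ associatedPrimes A M) :
    LocCoh.depth (Localization.AtPrime p) (LocalizedModule p.primeCompl M) = 0 := by
  rw [Groth.Agent.Depth.depth_eq_idealDepth, Groth.Agent.Depth.idealDepth_eq_zero_iff]
  exact ⟨_, Module.associatedPrimes.mem_associatedPrimes_atPrime_of_mem_associatedPrimes h, le_rfl⟩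

/-- Formal families on `punct J` give numerators. -/
theorem exists_numerators (J : Ideal A) [IsAdicComplete I A] [DRing.HasRgammaI J] [DRing.HasDerivedCompletion I]
    (hs : DerSurj.SurjH1 I J M) {U : (Spec (CommRingCat.of A)).Opens} (hU : LocCoh.puncturedOpen A J ≤ U)
    (y : ∀ n, Formal2.HV A (Formal2.quotPow A I M n) 0 U)
    (hy : ∀ n, Formal2.HVmap A (Formal2.quotPowTrans A I M n) 0 U (y (n + 1)) = y n)
    (v : LocCoh.puncturedOpen A J) :
    ∃ (j : A) (m : M), j ∉ v.1.asIdeal ∧ ∀ (n : ℕ) (z : LocCoh.puncturedOpen A J),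
      LocalizedModule.mk (Formal2.quotPowπ A I M n m) 1 = j • val (y n) ⟨z.1, hU z.2⟩ := by
  let w : ∀ (n : ℕ) (z : LocCoh.puncturedOpen A J), Lp z.1 (M ⧸ (I ^ n • ⊤ : Submodule A M)) := fun n =>
    match n with
    | 0 => fun _ => 0
    | n + 1 => fun z => val (y n) ⟨z.1, hU z.2⟩
  have hw : ∀ n, Loc (w n) := fun n => match n with
    | 0 => fun z => ⟨_, z.2, le_rfl, 0, 1, fun q => ⟨fun h => q.1.isPrime.ne_top ((Ideal.eq_top_iff_one _).2 h),
        (LocalizedModule.zero_mk _).symm⟩⟩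
    | n + 1 => (loc_val (y n)).res hU
  have h00 : ∀ (z : LocCoh.puncturedOpen A J) (q : Lp z.1 (M ⧸ (I ^ 0 • ⊤ : Submodule A M))), q = 0 := fun z q => by
    induction q using LocalizedModule.induction_on with
    | _ q s =>
      induction q using Submodule.Quotient.induction_on with
      | _ m => rw [(Submodule.Quotient.mk_eq_zero _).2 (by simp : m ∈ (I ^ 0 • ⊤ : Submodule A M)), LocalizedModule.zero_mk]
  obtain ⟨j, m, hj, hm⟩ := SurjOfDer.exists_numerators I J hs w hw (fun n z => match n with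
    | 0 => h00 z _
    | n + 1 => by
      show lm z.1 _ (val (y (n + 1)) ⟨z.1, hU z.2⟩) = val (y n) ⟨z.1, hU z.2⟩
      rw [← hy n, val_map]
      rfl) v
  exact ⟨j, m, hj, fun n z => hm (n + 1) z⟩

/-- The colimit comparison. -/
theorem colimBijective [IsAdicComplete I A] (hω : ∃ ω : Dual.D A, Dual.IsDualizing A ω) (𝔞 : Ideal A) {d : ℕ}
    (hd : _root_.LocCoh.CdLE A I d)
    (h₂ : ∀ p ∈ associatedPrimes A M, ¬ 𝔞 ≤ p → ¬ I ≤ p →
      (∃ r : Ideal A, r.IsPrime ∧ p ≤ r ∧ I ≤ r ∧ ¬ 𝔞 ≤ r) →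
        ∀ (q : Ideal A) [q.IsPrime], p ≤ q → 𝔞 ≤ q → ((d + 1 : ℕ) : WithBot ℕ∞) < Formal2.dimBetween A p q) :
    Formal2.FormalCohColimBijective A I M 0 (LocCoh.puncturedOpen A 𝔞) := by
  refine ⟨ColimGlue.inj I, fun y hy => ?_⟩
  obtain ⟨ω, hω⟩ := hω
  have : DRing.HasDerivedCompletion I := Groth.Agent.DRing.Completion.hasDerivedCompletion (IsNoetherian.noetherian I)
  let T : Set (PrimeSpectrum A) := {p | ∀ q : PrimeSpectrum A, p ≤ q → I ≤ q.asIdeal → 𝔞 ≤ q.asIdeal}
  obtain ⟨J₀, hJ₀, hV, hbij⟩ := Groth.Agent.LocCoh.CompIdeal.exists_ideal (M := M) hω I 𝔞 hd 1 T (fun _ => Iff.rfl)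
    fun p hpI hpT q hpq hqa hqI => by
      by_cases h1 : (1 : ℕ∞) ≤ LocCoh.depth (Localization.AtPrime p.asIdeal) (LocalizedModule p.asIdeal.primeCompl M)
      · exact Or.inl (by exact_mod_cast h1)
      · refine Or.inr ?_
        simp only [T, Set.mem_setOf_eq] at hpT
        push Not at hpT
        obtain ⟨r, hpr, hrI, hra⟩ := hpT
        have hass := mem_associatedPrimes_of_depth_lt_one p.asIdeal h1
        have := h₂ p.asIdeal hass (fun h => hra (h.trans hpr)) hpI ⟨r.asIdeal, r.2, hpr, hrI, hra⟩ q.asIdeal hpq hqa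
        rw [depth_eq_zero_of_mem p.asIdeal hass]
        simpa using this
  have hV₀ : Formal2.Admissible A I (LocCoh.puncturedOpen A 𝔞) (LocCoh.puncturedOpen A J₀) := by
    refine ⟨fun p hp h => hp (hJ₀.trans h), fun p hp hpI h => hp ?_⟩
    exact (hV.subset ⟨h, hpI⟩).1
  have := Groth.Agent.LocCoh.CompVanish.hasRgammaI J₀
  refine ColimGlue.surj_of_numerators I (ColimGlue.inj I) hV₀ y fun v => ?_
  exact exists_numerators I J₀ (hbij J₀ le_rfl hV 1 le_rfl).2 hV₀.1 y hy v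

/-- Sections with vanishing formal germs vanish if `M` has positive depth away from `V(I)`. -/
theorem eq_zero_of_formal (𝔞 : Ideal A)
    (h₃ : ∀ (p : Ideal A) [p.IsPrime], ¬ 𝔞 ≤ p →
      (∀ (r : Ideal A), r.IsPrime → p ≤ r → I ≤ r → 𝔞 ≤ r) →
        (2 : ℕ∞) ≤ LocCoh.depth (Localization.AtPrime p) (LocalizedModule p.primeCompl M))
    (x : Formal2.HV A M 0 (LocCoh.puncturedOpen A 𝔞))
    (hx : ∀ n, Formal2.HVmap A (Formal2.quotPowπ A I M n) 0 (LocCoh.puncturedOpen A 𝔞) x = 0) : x = 0 := by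
  refine val_ext fun z => ?_
  rw [val_zero]
  by_contra hz
  obtain ⟨W, hzW, hWU, m, a, hma⟩ := loc_val x z
  obtain ⟨ha, e⟩ := hma ⟨z.1, hzW⟩
  let L : Ideal A := LinearMap.ker (LinearMap.toSpanSingleton A M m)
  have hLz : L ≤ z.1.asIdeal := fun c hc => by
    by_contra hcz
    exact hz (e.trans (mk_eq_zero.2 ⟨c, hcz, LinearMap.mem_ker.1 hc⟩))
  obtain ⟨P, hP, hPz⟩ := Ideal.exists_minimalPrimes_le hLz
  have hPass : P ∈ associatedPrimes A M := by
    have hker : L = (LinearMap.range (LinearMap.toSpanSingleton A M m)).annihilator := by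
      ext c
      rw [Submodule.mem_annihilator, LinearMap.mem_ker]
      constructor
      · rintro hc _ ⟨r, rfl⟩
        rw [LinearMap.toSpanSingleton_apply, smul_comm, show c • m = 0 from hc, smul_zero]
      · intro h
        rw [LinearMap.toSpanSingleton_apply]
        exact h m ⟨1, one_smul A m⟩
    rw [hker] at hP
    exact (associatedPrimes.subset_of_injective (Submodule.subtype_injective _))
      (Module.associatedPrimes.minimalPrimes_annihilator_subset_associatedPrimes _ _ hP)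
  haveI := hP.1.1
  have hPU : (⟨P, hP.1.1⟩ : PrimeSpectrum A) ∈ LocCoh.puncturedOpen A 𝔞 := fun h => z.2 (h.trans hPz)
  have hPW : (⟨P, hP.1.1⟩ : PrimeSpectrum A) ∈ W :=
    ((PrimeSpectrum.le_iff_specializes ⟨P, hP.1.1⟩ z.1).1 hPz).mem_open W.2 hzW
  have hd := h₃ P hPU fun r hr hPr hIr => by
    by_contra hra
    let R : LocCoh.puncturedOpen A 𝔞 := ⟨⟨r, hr⟩, hra⟩
    have hR : val x R = 0 := ColimPrin.eq_zero_of_formal M I hIr fun n => val_formal (M := M) I hx n R
    obtain ⟨W', hRW', hW'U, m', a', hma'⟩ := loc_val x R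
    obtain ⟨ha', e'⟩ := hma' ⟨R.1, hRW'⟩
    obtain ⟨c, hc, ec⟩ := mk_eq_zero.1 (e'.symm.trans hR)
    have hPW' : (⟨P, hP.1.1⟩ : PrimeSpectrum A) ∈ W' :=
      ((PrimeSpectrum.le_iff_specializes ⟨P, hP.1.1⟩ R.1).1 hPr).mem_open W'.2 hRW'
    have h0 := (hma' ⟨_, hPW'⟩).2.trans (mk_eq_zero.2 ⟨c, fun h => hc (hPr h), ec⟩)
    obtain ⟨c', hc', ec'⟩ := mk_eq_zero.1 ((hma ⟨_, hPW⟩).2.symm.trans h0)
    exact hc' (hP.1.2 (LinearMap.mem_ker.2 ec'))
  rw [depth_eq_zero_of_mem P hPass] at hd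
  exact absurd hd (by decide)

/-- The comparison on `U`. -/
theorem bijective [IsAdicComplete I A] (hω : ∃ ω : Dual.D A, Dual.IsDualizing A ω) (𝔞 : Ideal A) {d : ℕ}
    (hd : _root_.LocCoh.CdLE A I d)
    (h₂ : ∀ p ∈ associatedPrimes A M, ¬ 𝔞 ≤ p → ¬ I ≤ p →
      (∃ r : Ideal A, r.IsPrime ∧ p ≤ r ∧ I ≤ r ∧ ¬ 𝔞 ≤ r) →
        ∀ (q : Ideal A) [q.IsPrime], p ≤ q → 𝔞 ≤ q → ((d + 1 : ℕ) : WithBot ℕ∞) < Formal2.dimBetween A p q)
    (h₃ : ∀ (p : Ideal A) [p.IsPrime], ¬ 𝔞 ≤ p →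
      (∀ (r : Ideal A), r.IsPrime → p ≤ r → I ≤ r → 𝔞 ≤ r) →
        (2 : ℕ∞) ≤ LocCoh.depth (Localization.AtPrime p) (LocalizedModule p.primeCompl M)) :
    Formal2.FormalCohBijective A I M 0 (LocCoh.puncturedOpen A 𝔞) := by
  have hinj := eq_zero_of_formal I 𝔞 h₃
  refine ⟨fun x x' h => sub_eq_zero.1 (hinj _ fun n => by rw [map_sub, h n, sub_self]), fun y hy => ?_⟩
  obtain ⟨ω, hω⟩ := hω
  have : DRing.HasDerivedCompletion I := Groth.Agent.DRing.Completion.hasDerivedCompletion (IsNoetherian.noetherian I)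
  have := Groth.Agent.LocCoh.CompVanish.hasRgammaI 𝔞
  have := Groth.Agent.LocCoh.CompVanish.hasRgammaI I
  have hs := Groth.Agent.LocCoh.CompBij.bijective (J := 𝔞) (M := M) hω hd 1 (fun p hpI hpa => ?_) 1 le_rfl
  · exact ColimGlue.surj_of_numerators_of_injective I hinj y fun v =>
      exists_numerators I 𝔞 hs.2 le_rfl y hy v
  · by_cases hT : ∀ (r : Ideal A), r.IsPrime → p.asIdeal ≤ r → I ≤ r → 𝔞 ≤ r
    · exact Or.inr (Or.inl (lt_of_lt_of_le (by norm_num) (h₃ p.asIdeal hpa hT)))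
    push Not at hT
    obtain ⟨r, hr, hpr, hrI, hra⟩ := hT
    by_cases h1 : (1 : ℕ∞) ≤ LocCoh.depth (Localization.AtPrime p.asIdeal) (LocalizedModule p.asIdeal.primeCompl M)
    · exact Or.inr (Or.inr ⟨by exact_mod_cast h1, ⟨r, hr⟩, hpr, hrI, hra⟩)
    · refine Or.inl fun q hpq hqa hqI => ?_
      have hass := mem_associatedPrimes_of_depth_lt_one p.asIdeal h1
      have := h₂ p.asIdeal hass hpa hpI ⟨r, hr, hpr, hrI, hra⟩ q.asIdeal hpq hqa
      rw [depth_eq_zero_of_mem p.asIdeal hass, ← Groth.Agent.LocCoh.SuppHm.dimBetween_eq p q]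
      simpa using this

end Groth.Agent.Formal61.ColimDual
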