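import Groth.Agent.Formal61.ColimPrin

/-!
# Gluing formal classes
-/

set_option autoImplicit false
set_option backward.isDefEq.respectTransparency false
universe u

open CategoryTheory Opposite AlgebraicGeometry TopologicalSpace
open Groth.Agent.Formal61.Sec0 Groth.Agent.Formal61.SeqColim

noncomputable section

namespace Groth.Agent.Formal61.ColimGlue

variable {A : Type u} [CommRing A] (I : Ideal A)
variable {U V : (Spec (CommRingCat.of A)).Opens}
variable {M : Type u} [AddCommGroup M] [Module A M]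

/-- Glue a class from global numerators on `V`. -/
theorem glue {ι : Type*} (j : ι → A) (m : ι → M) (hcov : ∀ z : V, ∃ i, j i ∉ z.1.asIdeal)
    (hcomp : ∀ a b (z : V), (LocalizedModule.mk (j b • m a) 1 : Lp z.1 M) = LocalizedModule.mk (j a • m b) 1) :
    ∃ x : Formal2.HV A M 0 V, ∀ (z : V) i, j i • val x z = LocalizedModule.mk (m i) 1 := by
  choose v hv using hcov
  let s : ∀ z : V, Lp z.1 M := fun z => LocalizedModule.mk (m (v z)) ⟨j (v z), hv z⟩
  have hs : ∀ (z : V) i, j i • s z = LocalizedModule.mk (m i) 1 := fun z i => by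
    refine (smul_bijective (hv z)).1 ?_
    show j (v z) • j i • s z = j (v z) • _
    rw [smul_comm]
    simp only [s, LocalizedModule.smul'_mk]
    refine Eq.trans ?_ (hcomp (v z) i z)
    rw [smul_comm]
    exact LocalizedModule.mk_cancel (⟨j (v z), hv z⟩ : z.1.asIdeal.primeCompl) _
  have hloc : Loc s := fun z => ⟨V ⊓ PrimeSpectrum.basicOpen (j (v z)), ⟨z.2, hv z⟩, inf_le_left, m (v z), j (v z),
    fun w => ⟨w.2.2, (smul_bijective (show j (v z) ∉ w.1.asIdeal from w.2.2)).1 (by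
      show j (v z) • s ⟨w.1, w.2.1⟩ = j (v z) • LocalizedModule.mk (m (v z)) _
      rw [hs, LocalizedModule.smul'_mk]
      exact (LocalizedModule.mk_cancel (⟨j (v z), w.2.2⟩ : w.1.asIdeal.primeCompl) _).symm)⟩⟩
  obtain ⟨x, hx⟩ := exists_val_eq hloc
  exact ⟨x, fun z i => by rw [hx, hs]⟩

/-- Global numerators give surjectivity, on a smaller open. -/
theorem surj_of_numerators [IsNoetherianRing A] (hinj : Inj I U M) (hV : Formal2.Admissible A I U V)
    (y : ∀ n, Formal2.HV A (Formal2.quotPow A I M n) 0 U)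
    (hloc : ∀ v : V, ∃ (j : A) (m : M), j ∉ v.1.asIdeal ∧
      ∀ (n : ℕ) (z : V), LocalizedModule.mk (Formal2.quotPowπ A I M n m) 1 = j • val (y n) ⟨z.1, hV.1 z.2⟩) :
    ∃ (W : (Spec (CommRingCat.of A)).Opens) (hW : Formal2.Admissible A I U W) (x : Formal2.HV A M 0 W),
      ∀ n, Formal2.HVres A (Formal2.quotPow A I M n) 0 hW.1 (y n) = Formal2.HVmap A (Formal2.quotPowπ A I M n) 0 W x := by
  classical
  choose j m hj hm using hloc
  haveI : NoetherianSpace (PrimeSpectrum A) := inferInstance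
  obtain ⟨t, ht⟩ := (NoetherianSpace.isCompact (V.carrier : Set (PrimeSpectrum A))).elim_finite_subcover
    (fun v : V => (PrimeSpectrum.basicOpen (j v) : Set (PrimeSpectrum A)))
    (fun v => (PrimeSpectrum.basicOpen (j v)).2) fun z hz => Set.mem_iUnion.2 ⟨⟨z, hz⟩, hj ⟨z, hz⟩⟩
  have hcomp : ∀ p : V × V, ∃ (V' : (Spec (CommRingCat.of A)).Opens) (_ : Formal2.Admissible A I U V'),
      ∀ z : V, z.1 ∈ V' → (LocalizedModule.mk (j p.2 • m p.1) 1 : Lp z.1 M) = LocalizedModule.mk (j p.1 • m p.2) 1 := by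
    rintro ⟨a, b⟩
    obtain ⟨d, hd⟩ := exists_val_eq (loc_mk (V := V) (j b • m a - j a • m b))
    obtain ⟨V₃, hV₃, hd₃⟩ := hinj V hV d fun n => val_ext fun z => by
      rw [val_map, hd, lm_mk, map_sub, map_smul, map_smul, val_zero, ← LocalizedModule.mkLinearMap_apply, map_sub,
        map_smul, map_smul, LocalizedModule.mkLinearMap_apply, LocalizedModule.mkLinearMap_apply, hm a n z, hm b n z,
        smul_comm, sub_self]
    refine ⟨V₃, hV₃.1, fun z hz => sub_eq_zero.1 ?_⟩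
    refine Eq.trans ?_ (((val_res hV₃.2 d ⟨z.1, hz⟩).symm.trans
      (congrArg (fun q => val q ⟨z.1, hz⟩) hd₃)).trans (val_zero _))
    rw [hd, ← LocalizedModule.mkLinearMap_apply, ← LocalizedModule.mkLinearMap_apply,
      ← LocalizedModule.mkLinearMap_apply, map_sub]
  choose V' hV' hcomp' using hcomp
  obtain ⟨W, hW, hWV, hW'⟩ := admissible_finset I (t ×ˢ t) V' (fun i _ => hV' i) hV
  obtain ⟨x, hx⟩ := glue (V := W) (fun i : t => j i.1) (fun i : t => m i.1) (fun z => by
    obtain ⟨v, hvt, hzv⟩ := Set.mem_iUnion₂.1 (ht (hWV z.2))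
    exact ⟨⟨v, hvt⟩, hzv⟩) fun a b z => hcomp' (a.1, b.1) ⟨z.1, hWV z.2⟩
      (hW' (a.1, b.1) (Finset.mem_product.2 ⟨a.2, b.2⟩) z.2)
  refine ⟨W, hW, x, fun n => val_ext fun z => ?_⟩
  obtain ⟨v, hvt, hzv⟩ := Set.mem_iUnion₂.1 (ht (hWV z.2))
  rw [val_res, val_map]
  refine (smul_bijective (show j v ∉ z.1.asIdeal from hzv)).1 ?_
  show j v • val (y n) _ = j v • lm z.1 _ _
  rw [← map_smul, hx z ⟨v, hvt⟩, lm_mk]
  exact (hm v n ⟨z.1, hWV z.2⟩).symm

/-- Global numerators give surjectivity on `U` if the sections inject. -/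
theorem surj_of_numerators_of_injective (hinj : ∀ x : Formal2.HV A M 0 U,
      (∀ n, Formal2.HVmap A (Formal2.quotPowπ A I M n) 0 U x = 0) → x = 0)
    (y : ∀ n, Formal2.HV A (Formal2.quotPow A I M n) 0 U)
    (hloc : ∀ v : U, ∃ (j : A) (m : M), j ∉ v.1.asIdeal ∧
      ∀ (n : ℕ) (z : U), LocalizedModule.mk (Formal2.quotPowπ A I M n m) 1 = j • val (y n) z) :
    ∃ x : Formal2.HV A M 0 U, ∀ n, Formal2.HVmap A (Formal2.quotPowπ A I M n) 0 U x = y n := by
  choose j m hj hm using hloc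
  obtain ⟨x, hx⟩ := glue (V := U) j m (fun z => ⟨z, hj z⟩) fun a b z => by
    obtain ⟨d, hd⟩ := exists_val_eq (loc_mk (V := U) (j b • m a - j a • m b))
    have h0 := hinj d fun n => val_ext fun z => by
      rw [val_map, hd, lm_mk, map_sub, map_smul, map_smul, val_zero, ← LocalizedModule.mkLinearMap_apply, map_sub,
        map_smul, map_smul, LocalizedModule.mkLinearMap_apply, LocalizedModule.mkLinearMap_apply, hm a n z, hm b n z,
        smul_comm, sub_self]
    refine sub_eq_zero.1 ?_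
    refine Eq.trans ?_ ((congrArg (fun q => val q z) h0).trans (val_zero z))
    rw [hd, ← LocalizedModule.mkLinearMap_apply, ← LocalizedModule.mkLinearMap_apply,
      ← LocalizedModule.mkLinearMap_apply, map_sub]
  refine ⟨x, fun n => val_ext fun z => (smul_bijective (hj z)).1 ?_⟩
  show j z • val _ z = j z • val (y n) z
  rw [val_map, ← map_smul, hx z z, lm_mk]
  exact hm z n z

/-- A germ vanishing at points of `V(I)` vanishes nearby: the injectivity half. -/
theorem inj [IsNoetherianRing A] [Module.Finite A M] : Inj I U M := by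
  intro V hV x hx
  let V' : (Spec (CommRingCat.of A)).Opens :=
    ⟨{ p | ∃ h : p ∈ V, val x ⟨p, h⟩ = 0 }, isOpen_iff_forall_mem_open.2 fun p ⟨hp, h0⟩ => by
      obtain ⟨W, hW, hWV, m, a, hma⟩ := loc_val x ⟨p, hp⟩
      obtain ⟨ha, e⟩ := hma ⟨p, hW⟩
      obtain ⟨c, hc, ec⟩ := mk_eq_zero.1 (e.symm.trans h0)
      refine ⟨W.1 ∩ (PrimeSpectrum.basicOpen c).1, fun q hq => ⟨hWV hq.1, ?_⟩,
        W.2.inter (PrimeSpectrum.basicOpen c).2, hW, hc⟩
      exact (hma ⟨q, hq.1⟩).2.trans (mk_eq_zero.2 ⟨c, hq.2, ec⟩)⟩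
  refine ⟨V', ⟨⟨fun p hp => hV.1 hp.1, fun p hp hp' => ⟨hV.2 p hp hp', ?_⟩⟩, fun p hp => hp.1⟩, ?_⟩
  · exact ColimPrin.eq_zero_of_formal M I hp' fun n => val_formal (M := M) I hx n (⟨p, hV.2 p hp hp'⟩ : V)
  · exact val_ext fun z => (val_res _ x z).trans (z.2.2.trans (val_zero z).symm)

end Groth.Agent.Formal61.ColimGlue
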