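import Groth.Agent.Formal61.SecPt
import Mathlib.RingTheory.Filtration

/-!
# The colimit comparison in short exact sequences
-/

set_option autoImplicit false
set_option backward.isDefEq.respectTransparency false
universe u

open CategoryTheory Opposite AlgebraicGeometry TopologicalSpace
open Groth.Agent.Formal61.Sec0

noncomputable section

namespace Groth.Agent.Formal61.SeqColim

variable {A : Type u} [CommRing A] (I : Ideal A)
variable {M N P : Type u} [AddCommGroup M] [Module A M] [AddCommGroup N] [Module A N] [AddCommGroup P] [Module A P]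
variable {U V W : (Spec (CommRingCat.of A)).Opens}

/-- The induced map on the quotients. -/
def bar (φ : M →ₗ[A] N) (n : ℕ) : Formal2.quotPow A I M n →ₗ[A] Formal2.quotPow A I N n :=
  Submodule.mapQ _ _ φ (Submodule.map_le_iff_le_comap.1 (by
    rw [Submodule.map_smul'']
    exact smul_mono_right _ le_top))

theorem bar_π (φ : M →ₗ[A] N) (n : ℕ) :
    (bar I φ n).comp (Formal2.quotPowπ A I M n) = (Formal2.quotPowπ A I N n).comp φ :=
  LinearMap.ext fun _ => rfl

theorem bar_trans (φ : M →ₗ[A] N) (n : ℕ) :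
    (bar I φ n).comp (Formal2.quotPowTrans A I M n) = (Formal2.quotPowTrans A I N n).comp (bar I φ (n + 1)) :=
  LinearMap.ext fun x => Submodule.Quotient.induction_on _ x fun _ => rfl

variable (M) in
/-- The iterated transition. -/
def tr (n c : ℕ) : Formal2.quotPow A I M (n + c) →ₗ[A] Formal2.quotPow A I M n :=
  Submodule.mapQ _ _ LinearMap.id (by
    rw [Submodule.comap_id]; exact Submodule.smul_mono_left (Ideal.pow_le_pow_right (by omega)))

theorem bar_tr (φ : M →ₗ[A] N) (n c : ℕ) :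
    (bar I φ n).comp (tr I M n c) = (tr I N n c).comp (bar I φ (n + c)) :=
  LinearMap.ext fun x => Submodule.Quotient.induction_on _ x fun _ => rfl

theorem tr_π (n c : ℕ) : (tr I M n c).comp (Formal2.quotPowπ A I M (n + c)) = Formal2.quotPowπ A I M n :=
  LinearMap.ext fun _ => rfl

theorem trans_π (n : ℕ) :
    (Formal2.quotPowTrans A I M n).comp (Formal2.quotPowπ A I M (n + 1)) = Formal2.quotPowπ A I M n :=
  LinearMap.ext fun _ => rfl

theorem tr_zero (n : ℕ) : tr I M n 0 = LinearMap.id :=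
  LinearMap.ext fun x => Submodule.Quotient.induction_on _ x fun _ => rfl

theorem tr_succ (n c : ℕ) : tr I M n (c + 1) = (tr I M n c).comp (Formal2.quotPowTrans A I M (n + c)) := by
  refine Submodule.linearMap_qext _ (LinearMap.ext fun m => ?_)
  simp only [tr, Formal2.quotPowTrans, LinearMap.comp_apply, Submodule.mkQ_apply, Submodule.mapQ_apply,
    LinearMap.id_apply]
  rfl

theorem ker_bar_le (f : M →ₗ[A] N) (g : N →ₗ[A] P) (hg : Function.Surjective g)
    (hfg : LinearMap.range f = LinearMap.ker g) (n : ℕ) :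
    LinearMap.ker (bar I g n) ≤ LinearMap.range (bar I f n) := by
  intro x hx
  induction x using Submodule.Quotient.induction_on with
  | _ m =>
    have h1 : g m ∈ (I ^ (n + 1) • ⊤ : Submodule A N).map g := by
      rw [Submodule.map_smul'', Submodule.map_top, LinearMap.range_eq_top.mpr hg]
      exact (Submodule.Quotient.mk_eq_zero _).1 hx
    obtain ⟨m₁, hm₁, e⟩ := h1
    have h2 : m - m₁ ∈ LinearMap.range f := by rw [hfg, LinearMap.mem_ker, map_sub, e, sub_self]
    obtain ⟨a, ha⟩ := h2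
    refine ⟨Submodule.Quotient.mk a, (Submodule.Quotient.eq _).2 ?_⟩
    rw [ha, sub_sub_cancel_left]
    exact Submodule.neg_mem _ hm₁

/-- Artin–Rees for an injective map. -/
theorem exists_ker_bar_le [IsNoetherianRing A] [Module.Finite A N] (f : M →ₗ[A] N) (hf : Function.Injective f) :
    ∃ c : ℕ, ∀ n, LinearMap.ker (bar I f (n + c)) ≤ LinearMap.ker (tr I M n c) := by
  obtain ⟨k, hk⟩ := I.exists_pow_inf_eq_pow_smul (LinearMap.range f)
  refine ⟨k, fun n x hx => ?_⟩
  induction x using Submodule.Quotient.induction_on with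
  | _ m =>
    have h1 : f m ∈ I ^ (n + k + 1) • (⊤ : Submodule A N) ⊓ LinearMap.range f :=
      ⟨(Submodule.Quotient.mk_eq_zero _).1 hx, m, rfl⟩
    rw [hk _ (by omega), show n + k + 1 - k = n + 1 by omega] at h1
    have h2 : f m ∈ (I ^ (n + 1) • ⊤ : Submodule A M).map f := by
      rw [Submodule.map_smul'', Submodule.map_top]
      exact SetLike.le_def.1 (smul_mono_right _ inf_le_right) h1
    obtain ⟨m', hm', e⟩ := h2
    exact (Submodule.Quotient.mk_eq_zero _).2 (hf e ▸ hm')

theorem quotPow_killed (n : ℕ) : ∀ a ∈ I ^ (n + 1), ∀ m : Formal2.quotPow A I M n, a • m = 0 := fun a ha x =>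
  Submodule.Quotient.induction_on _ x fun _ =>
    (Submodule.Quotient.mk_eq_zero _).2 (Submodule.smul_mem_smul ha Submodule.mem_top)

theorem admissible_inf (hV : Formal2.Admissible A I U V) (hW : Formal2.Admissible A I U W) :
    Formal2.Admissible A I U (V ⊓ W) :=
  ⟨inf_le_left.trans hV.1, fun p hp hp' => ⟨hV.2 p hp hp', hW.2 p hp hp'⟩⟩

theorem admissible_finset {ι : Type*} (t : Finset ι) (Vs : ι → (Spec (CommRingCat.of A)).Opens)
    (h : ∀ i ∈ t, Formal2.Admissible A I U (Vs i)) (hV : Formal2.Admissible A I U V) :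
    ∃ V', Formal2.Admissible A I U V' ∧ V' ≤ V ∧ ∀ i ∈ t, V' ≤ Vs i := by
  classical
  induction t using Finset.induction_on with
  | empty => exact ⟨V, hV, le_rfl, fun i hi => absurd hi (Finset.notMem_empty i)⟩
  | insert a t _ ih =>
    obtain ⟨V', h1, h2, h3⟩ := ih fun i hi => h i (Finset.mem_insert_of_mem hi)
    refine ⟨V' ⊓ Vs a, admissible_inf I h1 (h a (Finset.mem_insert_self a t)), inf_le_left.trans h2, fun i hi => ?_⟩
    rcases Finset.mem_insert.1 hi with rfl | hi
    · exact inf_le_right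
    · exact inf_le_left.trans (h3 i hi)

theorem val_formal {x : Formal2.HV A M 0 V} (hx : ∀ n, Formal2.HVmap A (Formal2.quotPowπ A I M n) 0 V x = 0)
    (n : ℕ) (z : V) : lm z.1 (Formal2.quotPowπ A I M n) (val x z) = 0 := by
  rw [← val_map, hx, val_zero]

theorem tr_compat {y : ∀ n, Formal2.HV A (Formal2.quotPow A I M n) 0 U}
    (hy : ∀ n, Formal2.HVmap A (Formal2.quotPowTrans A I M n) 0 U (y (n + 1)) = y n) (n c : ℕ) (z : U) :
    lm z.1 (tr I M n c) (val (y (n + c)) z) = val (y n) z := by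
  induction c with
  | zero => rw [tr_zero, lm_id]; rfl
  | succ c ih =>
    rw [tr_succ]
    exact (lm_comp _ _ _ _).trans ((congrArg (lm z.1 (tr I M n c))
      ((val_map _ _ z).symm.trans (congrArg (fun w => val w z) (hy (n + c))))).trans ih)

variable (M) in
/-- The transition between two levels. -/
def tl {n m : ℕ} (h : n ≤ m) : Formal2.quotPow A I M m →ₗ[A] Formal2.quotPow A I M n :=
  Submodule.mapQ _ _ LinearMap.id (by
    rw [Submodule.comap_id]; exact Submodule.smul_mono_left (Ideal.pow_le_pow_right (by omega)))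

theorem bar_tl (φ : M →ₗ[A] N) {n m : ℕ} (h : n ≤ m) :
    (bar I φ n).comp (tl I M h) = (tl I N h).comp (bar I φ m) :=
  LinearMap.ext fun x => Submodule.Quotient.induction_on _ x fun _ => rfl

theorem tl_π {n m : ℕ} (h : n ≤ m) :
    (tl I M h).comp (Formal2.quotPowπ A I M m) = Formal2.quotPowπ A I M n :=
  LinearMap.ext fun _ => rfl

theorem tl_tl {n m k : ℕ} (h : n ≤ m) (h' : m ≤ k) : (tl I M h).comp (tl I M h') = tl I M (h.trans h') := by
  refine Submodule.linearMap_qext _ (LinearMap.ext fun m => ?_)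
  simp only [tl, LinearMap.comp_apply, Submodule.mkQ_apply, Submodule.mapQ_apply, LinearMap.id_apply]

theorem trans_eq_tl (n : ℕ) : Formal2.quotPowTrans A I M n = tl I M (Nat.le_succ n) :=
  LinearMap.ext fun x => Submodule.Quotient.induction_on _ x fun _ => rfl

theorem tl_eq_tr (n c : ℕ) : tl I M (Nat.le_add_right n c) = tr I M n c := rfl

theorem tl_compat {y : ∀ n, Formal2.HV A (Formal2.quotPow A I M n) 0 U}
    (hy : ∀ n, Formal2.HVmap A (Formal2.quotPowTrans A I M n) 0 U (y (n + 1)) = y n) {n m : ℕ} (h : n ≤ m) (z : U) :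
    lm z.1 (tl I M h) (val (y m) z) = val (y n) z := by
  obtain ⟨c, rfl⟩ := Nat.exists_eq_add_of_le h
  exact tr_compat I hy n c z

/-- A section with vanishing image comes from the submodule. -/
theorem exists_preimage (f : M →ₗ[A] N) (g : N →ₗ[A] P) (hf : Function.Injective f)
    (hfg : LinearMap.range f = LinearMap.ker g) (x : Formal2.HV A N 0 V)
    (hx : ∀ z, lm z.1 g (val x z) = 0) : ∃ x' : Formal2.HV A M 0 V, ∀ z, lm z.1 f (val x' z) = val x z := by
  obtain ⟨w, hw⟩ := exists_lift (p := f) (q := g) (t := (LinearMap.id : M →ₗ[A] M)) hfg.ge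
    (by rw [LinearMap.ker_eq_bot.mpr hf]; exact bot_le) (loc_val x) hx
  refine ⟨w, fun z => ?_⟩
  obtain ⟨v, hv⟩ := exists_lm_eq hfg.ge (hx z)
  rw [hw z v hv, lm_id, hv]

variable {M' M'' : Type u} [AddCommGroup M'] [Module A M'] [AddCommGroup M''] [Module A M'']
variable (f : M' →ₗ[A] M) (g : M →ₗ[A] M'')

/-- A formally trivial class of the submodule. -/
theorem formal_of_lm {c : ℕ} (hc : ∀ n, LinearMap.ker (bar I f (n + c)) ≤ LinearMap.ker (tr I M' n c))
    {x' : Formal2.HV A M' 0 V} {x : Formal2.HV A M 0 V} (h : ∀ z, lm z.1 f (val x' z) = val x z)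
    (hx : ∀ n, Formal2.HVmap A (Formal2.quotPowπ A I M n) 0 V x = 0) (n : ℕ) :
    Formal2.HVmap A (Formal2.quotPowπ A I M' n) 0 V x' = 0 := by
  refine val_ext fun z => ?_
  rw [val_map, val_zero, ← tr_π I n c, lm_comp]
  refine lm_eq_zero_of_ker_le (hc n) ?_
  rw [← lm_comp, bar_π, lm_comp, h, val_formal I hx]

variable (U) in
/-- The injectivity half for `M`. -/
def Inj (M : Type u) [AddCommGroup M] [Module A M] : Prop :=
  ∀ (V : (Spec (CommRingCat.of A)).Opens) (_ : Formal2.Admissible A I U V) (x : Formal2.HV A M 0 V),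
      (∀ n, Formal2.HVmap A (Formal2.quotPowπ A I M n) 0 V x = 0) →
        ∃ (V' : (Spec (CommRingCat.of A)).Opens) (h : Formal2.Admissible A I U V' ∧ V' ≤ V),
          Formal2.HVres A M 0 h.2 x = 0

theorem inj_middle [IsNoetherianRing A] [Module.Finite A M] (hf : Function.Injective f)
    (hfg : LinearMap.range f = LinearMap.ker g) (h' : Inj I U M') (h'' : Inj I U M'') : Inj I U M := by
  intro V hV x hx
  obtain ⟨c, hc⟩ := exists_ker_bar_le I f hf
  have hgx : ∀ n, Formal2.HVmap A (Formal2.quotPowπ A I M'' n) 0 V (Formal2.HVmap A g 0 V x) = 0 := fun n =>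
    val_ext fun z => by
      rw [val_map, val_map, val_zero, ← lm_comp, ← bar_π, lm_comp, val_formal I hx, map_zero]
  obtain ⟨V₁, hV₁, hx₁⟩ := h'' V hV _ hgx
  obtain ⟨x', hx'⟩ := exists_preimage f g hf hfg (Formal2.HVres A M 0 hV₁.2 x) fun z => by
    refine (congrArg (lm z.1 g) (val_res hV₁.2 x z)).trans ((val_map g x ⟨z.1, hV₁.2 z.2⟩).symm.trans ?_)
    exact ((val_res hV₁.2 _ z).symm.trans (congrArg (fun w => val w z) hx₁)).trans (val_zero z)
  have hres : ∀ n, Formal2.HVmap A (Formal2.quotPowπ A I M n) 0 V₁ (Formal2.HVres A M 0 hV₁.2 x) = 0 := fun n =>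
    val_ext fun z => (val_map _ _ z).trans ((congrArg (lm z.1 _) (val_res hV₁.2 x z)).trans
      ((val_formal I hx n ⟨z.1, hV₁.2 z.2⟩).trans (val_zero z).symm))
  obtain ⟨V₂, hV₂, hx₂⟩ := h' V₁ hV₁.1 x' (formal_of_lm I f hc hx' hres)
  refine ⟨V₂, ⟨hV₂.1, hV₂.2.trans hV₁.2⟩, val_ext fun z => ?_⟩
  have e := hx' ⟨z.1, hV₂.2 z.2⟩
  rw [val_res] at e
  rw [val_res, val_zero, ← e, ← val_res hV₂.2, hx₂, val_zero, map_zero]

theorem inj_left [IsNoetherianRing A] (hf : Function.Injective f) (h : Inj I U M) : Inj I U M' := by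
  intro V hV x hx
  have hfx : ∀ n, Formal2.HVmap A (Formal2.quotPowπ A I M n) 0 V (Formal2.HVmap A f 0 V x) = 0 := fun n =>
    val_ext fun z => by
      rw [val_map, val_map, val_zero, ← lm_comp, ← bar_π, lm_comp, val_formal I hx, map_zero]
  obtain ⟨V₁, hV₁, hx₁⟩ := h V hV _ hfx
  refine ⟨V₁, hV₁, val_ext fun z => lm_injective hf ?_⟩
  refine (congrArg (lm z.1 f) (val_res hV₁.2 x z)).trans ((val_map f x ⟨z.1, hV₁.2 z.2⟩).symm.trans ?_)
  exact (((val_res hV₁.2 _ z).symm.trans (congrArg (fun w => val w z) hx₁)).trans (val_zero z)).trans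
    ((congrArg (lm z.1 f) (val_zero z)).trans (map_zero _)).symm

end Groth.Agent.Formal61.SeqColim
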