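import Groth.Agent.Formal61.SecFin
import Groth.Agent.Formal61.SeqColim
import Groth.Agent.Adic.Basic
import Mathlib.RingTheory.Nakayama
import Mathlib.RingTheory.AdicCompletion.Functoriality

/-!
# The colimit comparison for a principal ideal
-/

set_option autoImplicit false
set_option backward.isDefEq.respectTransparency false
universe u

open CategoryTheory Opposite AlgebraicGeometry TopologicalSpace
open Groth.Agent.Formal61.Sec0 Groth.Agent.Formal61.SeqColim

noncomputable section

namespace Groth.Agent.Formal61.ColimPrin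

variable {A : Type u} [CommRing A] (f : A) (M : Type u) [AddCommGroup M] [Module A M]
variable (U : (Spec (CommRingCat.of A)).Opens)


/-- The compatible formal sections. -/
def Y : Submodule A (∀ (n : ℕ) (z : U), Lp z.1 (Formal2.quotPow A (Ideal.span ({f} : Set A)) M n)) where
  carrier := { y | (∀ n, Loc (y n)) ∧ ∀ n z, lm z.1 (Formal2.quotPowTrans A (Ideal.span ({f} : Set A)) M n) (y (n + 1) z) = y n z }
  add_mem' := fun {_ _} hs ht => ⟨fun n => (hs.1 n).add (ht.1 n),
    fun n z => by simp only [Pi.add_apply, map_add, hs.2, ht.2]⟩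
  zero_mem' := ⟨fun n => (SecFin.secSub _ U).zero_mem, fun n z => map_zero _⟩
  smul_mem' := fun a _ hs => ⟨fun n => (hs.1 n).smul a, fun n z => by simp only [Pi.smul_apply, map_smul, hs.2]⟩

/-- The map from the module. -/
def φ : M →ₗ[A] Y f M U :=
  LinearMap.codRestrict _ (LinearMap.pi fun n => LinearMap.pi fun z : U =>
      (lm z.1 (Formal2.quotPowπ A (Ideal.span ({f} : Set A)) M n)).comp (LocalizedModule.mkLinearMap z.1.asIdeal.primeCompl M))
    fun m => ⟨fun n => (loc_mk m).map _, fun n z => by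
      simp only [LinearMap.pi_apply, LinearMap.comp_apply]
      rw [← lm_comp, trans_π]⟩

theorem φ_apply (m : M) (n : ℕ) (z : U) :
    (φ f M U m).1 n z = LocalizedModule.mk (Formal2.quotPowπ A (Ideal.span ({f} : Set A)) M n m) 1 := lm_mk _ _ _ _

theorem pow_smul_eq_zero (n : ℕ) {z : PrimeSpectrum A} (v : Lp z (Formal2.quotPow A (Ideal.span ({f} : Set A)) M n)) : f ^ (n + 1) • v = 0 := by
  induction v using LocalizedModule.induction_on with
  | _ m s =>
    rw [LocalizedModule.smul'_mk, quotPow_killed (Ideal.span ({f} : Set A)) n _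
      (Ideal.pow_mem_pow (Ideal.mem_span_singleton_self f) _) m, LocalizedModule.zero_mk]

instance : IsHausdorff (Ideal.span ({f} : Set A)) (Y f M U) := ⟨fun y hy => by
  refine Subtype.ext (funext fun n => funext fun z => ?_)
  have h := (SModEq.zero.1 (hy (n + 1)))
  rw [Ideal.span_singleton_pow, Submodule.ideal_span_singleton_smul] at h
  obtain ⟨y', -, rfl⟩ := (Submodule.mem_smul_pointwise_iff_exists _ _ _).1 h
  exact pow_smul_eq_zero f M n _⟩

/-- Multiplication by `f` between successive quotients. -/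
def mulf (n : ℕ) : Formal2.quotPow A (Ideal.span ({f} : Set A)) M n →ₗ[A] Formal2.quotPow A (Ideal.span ({f} : Set A)) M (n + 1) :=
  Submodule.mapQ _ _ (f • LinearMap.id) fun m hm => by
    show f • m ∈ ((Ideal.span ({f} : Set A)) ^ (n + 1 + 1) • ⊤ : Submodule A M)
    rw [pow_succ' (Ideal.span ({f} : Set A)) (n + 1), Submodule.mul_smul]
    exact Submodule.smul_mem_smul (Ideal.mem_span_singleton_self f) hm

theorem trans_mulf (n : ℕ) (v : Formal2.quotPow A (Ideal.span ({f} : Set A)) M n) :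
    Formal2.quotPowTrans A (Ideal.span ({f} : Set A)) M n (mulf f M n v) = f • v :=
  Submodule.Quotient.induction_on _ v fun _ => rfl

theorem mulf_trans (n : ℕ) :
    (mulf f M n).comp (Formal2.quotPowTrans A (Ideal.span ({f} : Set A)) M n) =
      (Formal2.quotPowTrans A (Ideal.span ({f} : Set A)) M (n + 1)).comp (mulf f M (n + 1)) := by
  refine Submodule.linearMap_qext _ (LinearMap.ext fun m => ?_)
  simp only [mulf, Formal2.quotPowTrans, LinearMap.comp_apply, Submodule.mkQ_apply, Submodule.mapQ_apply,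
    LinearMap.id_apply, LinearMap.smul_apply]

theorem mem_pow_smul_iff {n : ℕ} {m : M} : m ∈ (Ideal.span ({f} : Set A)) ^ n • (⊤ : Submodule A M) ↔ ∃ x, f ^ n • x = m := by
  rw [Ideal.span_singleton_pow, Submodule.ideal_span_singleton_smul, Submodule.mem_smul_pointwise_iff_exists]
  simp

theorem mulf_injective (hreg : IsSMulRegular M f) (n : ℕ) : Function.Injective (mulf f M n) := by
  rw [injective_iff_map_eq_zero]
  intro v
  induction v using Submodule.Quotient.induction_on with
  | _ m =>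
    intro h
    obtain ⟨x, hx⟩ := (mem_pow_smul_iff f M).1 ((Submodule.Quotient.mk_eq_zero _).1 h)
    rw [Submodule.Quotient.mk_eq_zero, mem_pow_smul_iff]
    exact ⟨x, hreg (by show f • f ^ (n + 1) • x = f • m; rw [← mul_smul, ← pow_succ']; exact hx)⟩

theorem range_mulf (n : ℕ) :
    LinearMap.range (mulf f M n) = LinearMap.ker (tl (Ideal.span ({f} : Set A)) M (Nat.zero_le (n + 1))) := by
  refine le_antisymm ?_ ?_
  · rintro _ ⟨v, rfl⟩
    induction v using Submodule.Quotient.induction_on with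
    | _ m => exact (Submodule.Quotient.mk_eq_zero _).2 ((mem_pow_smul_iff f M).2 ⟨m, by simp⟩)
  · intro v
    induction v using Submodule.Quotient.induction_on with
    | _ m =>
      intro h
      obtain ⟨x, hx⟩ := (mem_pow_smul_iff f M).1 ((Submodule.Quotient.mk_eq_zero _).1 h)
      exact ⟨Submodule.Quotient.mk x, congrArg Submodule.Quotient.mk (by simpa using hx)⟩

variable {f M U} in
theorem tl_val (y : Y f M U) {n m : ℕ} (h : n ≤ m) (z : U) :
    lm z.1 (tl (Ideal.span ({f} : Set A)) M h) (y.1 m z) = y.1 n z := by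
  obtain ⟨x, hx⟩ : ∃ x : ∀ k, Formal2.HV A (Formal2.quotPow A (Ideal.span ({f} : Set A)) M k) 0 U, ∀ k z, val (x k) z = y.1 k z :=
    ⟨fun k => (exists_val_eq (y.2.1 k)).choose, fun k => (exists_val_eq (y.2.1 k)).choose_spec⟩
  rw [← hx, ← hx]
  exact tl_compat (Ideal.span ({f} : Set A)) (fun k => val_ext fun z => by rw [val_map, hx, hx]; exact y.2.2 k z) h z

/-- A formal section with vanishing first term is divisible by `f`. -/
theorem exists_smul_eq (hreg : IsSMulRegular M f) (y : Y f M U) (h0 : ∀ z, y.1 0 z = 0) :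
    ∃ y' : Y f M U, f • y' = y := by
  have h : ∀ n, ∃ w : Formal2.HV A (Formal2.quotPow A (Ideal.span ({f} : Set A)) M n) 0 U, ∀ z, lm z.1 (mulf f M n) (val w z) = y.1 (n + 1) z := by
    intro n
    obtain ⟨x, hx⟩ := exists_val_eq (y.2.1 (n + 1))
    obtain ⟨w, hw⟩ := exists_preimage (mulf f M n) (tl (Ideal.span ({f} : Set A)) M (Nat.zero_le (n + 1))) (mulf_injective f M hreg n)
      (range_mulf f M n) x fun z => by rw [hx, tl_val, h0]
    exact ⟨w, fun z => (hw z).trans (hx z)⟩
  choose w hw using h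
  refine ⟨⟨fun n z => val (w n) z, fun n => loc_val _, fun n z => ?_⟩, Subtype.ext (funext fun n => funext fun z => ?_)⟩
  · refine lm_injective (mulf_injective f M hreg n) ?_
    rw [← lm_comp, mulf_trans, lm_comp, hw, hw]
    exact y.2.2 (n + 1) z
  · show f • val (w n) z = y.1 n z
    rw [← y.2.2 n z, ← hw, ← lm_comp]
    generalize val (w n) z = v
    induction v using LocalizedModule.induction_on with
    | _ m s => rw [lm_mk, LocalizedModule.smul'_mk, LinearMap.comp_apply, trans_mulf]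

/-- The formal sections form a finite module. -/
theorem finite_Y [IsNoetherianRing A] [IsAdicComplete (Ideal.span ({f} : Set A)) A] (hreg : IsSMulRegular M f)
    (hfin : Module.Finite A (SecFin.secSub (Formal2.quotPow A (Ideal.span ({f} : Set A)) M 0) U)) : Module.Finite A (Y f M U) := by
  let e₀ : Y f M U →ₗ[A] SecFin.secSub (Formal2.quotPow A (Ideal.span ({f} : Set A)) M 0) U :=
    LinearMap.codRestrict _ ((LinearMap.proj 0).comp (Y f M U).subtype) fun y => y.2.1 0
  obtain ⟨t, g, hg⟩ := Module.Finite.exists_fin' A (LinearMap.range e₀)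
  choose s hs using fun i => (g (Pi.single i 1)).2
  let α : (Fin t → A) →ₗ[A] Y f M U := (Fintype.linearCombination A s)
  refine Module.Finite.of_surjective α (surjective_of_mkQ_comp_surjective (I := (Ideal.span ({f} : Set A))) fun q => ?_)
  induction q using Submodule.Quotient.induction_on with
  | _ y =>
    obtain ⟨a, ha⟩ := hg ⟨e₀ y, y, rfl⟩
    refine ⟨a, (Submodule.Quotient.eq _).2 ?_⟩
    have h1 : e₀ (α a) = e₀ y := by
      rw [show α a = ∑ i, a i • s i from Fintype.linearCombination_apply A s a, map_sum]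
      have h2 := congrArg Subtype.val ha
      rw [show a = ∑ i, a i • Pi.single i (1 : A) from pi_eq_sum_univ' a, map_sum, AddSubmonoidClass.coe_finsetSum] at h2
      refine Eq.trans (Finset.sum_congr rfl fun i _ => ?_) h2
      rw [map_smul, map_smul, hs]
      rfl
    obtain ⟨y', hy'⟩ := exists_smul_eq f M U hreg (α a - y) fun z => by
      show (α a).1 0 z - y.1 0 z = 0
      exact sub_eq_zero.2 (congrFun (congrArg Subtype.val h1) z)
    rw [← hy']
    exact Submodule.smul_mem_smul (Ideal.mem_span_singleton_self f) Submodule.mem_top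

variable [IsNoetherianRing A] [Module.Finite A M]

/-- Krull: formally vanishing germs at points of `V(I)` vanish. -/
theorem eq_zero_of_formal (I : Ideal A) {z : PrimeSpectrum A} (hz : I ≤ z.asIdeal) {v : Lp z M}
    (h : ∀ n, lm z (Formal2.quotPowπ A I M n) v = 0) : v = 0 := by
  induction v using LocalizedModule.induction_on with
  | _ m s =>
    let R := Localization.AtPrime z.asIdeal
    have hI : I.map (algebraMap A R) ≤ IsLocalRing.maximalIdeal R := by
      rw [← Localization.AtPrime.map_eq_maximalIdeal]; exact Ideal.map_mono hz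
    have hmem : (LocalizedModule.mk m s : Lp z M) ∈ (⊥ : Submodule R (Lp z M)) := by
      rw [← Ideal.iInf_pow_smul_eq_bot_of_isLocalRing (R := R) (M := Lp z M) (IsLocalRing.maximalIdeal R)
        (IsLocalRing.maximalIdeal.isMaximal R).ne_top, Submodule.mem_iInf]
      intro n
      rcases n with _ | n
      · simp
      obtain ⟨c, hc, e⟩ := mk_eq_zero.1 ((lm_mk _ _ _ _).symm.trans (h n))
      rw [← map_smul] at e
      have h1 : c • m ∈ I ^ (n + 1) • (⊤ : Submodule A M) := (Submodule.Quotient.mk_eq_zero _).1 e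
      have h2 : ∀ x ∈ I ^ (n + 1) • (⊤ : Submodule A M), ∀ s : z.asIdeal.primeCompl,
          (LocalizedModule.mk x s : Lp z M) ∈ IsLocalRing.maximalIdeal R ^ (n + 1) • (⊤ : Submodule R (Lp z M)) := by
        intro x hx
        refine Submodule.smul_induction_on hx (fun r hr y _ s => ?_) (fun x y hx hy s => ?_)
        · rw [← LocalizedModule.smul'_mk, ← algebraMap_smul R r]
          refine Submodule.smul_mem_smul ?_ Submodule.mem_top
          refine Ideal.pow_right_mono hI _ ?_
          rw [← Ideal.map_pow]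
          exact Ideal.mem_map_of_mem _ hr
        · have : (LocalizedModule.mk (x + y) s : Lp z M) = LocalizedModule.mk x s + LocalizedModule.mk y s := by
            rw [LocalizedModule.mk_add_mk, ← smul_add, LocalizedModule.mk_cancel_common_left]
          rw [this]
          exact Submodule.add_mem _ (hx s) (hy s)
      rw [← LocalizedModule.mk_cancel_common_left ⟨c, hc⟩ s m]
      exact h2 _ h1 _
    exact (Submodule.mem_bot R).1 hmem

omit [Module.Finite A M] in
/-- Nakayama at a prime for a finite module. -/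
theorem notMem_support_of_smul {C : Type u} [AddCommGroup C] [Module A C] [Module.Finite A C] {z : PrimeSpectrum A}
    (hf : f ∈ z.asIdeal) (h : ∀ q : C, ∃ c ∉ z.asIdeal, ∃ q', c • q = f • q') : z ∉ Module.support A C := by
  rw [Module.notMem_support_iff]
  let R := Localization.AtPrime z.asIdeal
  have key : (⊤ : Submodule R (LocalizedModule z.asIdeal.primeCompl C)) ≤
      IsLocalRing.maximalIdeal R • (⊤ : Submodule R (LocalizedModule z.asIdeal.primeCompl C)) := by
    rintro v -
    induction v using LocalizedModule.induction_on with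
    | _ q s =>
      obtain ⟨c, hc, q', e⟩ := h q
      rw [← LocalizedModule.mk_cancel_common_left ⟨c, hc⟩ s]
      show LocalizedModule.mk (c • q) _ ∈ _
      rw [e, ← LocalizedModule.smul'_mk, ← algebraMap_smul R f]
      refine Submodule.smul_mem_smul ?_ Submodule.mem_top
      rw [← Localization.AtPrime.map_eq_maximalIdeal]
      exact Ideal.mem_map_of_mem _ hf
  have h0 := Submodule.eq_bot_of_le_smul_of_le_jacobson_bot _ _ (Module.Finite.fg_top) key
    (IsLocalRing.maximalIdeal_le_jacobson ⊥)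
  have h1 : ∀ v : LocalizedModule z.asIdeal.primeCompl C, v = 0 := fun v =>
    (Submodule.mem_bot R).1 (h0 ▸ Submodule.mem_top)
  exact ⟨fun a b => (h1 a).trans (h1 b).symm⟩

/-- Isomorphism at a prime spreads out. -/
theorem exists_good_of {N : Type u} [AddCommGroup N] [Module A N] [Module.Finite A N] (ψ : M →ₗ[A] N)
    {z : PrimeSpectrum A} (hf : f ∈ z.asIdeal) (hK : ∀ m, ψ m = 0 → ∃ c ∉ z.asIdeal, c • m = 0)
    (hC : ∀ y, ∃ c ∉ z.asIdeal, ∃ m y', c • y = ψ m + f • y') :
    ∃ c, c ∉ z.asIdeal ∧ (∀ y, ∃ m, ψ m = c • y) ∧ ∀ m, ψ m = 0 → c • m = 0 := by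
  let K := LinearMap.ker ψ
  let C := N ⧸ LinearMap.range ψ
  have hK' : z ∉ Module.support A K := by
    rw [Module.notMem_support_iff']
    intro k
    obtain ⟨c, hc, e⟩ := hK k k.2
    exact ⟨c, hc, Subtype.ext e⟩
  have hC' : z ∉ Module.support A C := by
    refine notMem_support_of_smul f hf fun q => ?_
    induction q using Submodule.Quotient.induction_on with
    | _ y =>
      obtain ⟨c, hc, m, y', e⟩ := hC y
      refine ⟨c, hc, Submodule.Quotient.mk y', (Submodule.Quotient.eq _).2 ⟨m, ?_⟩⟩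
      show ψ m = c • y - f • y'
      rw [e, add_sub_cancel_right]
  rw [Module.support_eq_zeroLocus, PrimeSpectrum.mem_zeroLocus, Set.not_subset] at hK' hC'
  obtain ⟨c₁, hc₁, hn₁⟩ := hK'
  obtain ⟨c₂, hc₂, hn₂⟩ := hC'
  refine ⟨c₁ * c₂, fun h => (z.isPrime.mem_or_mem h).elim hn₁ hn₂, fun y => ?_, fun m hm => ?_⟩
  · have h := Module.mem_annihilator.1 hc₂ (Submodule.Quotient.mk y)
    rw [← Submodule.Quotient.mk_smul, Submodule.Quotient.mk_eq_zero] at h
    obtain ⟨m, hm⟩ := h
    exact ⟨c₁ • m, by rw [map_smul, hm, mul_smul]⟩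
  · have h := congrArg Subtype.val (Module.mem_annihilator.1 hc₁ (⟨m, hm⟩ : K))
    rw [mul_comm, mul_smul]
    exact (congrArg (c₂ • ·) h).trans (smul_zero _)

/-- Near a point of `V(f)` every formal section is algebraic modulo `f`. -/
theorem exists_step (hreg : IsSMulRegular M f) {z : U} (y : Y f M U) :
    ∃ c ∉ z.1.asIdeal, ∃ (m : M) (y' : Y f M U), c • y = φ f M U m + f • y' := by
  obtain ⟨a, m, ha⟩ : ∃ (a : z.1.asIdeal.primeCompl) (m : M),
      (LocalizedModule.mk (Formal2.quotPowπ A (Ideal.span ({f} : Set A)) M 0 m) a : Lp z.1 _) = y.1 0 z := by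
    generalize y.1 0 z = v
    induction v using LocalizedModule.induction_on with
    | _ q a =>
      obtain ⟨m, rfl⟩ := Submodule.mkQ_surjective _ q
      exact ⟨a, m, rfl⟩
  obtain ⟨j, m₁, hj, hjm⟩ := exists_numerator (((a : A) • y - φ f M U m).2.1 0) z
  have hd : ((a : A) • y - φ f M U m).1 0 z = 0 := by
    show (a : A) • y.1 0 z - (φ f M U m).1 0 z = 0
    rw [← ha, φ_apply, LocalizedModule.smul'_mk, sub_eq_zero]
    exact LocalizedModule.mk_cancel a _
  have hd' := hjm z
  rw [hd, smul_zero] at hd'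
  obtain ⟨h, hh, e⟩ := mk_eq_zero.1 hd'.symm
  obtain ⟨y', hy'⟩ := exists_smul_eq f M U hreg ((h * j) • ((a : A) • y - φ f M U m)) fun w => by
    show (h * j) • ((a : A) • y - φ f M U m).1 0 w = 0
    rw [mul_smul, hjm, LocalizedModule.smul'_mk, e, LocalizedModule.zero_mk]
  refine ⟨h * j * a, z.1.asIdeal.primeCompl.mul_mem (z.1.asIdeal.primeCompl.mul_mem hh hj) a.2, (h * j) • m, y', ?_⟩
  rw [hy', map_smul, mul_smul, smul_sub, add_sub_cancel]

/-- Where `φ` is an isomorphism. -/
theorem exists_good (hreg : IsSMulRegular M f) [Module.Finite A (Y f M U)] {z : U}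
    (hz : z.1 ∈ PrimeSpectrum.zeroLocus ((Ideal.span ({f} : Set A)) : Set A)) :
    ∃ c, c ∉ z.1.asIdeal ∧ (∀ y, ∃ m, φ f M U m = c • y) ∧ ∀ m, φ f M U m = 0 → c • m = 0 := by
  have hzI : (Ideal.span ({f} : Set A)) ≤ z.1.asIdeal := hz
  refine exists_good_of f M (φ f M U) (hzI (Ideal.mem_span_singleton_self f)) (fun m hm => ?_)
    fun y => exists_step f M U hreg y
  have h0 : (LocalizedModule.mk m 1 : Lp z.1 M) = 0 := eq_zero_of_formal M _ hzI fun n => by
    rw [lm_mk, ← φ_apply, hm]
    rfl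
  exact mk_eq_zero.1 h0

variable {f M} in
/-- Sections from fractions. -/
theorem exists_section {N : Type u} [AddCommGroup N] [Module A N] (ψ : M →ₗ[A] N) (y : N)
    (V₀ : (Spec (CommRingCat.of A)).Opens)
    (hV : ∀ z : V₀, ∃ c, c ∉ z.1.asIdeal ∧ (∀ y, ∃ m, ψ m = c • y) ∧ ∀ m, ψ m = 0 → c • m = 0) :
    ∃ X : Formal2.HV A M 0 V₀, ∀ z : V₀, ∃ (c : A) (hc : c ∉ z.1.asIdeal) (m : M),
      ψ m = c • y ∧ val X z = LocalizedModule.mk m ⟨c, hc⟩ := by
  choose c hcz hcC hcK using hV
  choose m hm using fun z => hcC z y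
  let x : ∀ z : V₀, Lp z.1 M := fun z => LocalizedModule.mk (m z) ⟨c z, hcz z⟩
  have huniq : ∀ (z : V₀) (c' : A) (m' : M) (hc' : c' ∉ z.1.asIdeal), ψ m' = c' • y →
      x z = LocalizedModule.mk m' ⟨c', hc'⟩ := fun z c' m' hc' e => by
    rw [LocalizedModule.mk_eq]
    refine ⟨⟨c z, hcz z⟩, ?_⟩
    simp only [Submonoid.smul_def]
    rw [← sub_eq_zero, ← smul_sub]
    refine hcK z _ ?_
    rw [map_sub, map_smul, map_smul, hm, e, smul_comm, sub_self]
  have hloc : Loc x := fun z => ⟨V₀ ⊓ PrimeSpectrum.basicOpen (c z), ⟨z.2, hcz z⟩, inf_le_left, m z, c z,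
    fun w => ⟨w.2.2, huniq ⟨w.1, w.2.1⟩ _ _ w.2.2 (hm z)⟩⟩
  obtain ⟨X, hX⟩ := exists_val_eq hloc
  exact ⟨X, fun z => ⟨c z, hcz z, m z, hm z, hX z⟩⟩

/-- The colimit comparison. -/
theorem colimBijective [IsAdicComplete (Ideal.span ({f} : Set A)) A] (hreg : IsSMulRegular M f)
    (hfin : Module.Finite A (SecFin.secSub (Formal2.quotPow A (Ideal.span ({f} : Set A)) M 0) U)) :
    Formal2.FormalCohColimBijective A (Ideal.span ({f} : Set A)) M 0 U := by
  refine ⟨fun V hV x hx => ?_, fun y hy => ?_⟩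
  · let V' : (Spec (CommRingCat.of A)).Opens :=
      ⟨{ p | ∃ h : p ∈ V, val x ⟨p, h⟩ = 0 }, isOpen_iff_forall_mem_open.2 fun p ⟨hp, h0⟩ => by
        obtain ⟨W, hW, hWV, m, a, hma⟩ := loc_val x ⟨p, hp⟩
        obtain ⟨ha, e⟩ := hma ⟨p, hW⟩
        obtain ⟨c, hc, ec⟩ := mk_eq_zero.1 (e.symm.trans h0)
        refine ⟨W.1 ∩ (PrimeSpectrum.basicOpen c).1, fun q hq => ⟨hWV hq.1, ?_⟩,
          W.2.inter (PrimeSpectrum.basicOpen c).2, hW, hc⟩
        exact (hma ⟨q, hq.1⟩).2.trans (mk_eq_zero.2 ⟨c, hq.2, ec⟩)⟩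
    refine ⟨V', ⟨⟨fun p hp => hV.1 hp.1, fun p hp hp' => ⟨hV.2 p hp hp', ?_⟩⟩, fun p hp => hp.1⟩, ?_⟩
    · exact eq_zero_of_formal M (Ideal.span ({f} : Set A)) hp' fun n =>
        val_formal (M := M) (Ideal.span ({f} : Set A)) hx n (⟨p, hV.2 p hp hp'⟩ : V)
    · exact val_ext fun z => (val_res _ x z).trans (z.2.2.trans (val_zero z).symm)
  · haveI := finite_Y f M U hreg hfin
    let yY : Y f M U := ⟨fun n z => val (y n) z, fun n => loc_val _, fun n z => by rw [← val_map, hy n]⟩
    let G : Set A := { c | (∀ y, ∃ m, φ f M U m = c • y) ∧ ∀ m, φ f M U m = 0 → c • m = 0 }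
    let V₀ : (Spec (CommRingCat.of A)).Opens := U ⊓ ⨆ c : G, PrimeSpectrum.basicOpen (c : A)
    have hV₀ : Formal2.Admissible A (Ideal.span ({f} : Set A)) U V₀ := by
      refine ⟨inf_le_left, fun p hp hp' => ⟨hp, ?_⟩⟩
      obtain ⟨c, hc, h1, h2⟩ := exists_good f M U hreg (z := ⟨p, hp⟩) hp'
      exact Opens.mem_iSup.2 ⟨⟨c, h1, h2⟩, hc⟩
    obtain ⟨X, hX⟩ := exists_section (φ f M U) yY V₀ fun z => by
      obtain ⟨c, hc⟩ := Opens.mem_iSup.1 z.2.2
      exact ⟨c.1, hc, c.2⟩
    refine ⟨V₀, hV₀, X, fun n => val_ext fun z => ?_⟩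
    obtain ⟨c, hcz, m, hm, hXz⟩ := hX z
    rw [val_res, val_map, hXz]
    refine (smul_bijective hcz).1 ?_
    show c • val (y n) _ = c • lm z.1 _ _
    rw [lm_mk, LocalizedModule.smul'_mk]
    refine Eq.trans ?_ (LocalizedModule.mk_cancel (⟨c, hcz⟩ : z.1.asIdeal.primeCompl) _).symm
    exact (congrFun (congrFun (congrArg Subtype.val hm) n) ⟨z.1, z.2.1⟩).symm.trans (φ_apply _ _ _ _ _ _)

end Groth.Agent.Formal61.ColimPrin
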