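import Groth.Agent.Formal61.ConnDual
import Groth.Agent.S0376
import Groth.Agent.S11680
import Groth.Agent.DualCx.Normalized
import Groth.Agent.RegLoc.CompleteTrans

/-!
# Connectedness of `V(I) ∖ Z` from cohomological dimension
-/

set_option autoImplicit false
universe u

open CategoryTheory AlgebraicGeometry TopologicalSpace Groth.Agent.DualCx

attribute [local instance] HasDerivedCategory.standard

namespace Groth.Agent.Formal61.ConnCd

variable {A : Type u} [CommRing A] [IsNoetherianRing A] [IsLocalRing A]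
  [IsAdicComplete (IsLocalRing.maximalIdeal A) A]

theorem isAdicComplete_of_ne_top {I : Ideal A} (hI : I ≠ ⊤) : IsAdicComplete I A :=
  Groth.Agent.RegLoc.CompleteTrans.isAdicComplete_of_le (IsLocalRing.le_maximalIdeal hI)

theorem main (I : Ideal A) (hI : I ≠ ⊤) (e : ℕ) (he : _root_.LocCoh.CdLE A I e)
    (Z : Set (PrimeSpectrum A)) (hZ : IsClosed Z) (hZI : Z ⊆ PrimeSpectrum.zeroLocus (I : Set A))
    (hdim : ∀ p ∈ minimalPrimes A, topologicalKrullDim Z + ((e + 1 : ℕ) : WithBot ℕ∞) < ringKrullDim (A ⧸ p))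
    (hc : ∀ Z' : Set (PrimeSpectrum A), IsClosed Z' → ¬ _root_.IsConnected Z'ᶜ →
      topologicalKrullDim Z + ((e : ℕ) : WithBot ℕ∞) < topologicalKrullDim Z') :
    _root_.IsConnected (PrimeSpectrum.zeroLocus (I : Set A) \ Z) := by
  obtain ⟨ω₀, hω₀⟩ := Groth.Agent.S0376.result A
  obtain ⟨sh, hn⟩ := Normalized.exists_isNormalized hω₀
  have hω := Normalized.isDualizing_shift hω₀ sh
  obtain ⟨δ, hδ⟩ : ∃ δ : PrimeSpectrum A → ℤ, δ = fun p => Dimfun.deg hω p := ⟨_, rfl⟩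
  have hdimA : ∀ p : PrimeSpectrum A, ringKrullDim (A ⧸ p.asIdeal) = (((-δ p).toNat : ℕ∞) : WithBot ℕ∞) := fun p => by
    rw [hδ]; exact Dimfun.ringKrullDim_quotient_eq hω hn p
  have hδ0 : ∀ p, δ p ≤ 0 := fun p => by rw [hδ]; exact Dimfun.deg_nonpos hω hn p
  let 𝔞 : Ideal A := PrimeSpectrum.vanishingIdeal Z
  have hZa : PrimeSpectrum.zeroLocus (𝔞 : Set A) = Z := by
    rw [PrimeSpectrum.zeroLocus_vanishingIdeal_eq_closure, hZ.closure_eq]
  have hIa : I ≤ 𝔞 := (PrimeSpectrum.subset_zeroLocus_iff_le_vanishingIdeal Z I).1 hZI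
  have hdimZ : ∀ q ∈ Z, (((-δ q).toNat : ℕ∞) : WithBot ℕ∞) ≤ topologicalKrullDim Z := fun q hq => by
    rw [← hZa] at hq ⊢
    rw [Groth.Agent.S11680.dim_zeroLocus 𝔞, ← hdimA q]
    exact ringKrullDim_le_of_surjective (Ideal.Quotient.factor (show 𝔞 ≤ q.asIdeal from hq))
      (Ideal.Quotient.factor_surjective _)
  -- every prime has dimension at most `e` plus that of its meeting with `V(I)`
  have hmeet : ∀ P : PrimeSpectrum A, ∃ q : PrimeSpectrum A, P ≤ q ∧ I ≤ q.asIdeal ∧ δ q - δ P ≤ (e : ℤ) := by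
    intro P
    obtain ⟨Q, hQ, -⟩ := Ideal.exists_minimalPrimes_le (sup_le (IsLocalRing.le_maximalIdeal P.2.ne_top)
      (IsLocalRing.le_maximalIdeal hI) : P.asIdeal ⊔ I ≤ IsLocalRing.maximalIdeal A)
    let q : PrimeSpectrum A := ⟨Q, hQ.1.1⟩
    have hPq : P ≤ q := le_sup_left.trans hQ.1.2
    have h := Groth.Agent.LocCoh.CompIdeal.dimBetween_le_cd hω he (p := P) (q := q) hQ
    rw [Groth.Agent.LocCoh.SuppHm.dimBetween_eq_deg hω hPq, WithBot.coe_le_coe, Nat.cast_le] at h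
    refine ⟨q, hPq, le_sup_right.trans hQ.1.2, ?_⟩
    rw [hδ]
    simp only [Int.toNat_le] at h
    exact h
  have hbound : ∀ P : PrimeSpectrum A, (∀ q, P ≤ q → I ≤ q.asIdeal → q ∈ Z) →
      ∀ b : ℕ, b ≤ (-δ P).toNat → ((b : ℕ∞) : WithBot ℕ∞) ≤ topologicalKrullDim Z + ((e : ℕ) : WithBot ℕ∞) := by
    intro P hP b hb
    obtain ⟨q, hPq, hqI, hle⟩ := hmeet P
    refine le_trans ?_ (add_le_add_left (hdimZ q (hP q hPq hqI)) _)
    have : b ≤ (-δ q).toNat + e := by have := hδ0 q; omega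
    exact_mod_cast this
  have hS : (PrimeSpectrum.zeroLocus (I : Set A) \ Z).Nonempty := by
    by_contra h
    rw [Set.not_nonempty_iff_eq_empty, Set.diff_eq_empty] at h
    obtain ⟨p, hp⟩ := Ideal.nonempty_minimalPrimes (I := (⊥ : Ideal A)) bot_ne_top
    let P : PrimeSpectrum A := ⟨p, hp.1.1⟩
    have h1 := hdim p hp
    rw [hdimA P] at h1
    refine (not_le.2 (lt_of_lt_of_le h1 (hbound P (fun q _ hq => h hq) _ le_rfl))) ?_
    exact add_le_add le_rfl (by exact_mod_cast Nat.le_succ e)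
  refine ⟨hS, ?_⟩
  have := isAdicComplete_of_ne_top hI
  rw [← hZa]
  refine Groth.Agent.Formal61.ConnDual.isPreconnected_of_colim I 𝔞 (nilradical A) le_rfl
    (Groth.Agent.Formal61.ColimDual.colimBijective I ⟨_, hω⟩ 𝔞 he fun p hp _ hpI _ q hq hpq haq => ?_) ?_
  · haveI := hp.1
    let P : PrimeSpectrum A := ⟨p, hp.1⟩
    let Q : PrimeSpectrum A := ⟨q, hq⟩
    have h1 := hdim p (ConnDual.mem_minimalPrimes_of_mem_associatedPrimes hp)
    rw [hdimA P] at h1
    have h2 := lt_of_le_of_lt (add_le_add_left (hdimZ Q (hZa.subset haq)) _) h1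
    rw [Groth.Agent.LocCoh.SuppHm.dimBetween_eq_deg hω (show P ≤ Q from hpq)]
    have h3 : (-δ Q).toNat + (e + 1) < (-δ P).toNat := by exact_mod_cast h2
    have h4 : e + 1 < (δ Q - δ P).toNat := by have := hδ0 Q; omega
    rw [hδ] at h4
    exact_mod_cast h4
  · intro V hV hne hsub
    by_contra hcon
    have hlt := hc Vᶜ hV.isClosed_compl (by rwa [compl_compl])
    refine absurd hlt (not_lt.2 ?_)
    obtain ⟨J, hJ⟩ := (PrimeSpectrum.isClosed_iff_zeroLocus_ideal _).1 hV.isClosed_compl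
    rw [hJ, Groth.Agent.S11680.dim_zeroLocus J, ringKrullDim_quotient, Order.krullDim]
    refine iSup_le fun l => ?_
    refine hbound l.head.1 (fun q hq hqI => ?_) _ ?_
    · by_contra hqZ
      have hqV : q ∈ V := hsub ⟨hqI, hZa ▸ hqZ⟩
      have : q ∈ (Vᶜ : Set (PrimeSpectrum A)) := hJ ▸ (l.head.2.trans hq : J ≤ q.asIdeal)
      exact this hqV
    · have h1 := Order.length_le_coheight_head (p := l.map Subtype.val (Subtype.strictMono_coe _))
      have hcoh : Order.coheight l.head.1 = (((-δ l.head.1).toNat : ℕ) : ℕ∞) := by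
        rw [hδ]; exact Dimfun.coheight_eq hω hn _
      rw [LTSeries.head_map, hcoh] at h1
      exact_mod_cast h1

end Groth.Agent.Formal61.ConnCd
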