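import Groth.Agent.Formal61.ColimDual

/-!
# Connectedness of `V(I) ∖ V(𝔞)`
-/

set_option autoImplicit false
set_option backward.isDefEq.respectTransparency false
universe u

open CategoryTheory AlgebraicGeometry TopologicalSpace
open Groth.Agent.Formal61.Sec0 Groth.Agent.Formal61.SeqColim

noncomputable section

namespace Groth.Agent.Formal61.ConnDual

variable {A : Type u} [CommRing A] [IsNoetherianRing A]

omit [IsNoetherianRing A] in
theorem mk_one_ne_zero {N : Ideal A} {z : PrimeSpectrum A} (hz : N ≤ z.asIdeal) :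
    (LocalizedModule.mk (Submodule.Quotient.mk (1 : A)) 1 : Lp z (A ⧸ N)) ≠ 0 := fun h => by
  obtain ⟨c, hc, e⟩ := mk_eq_zero.1 h
  rw [← Submodule.Quotient.mk_smul, Submodule.Quotient.mk_eq_zero, smul_eq_mul, mul_one] at e
  exact hc (hz e)

/-- Formal sections of `A/N` algebraize, so `V(I) ∖ V(𝔞)` cannot be split. -/
theorem isPreconnected_of_colim (I 𝔞 N : Ideal A) (hN : N ≤ nilradical A)
    (hb : Formal2.FormalCohColimBijective A I (A ⧸ N) 0 (LocCoh.puncturedOpen A 𝔞))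
    (h₃ : ∀ V : Set (PrimeSpectrum A), IsOpen V → V.Nonempty →
      PrimeSpectrum.zeroLocus (I : Set A) \ PrimeSpectrum.zeroLocus (𝔞 : Set A) ⊆ V → _root_.IsConnected V) :
    _root_.IsPreconnected (PrimeSpectrum.zeroLocus (I : Set A) \ PrimeSpectrum.zeroLocus (𝔞 : Set A)) := by
  classical
  intro u v hu hv hS hSu hSv
  by_contra hne
  let U := LocCoh.puncturedOpen A 𝔞
  let one : ∀ (n : ℕ), Formal2.quotPow A I (A ⧸ N) n := fun n =>
    Formal2.quotPowπ A I (A ⧸ N) n (Submodule.Quotient.mk 1)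
  let w : ∀ (n : ℕ) (z : U), Lp z.1 (Formal2.quotPow A I (A ⧸ N) n) := fun n z =>
    if z.1 ∈ u then LocalizedModule.mk (one n) 1 else 0
  have h0 : ∀ n (z : U), z.1 ∉ PrimeSpectrum.zeroLocus (I : Set A) → ∀ q : Lp z.1 (Formal2.quotPow A I (A ⧸ N) n), q = 0 :=
    fun n z hz q => eq_zero_of_not_mem hz (quotPow_killed I n) q
  have hcases : ∀ z : U, z.1 ∈ PrimeSpectrum.zeroLocus (I : Set A) → z.1 ∈ u ∨ z.1 ∈ v :=
    fun z hz => hS ⟨hz, z.2⟩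
  have hdisj : ∀ z : U, z.1 ∈ PrimeSpectrum.zeroLocus (I : Set A) → z.1 ∈ u → z.1 ∈ v → False :=
    fun z hz hzu hzv => hne ⟨z.1, ⟨hz, z.2⟩, hzu, hzv⟩
  have h1 : ∀ z : U, (1 : A) ∉ z.1.asIdeal := fun z h => z.1.isPrime.ne_top ((Ideal.eq_top_iff_one _).2 h)
  have hw : ∀ n, Loc (w n) := fun n z => by
    by_cases hzI : z.1 ∈ PrimeSpectrum.zeroLocus (I : Set A)
    · rcases hcases z hzI with hzu | hzv
      · refine ⟨U ⊓ ⟨u, hu⟩, ⟨z.2, hzu⟩, inf_le_left, one n, 1, fun q => ⟨h1 ⟨q.1, q.2.1⟩, ?_⟩⟩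
        simp only [w, if_pos (show q.1 ∈ u from q.2.2)]
        rfl
      · refine ⟨U ⊓ ⟨v, hv⟩, ⟨z.2, hzv⟩, inf_le_left, 0, 1, fun q => ⟨h1 ⟨q.1, q.2.1⟩, ?_⟩⟩
        rw [LocalizedModule.zero_mk]
        by_cases hqI : q.1 ∈ PrimeSpectrum.zeroLocus (I : Set A)
        · simp only [w, if_neg (fun hqu => hdisj ⟨q.1, q.2.1⟩ hqI hqu q.2.2)]
        · exact h0 n ⟨q.1, q.2.1⟩ hqI _
    · refine ⟨U ⊓ ⟨(PrimeSpectrum.zeroLocus (I : Set A))ᶜ, (PrimeSpectrum.isClosed_zeroLocus _).isOpen_compl⟩,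
        ⟨z.2, hzI⟩, inf_le_left, 0, 1, fun q => ⟨h1 ⟨q.1, q.2.1⟩, ?_⟩⟩
      rw [LocalizedModule.zero_mk]
      exact h0 n ⟨q.1, q.2.1⟩ q.2.2 _
  choose y hy using fun n => exists_val_eq (hw n)
  obtain ⟨V, hV, x, hx⟩ := hb.2 y fun n => val_ext fun z => by
    rw [val_map, hy, hy]
    simp only [w]
    split_ifs
    · rw [lm_mk]; rfl
    · exact map_zero _
  have hxy : ∀ n (z : V), lm z.1 (Formal2.quotPowπ A I (A ⧸ N) n) (val x z) = w n ⟨z.1, hV.1 z.2⟩ := fun n z =>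
    (((val_res hV.1 _ z).symm.trans (congrArg (fun q => val q z) (hx n))).trans (val_map _ _ z)).symm.trans (hy n _)
  let P : Set (PrimeSpectrum A) := { p | ∃ h : p ∈ V, val x ⟨p, h⟩ = 0 }
  let Q : Set (PrimeSpectrum A) := { p | ∃ h : p ∈ V, val x ⟨p, h⟩ = LocalizedModule.mk (Submodule.Quotient.mk 1) 1 }
  have hopen : ∀ (c : A ⧸ N), IsOpen { p | ∃ h : p ∈ V, val x ⟨p, h⟩ = LocalizedModule.mk c 1 } := fun c =>
    isOpen_iff_forall_mem_open.2 fun p ⟨hp, h0⟩ => by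
      obtain ⟨W, hW, hWV, m, a, hma⟩ := loc_val x ⟨p, hp⟩
      obtain ⟨ha, e⟩ := hma ⟨p, hW⟩
      obtain ⟨⟨c', hc'⟩, ec⟩ := LocalizedModule.mk_eq.1 (e.symm.trans h0)
      refine ⟨W.1 ∩ (PrimeSpectrum.basicOpen c').1, fun q hq => ⟨hWV hq.1, ?_⟩,
        W.2.inter (PrimeSpectrum.basicOpen c').2, hW, hc'⟩
      refine (hma ⟨q, hq.1⟩).2.trans (LocalizedModule.mk_eq.2 ⟨⟨c', hq.2⟩, ?_⟩)
      exact ec
  have hP : IsOpen P := by
    have hPeq : P = { p | ∃ h : p ∈ V, val x ⟨p, h⟩ = LocalizedModule.mk (0 : A ⧸ N) 1 } := by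
      ext p
      exact exists_congr fun h => by rw [LocalizedModule.zero_mk]
    rw [hPeq]
    exact hopen 0
  have hQ : IsOpen Q := hopen _
  have hPQ : ∀ p ∈ PrimeSpectrum.zeroLocus (I : Set A) \ PrimeSpectrum.zeroLocus (𝔞 : Set A),
      (p ∈ u → p ∈ Q) ∧ (p ∈ v → p ∈ P) := by
    intro p hp
    have hpV : p ∈ V := hV.2 p hp.2 hp.1
    constructor
    · intro hpu
      refine ⟨hpV, sub_eq_zero.1 (ColimPrin.eq_zero_of_formal (A ⧸ N) I hp.1 fun n => ?_)⟩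
      rw [map_sub, hxy n ⟨p, hpV⟩, lm_mk]
      simp only [w, if_pos hpu]
      exact sub_self _
    · intro hpv
      refine ⟨hpV, ColimPrin.eq_zero_of_formal (A ⧸ N) I hp.1 fun n => (hxy n ⟨p, hpV⟩).trans ?_⟩
      simp only [w, if_neg (fun hpu => hdisj ⟨p, hp.2⟩ hp.1 hpu hpv)]
  obtain ⟨p₁, hp₁⟩ := hSu
  obtain ⟨p₂, hp₂⟩ := hSv
  have hconn := h₃ (P ∪ Q) (hP.union hQ) ⟨p₁, Or.inr ((hPQ p₁ hp₁.1).1 hp₁.2)⟩ fun p hp =>
    (hS hp).elim (fun h => Or.inr ((hPQ p hp).1 h)) (fun h => Or.inl ((hPQ p hp).2 h))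
  obtain ⟨p, -, ⟨hp, h1'⟩, ⟨_, h2'⟩⟩ := hconn.isPreconnected P Q hP hQ subset_rfl
    ⟨p₂, Or.inl ((hPQ p₂ hp₂.1).2 hp₂.2), (hPQ p₂ hp₂.1).2 hp₂.2⟩
    ⟨p₁, Or.inr ((hPQ p₁ hp₁.1).1 hp₁.2), (hPQ p₁ hp₁.1).1 hp₁.2⟩
  exact mk_one_ne_zero (hN.trans (nilradical_le_prime p.asIdeal)) (h2'.symm.trans h1')

/-- Associated primes of the reduced ring are minimal. -/
theorem mem_minimalPrimes_of_mem_associatedPrimes {p : Ideal A} (hp : p ∈ associatedPrimes A (A ⧸ nilradical A)) :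
    p ∈ minimalPrimes A := by
  haveI := hp.1
  obtain ⟨-, x, hx⟩ := (isAssociatedPrime_iff).1 hp
  induction x using Submodule.Quotient.induction_on with
  | _ r =>
    have hmem : ∀ c, c ∈ p ↔ c * r ∈ nilradical A := fun c => by
      rw [hx, Submodule.mem_colon_singleton, Submodule.mem_bot, ← Submodule.Quotient.mk_smul,
        Submodule.Quotient.mk_eq_zero, smul_eq_mul]
    have hr : r ∉ nilradical A := fun h => hp.1.ne_top ((Ideal.eq_top_iff_one _).2 ((hmem 1).2 (by rwa [one_mul])))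
    obtain ⟨P, hP, hrP⟩ : ∃ P ∈ minimalPrimes A, r ∉ P := by
      by_contra h
      push Not at h
      refine hr ?_
      rw [nilradical, Ideal.zero_eq_bot, ← Ideal.sInf_minimalPrimes]
      exact Ideal.mem_sInf.2 fun {q} hq => h q hq
    have hle : p ≤ P := fun c hc => (hP.1.1.mem_or_mem ((haveI := hP.1.1; nilradical_le_prime P) ((hmem c).1 hc))).resolve_right hrP
    exact le_antisymm hle (hP.2 ⟨hp.1, bot_le⟩ hle) ▸ hP

end Groth.Agent.Formal61.ConnDual
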