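import Groth.Agent.Formal61.RestrNat
import Groth.Agent.CohLin.Basic

/-!
# `H^n(U, M) = H^n(U, M|_U)` for modules, naturally
-/

set_option autoImplicit false
universe u

open CategoryTheory AlgebraicGeometry

noncomputable section

namespace Groth.Agent.Formal61.RestrMod

variable {X : Scheme.{u}} (U : X.Opens)

/-- `H^n(U, M) = H^n(U, M|_U)`. -/
def equiv (M : X.Modules) (n : ℕ) :
    CohTop.HU (X := X.toTopCat) (Coh.toAb M) n U ≃+ Coh.HH (U : Scheme.{u}) (M.restrict U.ι) n :=
  RestrNat.equiv (X := X.toTopCat) U (Coh.toAb M) n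

theorem restr_map {M N : X.Modules} (φ : M ⟶ N) :
    (CohTop.restrFunctor (X := X.toTopCat) U).map ((SheafOfModules.toSheaf X.ringCatSheaf).map φ) =
      CohLin.abMap ((Scheme.Modules.restrictFunctor U.ι).map φ) := rfl

theorem equiv_map {M N : X.Modules} (φ : M ⟶ N) (n : ℕ) (x : CohTop.HU (X := X.toTopCat) (Coh.toAb M) n U) :
    equiv U N n (CohTop.HUmap ((SheafOfModules.toSheaf X.ringCatSheaf).map φ) n U x) =
      CohLin.hMap ((Scheme.Modules.restrictFunctor U.ι).map φ) n (equiv U M n x) :=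
  (RestrNat.equiv_map (X := X.toTopCat) U _ n x).trans
    (congrArg (fun ψ => Sheaf.H.map ψ n (equiv U M n x)) (restr_map U φ))

end Groth.Agent.Formal61.RestrMod
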