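import Groth.Agent.Formal61.Affine
import Groth.Agent.Formal61.BddTors
import Groth.Agent.Formal61.RestrMod
import Groth.Prelude.Def_Wider

/-!
# Formal cohomology on a punctured spectrum for a principal ideal
-/

set_option autoImplicit false
universe u

open CategoryTheory CategoryTheory.Limits AlgebraicGeometry Opposite
open Groth.Agent.FormalSupp
open Groth.Agent.KoszulCech (C cdM HomAt tp)

noncomputable section

namespace Groth.Agent.Formal61.Punct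

variable {A : Type u} [CommRing A] [IsNoetherianRing A] (𝔞 : Ideal A) (t : A)
  (M : Type u) [AddCommGroup M] [Module A M]

/-- the punctured open -/
abbrev U : (Spec (CommRingCat.of A)).Opens := LocCoh.puncturedOpen A 𝔞

/-- `M~` on the punctured spectrum -/
abbrev G : (U 𝔞 : Scheme.{u}).Modules := (Formal2.tmod A M).restrict (U 𝔞).ι

/-- a linear map on the punctured spectrum -/
abbrev gMap {V W : Type u} [AddCommGroup V] [Module A V] [AddCommGroup W] [Module A W] (φ : V →ₗ[A] W) :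
    G 𝔞 V ⟶ G 𝔞 W := (Scheme.Modules.restrictFunctor (U 𝔞).ι).map (Formal2.tmodMap A φ)

omit [IsNoetherianRing A] in
theorem gMap_comp {V W Z : Type u} [AddCommGroup V] [Module A V] [AddCommGroup W] [Module A W] [AddCommGroup Z]
    [Module A Z] (φ : V →ₗ[A] W) (ψ : W →ₗ[A] Z) : gMap 𝔞 φ ≫ gMap 𝔞 ψ = gMap 𝔞 (ψ.comp φ) :=
  ((Affine.Φ (U 𝔞)).map_comp (ModuleCat.ofHom φ) (ModuleCat.ofHom ψ)).symm

theorem exists_torsion_bound [Module.Finite A M] :
    ∃ c : ℕ, kernel.ι (Formal.smulMod A (G 𝔞 M) (t ^ (c + 1))) ≫ Formal.smulMod A (G 𝔞 M) (t ^ c) = 0 :=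
  Affine.exists_torsion_bound (U 𝔞) M t

omit [IsNoetherianRing A] in
theorem isModQuot_gMap (n : ℕ) :
    Sys.IsModQuot ((Ideal.span ({t} : Set A)) ^ (n + 1))
      (gMap 𝔞 (Formal2.quotPowπ A (Ideal.span ({t} : Set A)) M n)) :=
  Affine.isModQuot (U 𝔞) M t (n + 1)

theorem exists_cover : ∃ (ι : Type u) (_ : Fintype ι) (f : ι → A), 𝔞 = Ideal.span (Set.range f) := by
  obtain ⟨s, hs⟩ := IsNoetherian.noetherian 𝔞
  exact ⟨(↥s : Type u), inferInstance, fun k => k.1, by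
    rw [show Set.range (fun k : (↥s : Type u) => (k : A)) = ↑s from Subtype.range_coe]; exact hs.symm⟩

theorem hle {ι : Type u} {f : ι → A} (hf : 𝔞 = Ideal.span (Set.range f)) (i : ι) :
    (PrimeSpectrum.basicOpen (f i) : (Spec (CommRingCat.of A)).Opens) ≤ U 𝔞 :=
  (le_iSup (fun j => (PrimeSpectrum.basicOpen (f j) : (Spec (CommRingCat.of A)).Opens)) i).trans
    (Groth.Agent.LocCoh.Punctured.puncturedOpen_eq_iSup f 𝔞 hf).ge

theorem hcov {ι : Type u} {f : ι → A} (hf : 𝔞 = Ideal.span (Set.range f)) :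
    U 𝔞 ≤ ⨆ i, (PrimeSpectrum.basicOpen (f i) : (Spec (CommRingCat.of A)).Opens) :=
  (Groth.Agent.LocCoh.Punctured.puncturedOpen_eq_iSup f 𝔞 hf).le

section

variable {ι : Type u} (f : ι → A) (hf : 𝔞 = Ideal.span (Set.range f))

/-- Čech cocycles map linearly to cohomology. -/
def L (q : ℕ) : LinearMap.ker (cdM f M q) →ₗ[A] Coh.HH (U 𝔞 : Scheme.{u}) (G 𝔞 M) q :=
  OpenFin.toHLin (R := CommRingCat.of A) (U 𝔞) (ModuleCat.of A M) f (hle 𝔞 hf) (hcov 𝔞 hf) q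

theorem L_surjective (q : ℕ) : Function.Surjective (L 𝔞 M f hf q) :=
  OpenFin.toHLin_surjective (R := CommRingCat.of A) (U 𝔞) (ModuleCat.of A M) f (hle 𝔞 hf) (hcov 𝔞 hf) q

theorem L_eq_zero (q : ℕ) (s : LinearMap.ker (cdM f M (q + 1))) (h : (s : C f (q + 1) M) ∈ LinearMap.range (cdM f M q)) :
    L 𝔞 M f hf (q + 1) s = 0 :=
  LinearMap.mem_ker.mp (OpenFin.le_ker_toHLin (R := CommRingCat.of A) (U 𝔞) (ModuleCat.of A M) f (hle 𝔞 hf) (hcov 𝔞 hf) q h)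

end

theorem smul_eq_zero_aux {ι : Type u} [Finite ι] (f : ι → A) (hf : 𝔞 = Ideal.span (Set.range f)) {q N : ℕ}
    {H : Type u} [AddCommGroup H] [Module A H] (e : KoszulCech.H1 f M q ≃ₗ[A] H) (h : ∀ x : H, t ^ N • x = 0)
    (x : Coh.HH (U 𝔞 : Scheme.{u}) (G 𝔞 M) (q + 1)) : t ^ N • x = 0 := by
  obtain ⟨s, rfl⟩ := L_surjective 𝔞 M f hf (q + 1) x
  have h0 : t ^ N • (Submodule.Quotient.mk s : KoszulCech.H1 f M q) = 0 :=
    e.injective (by rw [map_smul, map_zero]; exact h _)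
  rw [← Submodule.Quotient.mk_smul, Submodule.Quotient.mk_eq_zero] at h0
  exact (map_smul (L 𝔞 M f hf (q + 1)) (t ^ N) s).symm.trans (L_eq_zero 𝔞 M f hf q _ h0)

theorem exists_finite_submodule_aux [Module.Finite A M] {ι : Type u} [Finite ι] (f : ι → A)
    (hf : 𝔞 = Ideal.span (Set.range f)) {N : ℕ}
    {H : Type u} [AddCommGroup H] [Module A H] (e : KoszulCech.Caug f M ≃ₗ[A] H) (h : ∀ x : H, t ^ N • x = 0) :
    ∃ P : Submodule A (Coh.HH (U 𝔞 : Scheme.{u}) (G 𝔞 M) 0), Module.Finite A P ∧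
      ∀ x, t ^ N • x ∈ P := by
  let g : M →ₗ[A] LinearMap.ker (cdM f M 0) :=
    LinearMap.codRestrict _ (KoszulCech.aug f M) fun m => LinearMap.mem_ker.mpr (KoszulCech.cdM_aug f _ m)
  refine ⟨LinearMap.range ((L 𝔞 M f hf 0).comp g), inferInstance, fun x => ?_⟩
  obtain ⟨s, rfl⟩ := L_surjective 𝔞 M f hf 0 x
  have h0 : t ^ N • (Submodule.Quotient.mk s : KoszulCech.Caug f M) = 0 :=
    e.injective (by rw [map_smul, map_zero]; exact h _)
  rw [← Submodule.Quotient.mk_smul, Submodule.Quotient.mk_eq_zero] at h0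
  obtain ⟨m, hm⟩ := h0
  exact ⟨m, (congrArg (L 𝔞 M f hf 0) (Subtype.ext hm)).trans (map_smul (L 𝔞 M f hf 0) (t ^ N) s)⟩

theorem exists_equiv_H1 (q : ℕ) : ∃ (ι : Type u) (_ : Finite ι) (f : ι → A) (_ : 𝔞 = Ideal.span (Set.range f)),
    Nonempty (KoszulCech.H1 f M q ≃ₗ[A] _root_.LocCoh.H 𝔞 (q + 2) M) := by
  classical
  obtain ⟨ι, _, f, hf⟩ := exists_cover 𝔞
  let fs : List A := (Finset.univ : Finset ι).toList.map f
  have hfs : ∀ a, a ∈ fs ↔ ∃ k, f k = a := fun a => by simp [fs]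
  have hspan : Ideal.span {a : A | a ∈ fs} = 𝔞 := by
    rw [hf]; congr 1; ext a; exact hfs a
  obtain ⟨eL⟩ := Groth.Agent.LocCoh.nonempty_H_equiv_limH fs (q + 2) M
  rw [hspan] at eL
  rw [show ((q + 2 : ℕ) : ℤ) - fs.length = (q : ℤ) + 2 - fs.length by push_cast; ring] at eL
  obtain ⟨e'⟩ := KoszulCech.nonempty_H1_equiv f fs hfs q M
  exact ⟨ι, inferInstance, f, hf, ⟨e'.trans eL.symm⟩⟩

theorem exists_equiv_Caug : ∃ (ι : Type u) (_ : Finite ι) (f : ι → A) (_ : 𝔞 = Ideal.span (Set.range f)),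
    Nonempty (KoszulCech.Caug f M ≃ₗ[A] _root_.LocCoh.H 𝔞 1 M) := by
  classical
  obtain ⟨ι, _, f, hf⟩ := exists_cover 𝔞
  let fs : List A := (Finset.univ : Finset ι).toList.map f
  have hfs : ∀ a, a ∈ fs ↔ ∃ k, f k = a := fun a => by simp [fs]
  have hspan : Ideal.span {a : A | a ∈ fs} = 𝔞 := by
    rw [hf]; congr 1; ext a; exact hfs a
  obtain ⟨eL⟩ := Groth.Agent.LocCoh.nonempty_H_equiv_limH fs 1 M
  rw [hspan] at eL
  rw [show ((1 : ℕ) : ℤ) - fs.length = 1 - fs.length by push_cast; ring] at eL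
  obtain ⟨e'⟩ := KoszulCech.nonempty_Caug_equiv f fs M hfs
  exact ⟨ι, inferInstance, f, hf, ⟨e'.trans eL.symm⟩⟩

/-- Torsion of local cohomology bounds the cohomology in positive degree. -/
theorem smul_eq_zero {q N : ℕ} (h : ∀ x : _root_.LocCoh.H 𝔞 (q + 2) M, t ^ N • x = 0)
    (x : Coh.HH (U 𝔞 : Scheme.{u}) (G 𝔞 M) (q + 1)) : t ^ N • x = 0 := by
  obtain ⟨ι, _, f, hf, ⟨e⟩⟩ := exists_equiv_H1 𝔞 M q
  exact smul_eq_zero_aux 𝔞 t M f hf e h x

/-- In degree zero the multiples by `t^N` lie in a finite submodule. -/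
theorem exists_finite_submodule [Module.Finite A M] {N : ℕ} (h : ∀ x : _root_.LocCoh.H 𝔞 1 M, t ^ N • x = 0) :
    ∃ P : Submodule A (Coh.HH (U 𝔞 : Scheme.{u}) (G 𝔞 M) 0), Module.Finite A P ∧
      ∀ x, t ^ N • x ∈ P := by
  obtain ⟨ι, _, f, hf, ⟨e⟩⟩ := exists_equiv_Caug 𝔞 M
  exact exists_finite_submodule_aux 𝔞 t M f hf e h

variable [IsAdicComplete (Ideal.span ({t} : Set A)) A] [Module.Finite A M]

/-- The bijectivity on the scheme `U`. -/
theorem bijective_toHHlim (i : ℕ)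
    (h : ∀ j : ℕ, j = i + 1 ∨ j = i + 2 → ∃ n : ℕ, ∀ x : _root_.LocCoh.H 𝔞 j M, t ^ n • x = 0) :
    Function.Bijective (Formal.toHHlim (Ideal.span ({t} : Set A)) (G 𝔞 M) i) := by
  obtain ⟨n₁, h₁⟩ := h (i + 1) (Or.inl rfl)
  obtain ⟨n₂, h₂⟩ := h (i + 2) (Or.inr rfl)
  obtain ⟨c, hc⟩ := exists_torsion_bound 𝔞 t M
  have hN : ∀ (a b : ℕ) {V : Type u} [AddCommGroup V] [Module A V] (x : V), t ^ a • x = 0 → t ^ (a + b) • x = 0 :=
    fun a b _ _ _ x hx => by rw [pow_add, mul_comm, mul_smul, hx, smul_zero]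
  have h₂' : ∀ x : Coh.HH (U 𝔞 : Scheme.{u}) (G 𝔞 M) (i + 1), t ^ (n₁ + n₂) • x = 0 := fun x => by
    rw [add_comm n₁ n₂]
    exact hN _ _ x (smul_eq_zero 𝔞 t M h₂ x)
  obtain ⟨P, hPfin, hP⟩ : ∃ P : Submodule A (Coh.HH (U 𝔞 : Scheme.{u}) (G 𝔞 M) i), Module.Finite A P ∧
      ∀ x, t ^ (n₁ + n₂) • x ∈ P := by
    rcases i with _ | q
    · obtain ⟨P, hPfin, hP⟩ := exists_finite_submodule 𝔞 t M h₁
      exact ⟨P, hPfin, fun x => by rw [pow_add, mul_comm, mul_smul]; exact P.smul_mem _ (hP x)⟩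
    · exact ⟨⊥, inferInstance, fun x => (Submodule.mem_bot A).2 (hN _ _ x (smul_eq_zero 𝔞 t M h₁ x))⟩
  exact BddTors.bijective_toHHlim (i := i) hc P hP h₂'

/-- Cohomology over `U` as cohomology of the scheme `U`. -/
def Θ (V : Type u) [AddCommGroup V] [Module A V] (i : ℕ) :
    Formal2.HV A V i (U 𝔞) ≃+ Coh.HH (U 𝔞 : Scheme.{u}) (G 𝔞 V) i :=
  RestrMod.equiv (U 𝔞) (Formal2.tmod A V) i

omit [IsNoetherianRing A] [IsAdicComplete (Ideal.span ({t} : Set A)) A] [Module.Finite A M] in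
theorem Θ_map {V W : Type u} [AddCommGroup V] [Module A V] [AddCommGroup W] [Module A W] (φ : V →ₗ[A] W) (i : ℕ)
    (x : Formal2.HV A V i (U 𝔞)) :
    Θ 𝔞 W i (Formal2.HVmap A φ i (U 𝔞) x) = CohLin.hMap (gMap 𝔞 φ) i (Θ 𝔞 V i x) :=
  RestrMod.equiv_map (U 𝔞) (Formal2.tmodMap A φ) i x

omit [IsAdicComplete (Ideal.span ({t} : Set A)) A] [Module.Finite A M] in
theorem formalCohBijective_of_bijective (i : ℕ)
    (hb : Function.Bijective (Formal.toHHlim (Ideal.span ({t} : Set A)) (G 𝔞 M) i)) :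
    Formal2.FormalCohBijective A (Ideal.span ({t} : Set A)) M i (LocCoh.puncturedOpen A 𝔞) := by
  let I := Ideal.span ({t} : Set A)
  let π : ∀ n, G 𝔞 M ⟶ G 𝔞 (Formal2.quotPow A I M n) := fun n =>
    gMap 𝔞 (Formal2.quotPowπ A I M n)
  choose e he using fun n => (Sys.isModQuot_modPowπ I (n + 1) (G 𝔞 M)).existsUnique_iso
    (isModQuot_gMap 𝔞 t M n)
  have hπ : ∀ n (z : Coh.HH (U 𝔞 : Scheme.{u}) (G 𝔞 M) i),
      CohLin.hMap (π n) i z = CohLin.hMap (e n).hom i (Formal.toHHmodPow I (G 𝔞 M) i n z) := fun n z => by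
    show CohLin.hMap (gMap 𝔞 _) i z = _
    exact (congrArg (fun ψ => CohLin.hMap ψ i z) (he n).symm).trans (CohLin.hMap_comp _ _ i z)
  have he' : ∀ n, (e (n + 1)).hom ≫ gMap 𝔞 (Formal2.quotPowTrans A I M n) =
      Formal.modPowTrans I (n + 1) (G 𝔞 M) ≫ (e n).hom := fun n => by
    rw [← cancel_epi (Formal.modPowπ I (n + 1 + 1) (G 𝔞 M)), ← Category.assoc, he, ← Category.assoc,
      Formal.modPowπ_trans, he, gMap_comp]
    rfl
  have hinj : ∀ n, Function.Injective (CohLin.hMap (e n).hom i) := fun n a b hab => by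
    have h' := congrArg (CohLin.hMap (e n).inv i) hab
    rwa [← CohLin.hMap_comp, ← CohLin.hMap_comp, Iso.hom_inv_id, CohLin.hMap_id, CohLin.hMap_id] at h'
  refine ⟨fun x x' hxx => (Θ 𝔞 M i).injective (hb.1 (Subtype.ext (funext fun n => ?_))), fun y hy => ?_⟩
  · refine hinj n ?_
    show CohLin.hMap (e n).hom i (Formal.toHHmodPow I (G 𝔞 M) i n (Θ 𝔞 M i x)) =
      CohLin.hMap (e n).hom i (Formal.toHHmodPow I (G 𝔞 M) i n (Θ 𝔞 M i x'))
    rw [← hπ, ← hπ, ← Θ_map, ← Θ_map]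
    exact congrArg _ (hxx n)
  · let y' : ∀ n, Formal.HHmodPow I (G 𝔞 M) i n := fun n => CohLin.hMap (e n).inv i (Θ 𝔞 _ i (y n))
    have hy' : y' ∈ Formal.HHlim I (G 𝔞 M) i := fun n => by
      show CohLin.hMap (Formal.modPowTrans I (n + 1) (G 𝔞 M)) i (y' (n + 1)) = y' n
      refine hinj n ?_
      simp only [y']
      have e1 : ((e (n + 1)).inv ≫ Formal.modPowTrans I (n + 1) (G 𝔞 M)) ≫ (e n).hom =
          gMap 𝔞 (Formal2.quotPowTrans A I M n) := by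
        rw [Category.assoc, Iso.inv_comp_eq, he']
      have e2 : CohLin.hMap (e n).hom i (CohLin.hMap (Formal.modPowTrans I (n + 1) (G 𝔞 M)) i
            (CohLin.hMap (e (n + 1)).inv i (Θ 𝔞 _ i (y (n + 1))))) =
          CohLin.hMap (gMap 𝔞 (Formal2.quotPowTrans A I M n)) i
            (Θ 𝔞 _ i (y (n + 1))) := by
        refine (CohLin.hMap_comp _ _ i _).symm.trans ((CohLin.hMap_comp _ _ i _).symm.trans ?_)
        exact congrArg (fun ψ => CohLin.hMap ψ i (Θ 𝔞 _ i (y (n + 1)))) ((Category.assoc _ _ _).symm.trans e1)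
      have e3 : CohLin.hMap (e n).hom i (CohLin.hMap (e n).inv i (Θ 𝔞 _ i (y n))) = Θ 𝔞 _ i (y n) := by
        refine (CohLin.hMap_comp _ _ i _).symm.trans ?_
        rw [Iso.inv_hom_id, CohLin.hMap_id]
      exact e2.trans ((Θ_map 𝔞 _ i (y (n + 1))).symm.trans ((congrArg (Θ 𝔞 _ i) (hy n)).trans e3.symm))
    obtain ⟨z, hz⟩ := hb.2 ⟨y', hy'⟩
    refine ⟨(Θ 𝔞 M i).symm z, fun n => (Θ 𝔞 _ i).injective ?_⟩
    rw [Θ_map, AddEquiv.apply_symm_apply]
    refine (hπ n z).trans ?_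
    rw [show Formal.toHHmodPow I (G 𝔞 M) i n z = y' n from congrFun (congrArg Subtype.val hz) n]
    simp only [y']
    rw [← CohLin.hMap_comp, Iso.inv_hom_id, CohLin.hMap_id]

/-- Formal cohomology on the punctured spectrum. -/
theorem formalCohBijective (i : ℕ)
    (h : ∀ j : ℕ, j = i + 1 ∨ j = i + 2 → ∃ n : ℕ, ∀ x : _root_.LocCoh.H 𝔞 j M, t ^ n • x = 0) :
    Formal2.FormalCohBijective A (Ideal.span ({t} : Set A)) M i (LocCoh.puncturedOpen A 𝔞) :=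
  formalCohBijective_of_bijective 𝔞 t M i (bijective_toHHlim 𝔞 t M i h)

end Groth.Agent.Formal61.Punct
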