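import Groth.Agent.Formal61.LimTors
import Mathlib.RingTheory.MvPolynomial.Homogeneous
import Mathlib.Data.Finset.NatAntidiagonal

/-!
# The graded map `I^{nc'} F → F[T]_n` for the limit of a formal system
-/

set_option autoImplicit false
universe u

open CategoryTheory CategoryTheory.Limits AlgebraicGeometry Opposite

noncomputable section

namespace Groth.Agent.Formal61.GradedMap

variable {A : Type u} [CommRing A] {r : ℕ} {f : Fin r → A} {I : Ideal A} {c K : ℕ}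
  {φ : Fin r → (↥(I ^ c) →ₗ[A] A)}

/-- `φ_j` on `I^(c+K)` lands in `I^K`. -/
theorem phi_mem (j : Fin r) (x : A) (hx : x ∈ I ^ (c + K)) (hc : x ∈ I ^ c) : φ j ⟨x, hc⟩ ∈ I ^ K := by
  rw [pow_add, mul_comm] at hx
  suffices h : ∃ hc : x ∈ I ^ c, φ j ⟨x, hc⟩ ∈ I ^ K from h.2
  refine Submodule.mul_induction_on hx (fun a ha b hb => ⟨Ideal.mul_mem_left _ a hb, ?_⟩)
    fun p q ⟨hp, hp'⟩ ⟨hq, hq'⟩ => ⟨Ideal.add_mem _ hp hq, ?_⟩
  · rw [show (⟨a * b, Ideal.mul_mem_left _ a hb⟩ : ↥(I ^ c)) = a • ⟨b, hb⟩ from rfl, map_smul, smul_eq_mul]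
    exact Ideal.mul_mem_right _ _ ha
  · rw [show (⟨p + q, Ideal.add_mem _ hp hq⟩ : ↥(I ^ c)) = ⟨p, hp⟩ + ⟨q, hq⟩ from rfl, map_add]
    exact Ideal.add_mem _ hp' hq'

variable {Φ : ℕ → A → MvPolynomial (Fin r) A}

structure IsPhi (φ : Fin r → (↥(I ^ c) →ₗ[A] A)) (c' : ℕ) (hcc' : c ≤ c') (Φ : ℕ → A → MvPolynomial (Fin r) A) : Prop where
  add : ∀ n : ℕ, ∀ g ∈ I ^ (n * c'), ∀ h ∈ I ^ (n * c'), Φ n (g + h) = Φ n g + Φ n h
  smul : ∀ (n : ℕ) (a : A), ∀ g ∈ I ^ (n * c'), Φ n (a * g) = a • Φ n g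
  hom : ∀ n : ℕ, ∀ g ∈ I ^ (n * c'), (Φ n g).IsHomogeneous n
  mul : ∀ n m : ℕ, ∀ g ∈ I ^ (n * c'), ∀ h ∈ I ^ (m * c'), Φ (n + m) (g * h) = Φ n g * Φ m h
  zero : ∀ a : A, Φ 0 a = MvPolynomial.C a
  one : ∀ (g : A) (hg : g ∈ I ^ c'), Φ 1 g = ∑ j, MvPolynomial.C (φ j ⟨g, Ideal.pow_le_pow_right hcc' hg⟩) * MvPolynomial.X j

theorem spec (hφ : ∀ x : ↥(I ^ c), (x : A) = ∑ j, f j * φ j x) (hΦ : IsPhi φ (c + K) (Nat.le_add_right c K) Φ) :
    ∀ (n : ℕ), ∀ g ∈ I ^ (n * (c + K)),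
      Φ n g ∈ (I ^ (n * K)).map (MvPolynomial.C : A →+* MvPolynomial (Fin r) A) ∧ MvPolynomial.eval f (Φ n g) = g := by
  intro n
  induction n with
  | zero =>
    intro g _
    rw [hΦ.zero, MvPolynomial.eval_C]
    exact ⟨Ideal.mem_map_of_mem _ (by simp), rfl⟩
  | succ n ih =>
    intro g hg
    rw [Nat.add_mul, one_mul, pow_add] at hg
    refine (Submodule.mul_induction_on (C := fun g => g ∈ I ^ ((n + 1) * (c + K)) ∧
      (Φ (n + 1) g ∈ (I ^ ((n + 1) * K)).map (MvPolynomial.C : A →+* MvPolynomial (Fin r) A) ∧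
        MvPolynomial.eval f (Φ (n + 1) g) = g)) hg (fun a ha b hb => ?_) fun p q hp hq => ?_).2
    · obtain ⟨ha₁, ha₂⟩ := ih a ha
      have h1 := hΦ.one b hb
      have hb' : b ∈ I ^ (1 * (c + K)) := by rwa [one_mul]
      refine ⟨by rw [Nat.add_mul, one_mul, pow_add]; exact Ideal.mul_mem_mul ha hb, ?_⟩
      rw [hΦ.mul n 1 a ha b hb']
      refine ⟨?_, ?_⟩
      · rw [Nat.add_mul, one_mul, pow_add, Ideal.map_mul]
        refine Ideal.mul_mem_mul ha₁ ?_
        rw [h1]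
        exact Submodule.sum_mem _ fun j _ => Ideal.mul_mem_right _ _ (Ideal.mem_map_of_mem _ (phi_mem j b hb _))
      · rw [map_mul, ha₂, h1, map_sum]
        simp only [map_mul, MvPolynomial.eval_C, MvPolynomial.eval_X]
        exact congrArg (a * ·) ((hφ ⟨b, Ideal.pow_le_pow_right (Nat.le_add_right c K) hb⟩).trans
          (Finset.sum_congr rfl fun j _ => mul_comm _ _)).symm
    · rw [hΦ.add _ p hp.1 q hq.1]
      exact ⟨Ideal.add_mem _ hp.1 hq.1, Ideal.add_mem _ hp.2.1 hq.2.1, by rw [map_add, hp.2.2, hq.2.2]⟩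

/-- The coefficient at a degree `n` exponent. -/
abbrev cf (Φ : ℕ → A → MvPolynomial (Fin r) A) (n : ℕ) (e : ↥(Finset.Nat.antidiagonalTuple r n)) (g : A) : A :=
  MvPolynomial.coeff (Finsupp.equivFunOnFinite.symm e.1) (Φ n g)

theorem sum_coeff (n : ℕ) (P : MvPolynomial (Fin r) A) (hP : P.IsHomogeneous n) :
    ∑ e : ↥(Finset.Nat.antidiagonalTuple r n),
      MvPolynomial.coeff (Finsupp.equivFunOnFinite.symm e.1) P * ∏ j, f j ^ (e.1 j) = MvPolynomial.eval f P := by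
  classical
  rw [MvPolynomial.eval_eq', Finset.sum_coe_sort (Finset.Nat.antidiagonalTuple r n)
    (fun e => MvPolynomial.coeff (Finsupp.equivFunOnFinite.symm e) P * ∏ j, f j ^ (e j))]
  refine Eq.symm (Finset.sum_of_injOn (fun d => ⇑d) DFunLike.coe_injective.injOn (fun d hd => ?_) ?_ fun d _ => ?_)
  · rw [Finset.mem_coe, Finset.Nat.mem_antidiagonalTuple]
    have := hP (MvPolynomial.mem_support_iff.1 hd)
    rw [← this, Finsupp.weight_apply, Finsupp.sum_fintype _ _ (by simp)]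
    simp
  · intro e _ he
    rw [MvPolynomial.notMem_support_iff.1 fun h => he ⟨_, h, rfl⟩, zero_mul]
  · rw [Finsupp.equivFunOnFinite_symm_coe]

section maps

variable [IsNoetherianRing A] {X : Scheme.{u}} [X.Over (Spec (CommRingCat.of A))] (F : X.Modules)

theorem smul_comm_mor (a b : A) :
    Formal.smulMod A F a ≫ Formal.smulMod A F b = Formal.smulMod A F b ≫ Formal.smulMod A F a :=
  FormalFun.smulMod_natural _ _

theorem smulMod_finsetSum {ι : Type*} (s : Finset ι) (a : ι → A) :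
    Formal.smulMod A F (∑ i ∈ s, a i) = ∑ i ∈ s, Formal.smulMod A F (a i) := by
  classical
  induction s using Finset.induction with
  | empty => simpa using FormalFun.smulMod_zero F
  | insert i s hi ih => rw [Finset.sum_insert hi, Finset.sum_insert hi, FormalFun.smulMod_add, ih]

theorem exists_cover (J : Ideal A) (m : ℕ) (hJ : J = I ^ m) :
    ∃ (S : Finset A) (hS : ∀ g : ↥S, (g : A) ∈ I ^ m) (p : (∐ fun _ : (↥S : Type u) => F) ⟶ Formal2.idealPowMod I m F),
      Epi p ∧ ∀ g : ↥S, Sigma.ι (fun _ : (↥S : Type u) => F) g ≫ p ≫ Formal2.idealPowModι I m F =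
        Formal.smulMod A F g := by
  obtain ⟨S, hS⟩ : ∃ S : Finset A, Ideal.span (S : Set A) = I ^ m := (IsNoetherian.noetherian (I ^ m) : (I ^ m).FG)
  have hSm : ∀ g : ↥S, (g : A) ∈ I ^ m := fun g => hS ▸ Ideal.subset_span g.2
  let D : (∐ fun _ : (↥S : Type u) => F) ⟶ F := Sigma.desc fun g : (↥S : Type u) => Formal.smulMod A F (g : A)
  have hMQ := Sys.isModQuot_modPowπ I m F
  have hw : D ≫ Formal.modPowπ I m F = 0 := Sigma.hom_ext _ _ fun g => by
    rw [comp_zero, ← Category.assoc, Sigma.ι_desc]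
    exact hMQ.condition _ (hSm g)
  haveI := hMQ.epi
  have hexact : (ShortComplex.mk D (Formal.modPowπ I m F) hw).Exact := by
    refine ShortComplex.exact_of_g_is_cokernel _ (CokernelCofork.IsColimit.ofπ' _ _ fun {Z} ψ hψ => ?_)
    have h := hMQ.exists_desc ψ fun a ha => by
      rw [← hS] at ha
      induction ha using Submodule.span_induction with
      | mem b hb =>
        have := Sigma.ι (fun _ : (↥S : Type u) => F) ⟨b, hb⟩ ≫= hψ
        rw [comp_zero, ← Category.assoc, Sigma.ι_desc] at this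
        exact this
      | zero => rw [FormalFun.smulMod_zero, zero_comp]
      | add x y _ _ hx hy => rw [FormalFun.smulMod_add, Preadditive.add_comp, hx, hy, add_zero]
      | smul x y _ hy => rw [smul_eq_mul, mul_comm, CohIII.smulMod_mul, Category.assoc, hy, comp_zero]
    exact ⟨h.choose, h.choose_spec⟩
  refine ⟨S, hSm, kernel.lift _ D hw, hexact.epi_kernelLift, fun g => ?_⟩
  rw [kernel.lift_ι, Sigma.ι_desc]

/-- The map is determined by the products `g ≫ c`. -/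
theorem exists_component (m K : ℕ) (cg : A → A)
    (hcomm : ∀ g ∈ I ^ m, ∀ h ∈ I ^ m, g * cg h = h * cg g)
    (hK : ∀ (T : X.Modules) (x : T ⟶ F), x ≫ Formal.modPowπ I K F = 0 →
      (∀ a ∈ I ^ m, x ≫ Formal.smulMod A F a = 0) → x = 0)
    (hcK : m = 0 ∨ ∀ g ∈ I ^ m, cg g ∈ I ^ K) :
    ∃ θ : Formal2.idealPowMod I m F ⟶ F, ∀ g ∈ I ^ m, ∀ γ : F ⟶ Formal2.idealPowMod I m F,
      γ ≫ Formal2.idealPowModι I m F = Formal.smulMod A F g → γ ≫ θ = Formal.smulMod A F (cg g) := by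
  have hkill : ∀ (T : X.Modules) (x : T ⟶ F), (∀ a ∈ I ^ m, x ≫ Formal.smulMod A F a = 0) →
      ((∀ g ∈ I ^ m, cg g ∈ I ^ K) → x ≫ Formal.modPowπ I K F = 0) → x = 0 := fun T x ha hx => by
    rcases hcK with rfl | h
    · have := ha 1 (by simp)
      rwa [FormalFun.smulMod_one, Category.comp_id] at this
    · exact hK T x (hx h) ha
  have hπ : ∀ a ∈ I ^ K, Formal.smulMod A F a ≫ Formal.modPowπ I K F = 0 :=
    (Sys.isModQuot_modPowπ I K F).condition
  obtain ⟨S, hS, p, hp, hpι⟩ := exists_cover F (I ^ m) m rfl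
  let ψ : (∐ fun _ : (↥S : Type u) => F) ⟶ F := Sigma.desc fun g : (↥S : Type u) => Formal.smulMod A F (cg (g : A))
  have hψ : ∀ h ∈ I ^ m, ψ ≫ Formal.smulMod A F h = p ≫ Formal2.idealPowModι I m F ≫ Formal.smulMod A F (cg h) :=
    fun h hh => Sigma.hom_ext _ _ fun g => by
      rw [← Category.assoc, Sigma.ι_desc, ← Category.assoc, ← Category.assoc, Category.assoc _ p, hpι,
        ← CohIII.smulMod_mul, ← CohIII.smulMod_mul]
      congr 1
      rw [hcomm h hh g (hS g), mul_comm]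
  have hψK : (∀ g ∈ I ^ m, cg g ∈ I ^ K) → ψ ≫ Formal.modPowπ I K F = 0 := fun h => Sigma.hom_ext _ _ fun g => by
    rw [comp_zero, ← Category.assoc, Sigma.ι_desc]
    exact hπ _ (h g (hS g))
  have hker : kernel.ι p ≫ ψ = 0 := hkill _ _ (fun a ha => by
    rw [Category.assoc, hψ a ha, kernel.condition_assoc, zero_comp]) fun h => by
    rw [Category.assoc, hψK h, comp_zero]
  let θ : Formal2.idealPowMod I m F ⟶ F := Abelian.epiDesc p ψ hker
  have hθ : p ≫ θ = ψ := Abelian.comp_epiDesc p ψ hker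
  refine ⟨θ, fun g hg γ hγ => sub_eq_zero.1 (hkill _ _ (fun a ha => ?_) fun h => ?_)⟩
  · have hθa : θ ≫ Formal.smulMod A F a = Formal2.idealPowModι I m F ≫ Formal.smulMod A F (cg a) := by
      rw [← cancel_epi p, ← Category.assoc, hθ, hψ a ha]
    rw [Preadditive.sub_comp, Category.assoc, hθa, ← Category.assoc, hγ, ← CohIII.smulMod_mul,
      ← CohIII.smulMod_mul, sub_eq_zero]
    congr 1
    rw [mul_comm (cg a) g, hcomm g hg a ha, mul_comm]
  · have hθK : θ ≫ Formal.modPowπ I K F = 0 := by rw [← cancel_epi p, ← Category.assoc, hθ, hψK h, comp_zero]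
    rw [Preadditive.sub_comp, Category.assoc, hθK, comp_zero, hπ _ (h g hg), sub_zero]

end maps

end Groth.Agent.Formal61.GradedMap
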