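import Groth.Agent.FormalFun.Powers
import Groth.Prelude.Def_Formal2

/-!
# Formal systems of modules: universal properties of the transition maps
-/

set_option autoImplicit false
universe u

open CategoryTheory CategoryTheory.Limits AlgebraicGeometry Opposite

noncomputable section

namespace Groth.Agent.Formal61.Sys

variable {A : Type u} [CommRing A] {X : Scheme.{u}} [X.Over (Spec (CommRingCat.of A))]

/-- `π : M ⟶ N` is a cokernel of multiplication by the elements of `J`. -/
def IsModQuot (J : Ideal A) {M N : X.Modules} (π : M ⟶ N) : Prop :=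
  ∃ h : Formal.smulFamily J M ≫ π = 0, IsIso (cokernel.desc _ _ h)

variable {J J' : Ideal A} {M N P Z : X.Modules}

theorem smulFamily_comp_eq_zero_iff (π : M ⟶ Z) :
    Formal.smulFamily J M ≫ π = 0 ↔ ∀ a ∈ J, Formal.smulMod A M a ≫ π = 0 := by
  constructor
  · intro h a ha
    have h' := Sigma.ι (fun _ : J => M) ⟨a, ha⟩ ≫= h
    rw [comp_zero, ← Category.assoc, Formal.smulFamily, Sigma.ι_desc] at h'
    exact h'
  · intro h
    apply Sigma.hom_ext
    intro a
    rw [comp_zero, ← Category.assoc, Formal.smulFamily, Sigma.ι_desc]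
    exact h a a.2

theorem comp_eq_zero_of_killedBy (hZ : Formal.KilledBy J Z) (π : M ⟶ Z) :
    Formal.smulFamily J M ≫ π = 0 :=
  (smulFamily_comp_eq_zero_iff π).2 fun a ha => by
    rw [FormalFun.smulMod_natural, hZ a ha, comp_zero]

theorem killedBy_mono (h : J' ≤ J) (hZ : Formal.KilledBy J Z) : Formal.KilledBy J' Z :=
  fun a ha => hZ a (h ha)

theorem killedBy_of_epi (π : M ⟶ Z) [Epi π] (hM : Formal.KilledBy J M) : Formal.KilledBy J Z :=
  fun a ha => by rw [← cancel_epi π, ← FormalFun.smulMod_natural, hM a ha, zero_comp, comp_zero]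

theorem killedBy_of_mono (ι : Z ⟶ M) [Mono ι] (hM : Formal.KilledBy J M) : Formal.KilledBy J Z :=
  fun a ha => by rw [← cancel_mono ι, FormalFun.smulMod_natural, hM a ha, comp_zero, zero_comp]

namespace IsModQuot

theorem epi {π : M ⟶ N} (hπ : IsModQuot J π) : Epi π := by
  obtain ⟨h, hiso⟩ := hπ
  rw [← cokernel.π_desc (Formal.smulFamily J M) π h]
  exact @epi_comp _ _ _ _ _ _ _ _ (@IsIso.epi_of_iso _ _ _ _ _ hiso)

theorem condition {π : M ⟶ N} (hπ : IsModQuot J π) : ∀ a ∈ J, Formal.smulMod A M a ≫ π = 0 :=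
  (smulFamily_comp_eq_zero_iff π).1 hπ.1

theorem killedBy {π : M ⟶ N} (hπ : IsModQuot J π) : Formal.KilledBy J N := fun a ha => by
  haveI := hπ.epi
  rw [← cancel_epi π, ← FormalFun.smulMod_natural, hπ.condition a ha, comp_zero]

theorem exists_desc {π : M ⟶ N} (hπ : IsModQuot J π) (φ : M ⟶ Z)
    (hφ : ∀ a ∈ J, Formal.smulMod A M a ≫ φ = 0) : ∃ ψ : N ⟶ Z, π ≫ ψ = φ := by
  obtain ⟨h, hiso⟩ := hπ
  refine ⟨inv (cokernel.desc _ _ h) ≫ cokernel.desc _ φ ((smulFamily_comp_eq_zero_iff φ).2 hφ), ?_⟩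
  have e : π ≫ inv (cokernel.desc _ _ h) = cokernel.π (Formal.smulFamily J M) := by
    rw [IsIso.comp_inv_eq, cokernel.π_desc]
  rw [← Category.assoc, e, cokernel.π_desc]

theorem exists_desc_of_killedBy {π : M ⟶ N} (hπ : IsModQuot J π) (φ : M ⟶ Z)
    (hZ : Formal.KilledBy J Z) : ∃ ψ : N ⟶ Z, π ≫ ψ = φ :=
  hπ.exists_desc φ ((smulFamily_comp_eq_zero_iff φ).1 (comp_eq_zero_of_killedBy hZ φ))

/-- The universal property characterises quotients. -/
theorem mk' {π : M ⟶ N} [Epi π] (h0 : ∀ a ∈ J, Formal.smulMod A M a ≫ π = 0)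
    (h1 : ∀ (Z : X.Modules) (φ : M ⟶ Z), (∀ a ∈ J, Formal.smulMod A M a ≫ φ = 0) → ∃ ψ : N ⟶ Z, π ≫ ψ = φ) :
    IsModQuot J π := by
  have h := (smulFamily_comp_eq_zero_iff π).2 h0
  refine ⟨h, ?_⟩
  obtain ⟨ψ, hψ⟩ := h1 _ (cokernel.π (Formal.smulFamily J M))
    fun a ha => FormalFun.smulMod_comp_π M ha
  refine ⟨ψ, ?_, ?_⟩
  · rw [← cancel_epi (cokernel.π (Formal.smulFamily J M)), cokernel.π_desc_assoc, hψ, Category.comp_id]
  · rw [← cancel_epi π, ← Category.assoc, hψ, cokernel.π_desc, Category.comp_id]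

theorem comp {π : M ⟶ N} {π' : N ⟶ P} (hπ : IsModQuot J π) (hπ' : IsModQuot J' π') (hJ : J ≤ J') :
    IsModQuot J' (π ≫ π') := by
  haveI := hπ.epi
  haveI := hπ'.epi
  refine mk' (fun a ha => ?_) fun Z φ hφ => ?_
  · rw [← Category.assoc, FormalFun.smulMod_natural, Category.assoc, hπ'.condition a ha, comp_zero]
  · obtain ⟨ψ, hψ⟩ := hπ.exists_desc φ fun a ha => hφ a (hJ ha)
    obtain ⟨χ, hχ⟩ := hπ'.exists_desc ψ fun a ha => by
      rw [← cancel_epi π, ← Category.assoc, ← FormalFun.smulMod_natural, Category.assoc, hψ, hφ a ha, comp_zero]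
    exact ⟨χ, by rw [Category.assoc, hχ, hψ]⟩

theorem of_comp {π : M ⟶ N} {π' : N ⟶ P} [Epi π] (h : IsModQuot J' (π ≫ π')) : IsModQuot J' π' := by
  haveI := h.epi
  haveI : Epi π' := epi_of_epi π π'
  refine mk' (fun a ha => ?_) fun Z φ hφ => ?_
  · rw [← cancel_epi π, ← Category.assoc, ← FormalFun.smulMod_natural, Category.assoc, h.condition a ha, comp_zero]
  · obtain ⟨χ, hχ⟩ := h.exists_desc (π ≫ φ) fun a ha => by
      rw [← Category.assoc, FormalFun.smulMod_natural, Category.assoc, hφ a ha, comp_zero]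
    exact ⟨χ, (cancel_epi π).1 (by rw [← Category.assoc, hχ])⟩

theorem id_of_killedBy (hM : Formal.KilledBy J M) : IsModQuot J (𝟙 M) :=
  mk' (fun a ha => by rw [hM a ha, zero_comp]) fun _ φ _ => ⟨φ, Category.id_comp φ⟩

theorem isIso {π : M ⟶ N} (hπ : IsModQuot J π) (hM : Formal.KilledBy J M) : IsIso π := by
  haveI := hπ.epi
  obtain ⟨ψ, hψ⟩ := hπ.exists_desc (𝟙 M) fun a ha => by rw [hM a ha, zero_comp]
  exact ⟨ψ, hψ, by rw [← cancel_epi π, ← Category.assoc, hψ, Category.id_comp, Category.comp_id]⟩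

/-- Two quotients of the same module are isomorphic. -/
theorem existsUnique_iso {π : M ⟶ N} {π' : M ⟶ P} (hπ : IsModQuot J π) (hπ' : IsModQuot J π') :
    ∃ e : N ≅ P, π ≫ e.hom = π' := by
  haveI := hπ.epi
  haveI := hπ'.epi
  obtain ⟨f, hf⟩ := hπ.exists_desc π' hπ'.condition
  obtain ⟨g, hg⟩ := hπ'.exists_desc π hπ.condition
  exact ⟨⟨f, g, by rw [← cancel_epi π, ← Category.assoc, hf, hg, Category.comp_id],
    by rw [← cancel_epi π', ← Category.assoc, hg, hf, Category.comp_id]⟩, hf⟩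

end IsModQuot

theorem isModQuot_modPowπ (I : Ideal A) (n : ℕ) (M : X.Modules) : IsModQuot (I ^ n) (Formal.modPowπ I n M) := by
  haveI : Epi (Formal.modPowπ I n M) := inferInstanceAs (Epi (cokernel.π _))
  exact IsModQuot.mk' (fun a ha => FormalFun.smulMod_comp_π M ha) fun Z φ hφ =>
    ⟨cokernel.desc _ φ ((smulFamily_comp_eq_zero_iff φ).2 hφ), cokernel.π_desc _ _ _⟩

instance epi_modPowπ (I : Ideal A) (n : ℕ) (M : X.Modules) : Epi (Formal.modPowπ I n M) :=
  inferInstanceAs (Epi (cokernel.π _))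

theorem killedBy_modPow (I : Ideal A) (n : ℕ) (M : X.Modules) :
    Formal.KilledBy (I ^ n) (Formal.modPow I n M) :=
  (isModQuot_modPowπ I n M).killedBy

theorem completion_map_succ (I : Ideal A) (M : X.Modules) (n : ℕ) :
    (Formal.completion I M).map (homOfLE (Nat.le_succ n)).op = Formal.modPowTrans I (n + 1) M := by
  exact Functor.ofOpSequence_map_homOfLE_succ _ n

/-- The projections `M → M/I^(n+1)M` are compatible with the transition maps. -/
theorem modPowπ_comp_completion_map (I : Ideal A) (M : X.Modules) {n m : ℕ} (h : n ≤ m) :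
    Formal.modPowπ I (m + 1) M ≫ (Formal.completion I M).map (homOfLE h).op = Formal.modPowπ I (n + 1) M := by
  induction m, h using Nat.le_induction with
  | base => exact (congrArg (_ ≫ ·) ((Formal.completion I M).map_id (op n))).trans (Category.comp_id _)
  | succ m h ih =>
    rw [← homOfLE_comp h (Nat.le_succ m), op_comp, Functor.map_comp, completion_map_succ]
    refine (Category.assoc _ _ _).symm.trans ?_
    exact (congrArg (· ≫ _) (Formal.modPowπ_trans I (m + 1) M)).trans ih

/-- A morphism out of a completion is determined on the modules. -/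
theorem completion_hom_ext (I : Ideal A) (M : X.Modules) {G : ℕᵒᵖ ⥤ X.Modules}
    {α β : Formal.completion I M ⟶ G}
    (h : ∀ n : ℕ, Formal.modPowπ I (n + 1) M ≫ α.app (op n) = Formal.modPowπ I (n + 1) M ≫ β.app (op n)) :
    α = β := by
  ext1
  ext1 ⟨n⟩
  exact (cancel_epi (Formal.modPowπ I (n + 1) M)).1 (h n)

/-- In a system with the quotient property all transition maps are quotients. -/
theorem isModQuot_map {I : Ideal A} {G : ℕᵒᵖ ⥤ X.Modules}
    (hk : ∀ n, Formal.KilledBy (I ^ (n + 1)) (G.obj (op n)))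
    (hs : ∀ n, IsModQuot (I ^ (n + 1)) (G.map (homOfLE (Nat.le_succ n)).op)) {n m : ℕ} (h : n ≤ m) :
    IsModQuot (I ^ (n + 1)) (G.map (homOfLE h).op) := by
  induction m, h using Nat.le_induction with
  | base =>
    rw [show G.map (homOfLE (le_refl n)).op = 𝟙 _ from G.map_id (op n)]
    exact IsModQuot.id_of_killedBy (hk n)
  | succ m h ih =>
    rw [← homOfLE_comp h (Nat.le_succ m), op_comp, Functor.map_comp]
    exact (hs m).comp ih (Ideal.pow_le_pow_right (Nat.succ_le_succ h))

/-- A compatible family of quotient maps from `M` identifies the completion of `M` with the system. -/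
theorem exists_completion_iso {I : Ideal A} {G : ℕᵒᵖ ⥤ X.Modules} (M : X.Modules)
    (q : ∀ n : ℕ, M ⟶ G.obj (op n)) (hq : ∀ n, IsModQuot (I ^ (n + 1)) (q n))
    (hc : ∀ n, q (n + 1) ≫ G.map (homOfLE (Nat.le_succ n)).op = q n) :
    ∃ e : Formal.completion I M ≅ G, ∀ n, Formal.modPowπ I (n + 1) M ≫ e.hom.app (op n) = q n := by
  choose e he using fun n => (isModQuot_modPowπ I (n + 1) M).existsUnique_iso (hq n)
  let α : Formal.completion I M ⟶ G := NatTrans.ofOpSequence (fun n => (e n).hom) fun n => by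
    refine (cancel_epi (Formal.modPowπ I (n + 1 + 1) M)).1 ?_
    refine (Category.assoc _ _ _).symm.trans (Eq.trans ?_ (Category.assoc _ _ _))
    refine (congrArg (· ≫ (e n).hom) (modPowπ_comp_completion_map I M (Nat.le_succ n))).trans ?_
    exact ((he n).trans (hc n).symm).trans (congrArg (· ≫ _) (he (n + 1)).symm)
  haveI : ∀ i, IsIso (α.app i) := fun i => inferInstanceAs (IsIso (e i.unop).hom)
  haveI : IsIso α := NatIso.isIso_of_isIso_app α
  exact ⟨asIso α, he⟩

/-- A formal system whose transition maps are quotients and all of whose terms are killed by a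
fixed power of `I` is the completion of one of its terms. -/
theorem exists_completion_iso_of_killedBy_pow {I : Ideal A} {G : ℕᵒᵖ ⥤ X.Modules} {c : ℕ}
    (hk : ∀ n, Formal.KilledBy (I ^ (n + 1)) (G.obj (op n)))
    (hs : ∀ n, IsModQuot (I ^ (n + 1)) (G.map (homOfLE (Nat.le_succ n)).op))
    (hc : ∀ n, Formal.KilledBy (I ^ c) (G.obj (op n))) :
    Nonempty (Formal.completion I (G.obj (op c)) ≅ G) := by
  haveI hiso : ∀ m, IsIso (G.map (homOfLE (le_max_left c m)).op) := fun m =>
    (isModQuot_map hk hs (le_max_left c m)).isIso (killedBy_mono (Ideal.pow_le_pow_right c.le_succ) (hc _))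
  let q : ∀ n : ℕ, G.obj (op c) ⟶ G.obj (op n) := fun n =>
    inv (G.map (homOfLE (le_max_left c n)).op) ≫ G.map (homOfLE (le_max_right c n)).op
  refine (exists_completion_iso (I := I) (G := G) (G.obj (op c)) q (fun n => ?_) fun n => ?_).elim
    fun e _ => ⟨e⟩
  · refine IsModQuot.of_comp (π := G.map (homOfLE (le_max_left c n)).op) ?_
    show IsModQuot _ (G.map _ ≫ inv (G.map _) ≫ _)
    rw [IsIso.hom_inv_id_assoc]
    exact isModQuot_map hk hs (le_max_right c n)
  · have hle : max c n ≤ max c (n + 1) := max_le_max le_rfl (Nat.le_succ n)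
    show (inv (G.map _) ≫ G.map _) ≫ G.map _ = inv (G.map _) ≫ G.map _
    have h1 : G.map (homOfLE (le_max_left c (n + 1))).op =
        G.map (homOfLE hle).op ≫ G.map (homOfLE (le_max_left c n)).op := by
      rw [← Functor.map_comp, ← op_comp, homOfLE_comp]
    rw [Category.assoc, IsIso.inv_comp_eq, h1, Category.assoc, IsIso.hom_inv_id_assoc, ← Functor.map_comp,
      ← Functor.map_comp, ← op_comp, ← op_comp, homOfLE_comp, homOfLE_comp]

end Groth.Agent.Formal61.Sys
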