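import Mathlib.RingTheory.Ideal.Operations
import Mathlib.LinearAlgebra.Span.Basic
import Mathlib.RingTheory.Ideal.Maps

/-!
# The limit of a tower `M_n = M_{n+1} / J^{n+1} M_{n+1}` has the expected kernels
-/

set_option autoImplicit false
universe u v

namespace Groth.Agent.Formal61.TowerAlg

variable {R : Type u} [CommRing R] {κ : Type u} [Fintype κ]

/-- Elements of `(a_k) N` are combinations. -/
theorem exists_sum_smul {M : Type v} [AddCommGroup M] [Module R M] (a : κ → R) (N : Submodule R M) {x : M}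
    (hx : x ∈ Ideal.span (Set.range a) • N) : ∃ y : κ → M, (∀ k, y k ∈ N) ∧ x = ∑ k, a k • y k := by
  classical
  refine Submodule.smul_induction_on hx (fun r hr z hz => ?_) fun p q ⟨y, hy, hp⟩ ⟨y', hy', hq⟩ => ?_
  · obtain ⟨c, rfl⟩ := (Submodule.mem_span_range_iff_exists_fun R).1 hr
    exact ⟨fun k => c k • z, fun k => N.smul_mem _ hz,
      by rw [Finset.sum_smul]; exact Finset.sum_congr rfl fun k _ => by rw [smul_smul, smul_eq_mul, mul_comm]⟩
  · exact ⟨y + y', fun k => N.add_mem (hy k) (hy' k),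
      by rw [hp, hq, ← Finset.sum_add_distrib]; exact Finset.sum_congr rfl fun k _ => (smul_add _ _ _).symm⟩

variable {M : ℕ → Type v} [∀ n, AddCommGroup (M n)] [∀ n, Module R (M n)] (t : ∀ n, M (n + 1) →ₗ[R] M n)

/-- The composite transition map. -/
def tr {i k : ℕ} (h : i ≤ k) : M k →ₗ[R] M i :=
  Nat.leRec (motive := fun k _ => M k →ₗ[R] M i) LinearMap.id (fun k _ f => f.comp (t k)) h

theorem tr_self (i : ℕ) : tr t (le_refl i) = LinearMap.id := Nat.leRec_self _ _

theorem tr_succ {i k : ℕ} (h : i ≤ k) : tr t (h.trans k.le_succ) = (tr t h).comp (t k) :=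
  Nat.leRec_succ _ _ h

theorem tr_compat {x : ∀ n, M n} (hx : ∀ n, t n (x (n + 1)) = x n) {i k : ℕ} (h : i ≤ k) :
    tr t h (x k) = x i := by
  induction k, h using Nat.le_induction with
  | base => rw [tr_self]; rfl
  | succ k h ih => rw [tr_succ t h, LinearMap.comp_apply, hx, ih]

theorem tr_comp {i k : ℕ} (h : i + 1 ≤ k) : (t i).comp (tr t h) = tr t (i.le_succ.trans h) := by
  induction k, h using Nat.le_induction with
  | base => rw [tr_self, LinearMap.comp_id, tr_succ t (le_refl i), tr_self, LinearMap.id_comp]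
  | succ k h ih => rw [tr_succ t h, ← LinearMap.comp_assoc, ih, ← tr_succ t (i.le_succ.trans h)]

/-- With surjective transition maps every element extends to a compatible family. -/
theorem exists_family (hsurj : ∀ m, Function.Surjective (t m)) {n : ℕ} (c : M n) :
    ∃ x : ∀ m, M m, (∀ m, t m (x (m + 1)) = x m) ∧ x n = c := by
  let L : ∀ d, M (n + d) := fun d => by
    induction d with
    | zero => exact c
    | succ d y => exact (hsurj (n + d) y).choose
  have hL : ∀ d, t (n + d) (L (d + 1)) = L d := fun d => (hsurj (n + d) (L d)).choose_spec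
  refine ⟨fun m => tr t (Nat.le_add_left m n) (L m), fun m => ?_, ?_⟩
  · calc t m (tr t (Nat.le_add_left (m + 1) n) (L (m + 1)))
        = tr t ((Nat.le_add_left m n).trans (n + m).le_succ) (L (m + 1)) := by
          rw [← LinearMap.comp_apply, tr_comp]
      _ = tr t (Nat.le_add_left m n) (L m) := by rw [tr_succ t (Nat.le_add_left m n), LinearMap.comp_apply, hL]
  · suffices ∀ d, tr t (Nat.le_add_right n d) (L d) = c from this n
    intro d
    induction d with
    | zero => exact LinearMap.congr_fun (tr_self t n) c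
    | succ d ih =>
      refine Eq.trans ?_ ih
      rw [show tr t (Nat.le_add_right n (d + 1)) = (tr t (Nat.le_add_right n d)).comp (t (n + d)) from
        tr_succ t (Nat.le_add_right n d)]
      exact congrArg (tr t (Nat.le_add_right n d)) (hL d)

/-- A compatible family vanishing in degree `n` is a combination of compatible families. -/
theorem exists_combination (J : Ideal R) (hkill : ∀ m, J ^ (m + 1) • (⊤ : Submodule R (M m)) = ⊥)
    (hsurj : ∀ m, Function.Surjective (t m))
    (hker : ∀ m (x : M (m + 1)), t m x = 0 → x ∈ J ^ (m + 1) • (⊤ : Submodule R (M (m + 1))))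
    {n : ℕ} (a : κ → R) (ha : J ^ (n + 1) = Ideal.span (Set.range a))
    {x : ∀ m, M m} (hx : ∀ m, t m (x (m + 1)) = x m) (hx0 : x n = 0) :
    ∃ y : κ → ∀ m, M m, (∀ k m, t m (y k (m + 1)) = y k m) ∧ ∀ m, x m = ∑ k, a k • y k m := by
  classical
  -- corrections
  have hstep : ∀ (d : ℕ) (y : κ → M (n + 1 + d)), x (n + 1 + d) = ∑ k, a k • y k →
      ∃ y' : κ → M (n + 1 + d + 1), x (n + 1 + d + 1) = ∑ k, a k • y' k ∧
        ∀ k, t (n + 1 + d) (y' k) - y k ∈ J ^ (d + 1) • (⊤ : Submodule R (M (n + 1 + d))) := by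
    intro d y hy
    choose z hz using fun k => hsurj (n + 1 + d) (y k)
    have hw : t (n + 1 + d) (x (n + 1 + d + 1) - ∑ k, a k • z k) = 0 := by
      rw [map_sub, hx, map_sum, hy, sub_eq_zero]
      exact Finset.sum_congr rfl fun k _ => by rw [map_smul, hz]
    have hw' := hker _ _ hw
    have eJ : J ^ (n + 1 + d + 1) = Ideal.span (Set.range a) * J ^ (d + 1) := by
      rw [← ha, ← pow_add]; rfl
    rw [eJ, Submodule.mul_smul] at hw'
    obtain ⟨e, he, hsum⟩ := exists_sum_smul a _ hw'
    refine ⟨fun k => z k + e k, ?_, fun k => ?_⟩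
    · rw [Finset.sum_congr rfl fun k (_ : k ∈ Finset.univ) => smul_add (a k) (z k) (e k),
        Finset.sum_add_distrib]
      exact (add_sub_cancel (∑ k, a k • z k) _).symm.trans (congrArg (_ + ·) hsum)
    · rw [map_add, hz, add_sub_cancel_left]
      refine (Submodule.map_smul'' (J ^ (d + 1)) (⊤ : Submodule R (M (n + 1 + d + 1))) (t (n + 1 + d))).le.trans
        (Submodule.smul_mono le_rfl le_top) ?_
      exact Submodule.mem_map_of_mem (he k)
  have hbase : ∃ y : κ → M (n + 1 + 0), x (n + 1 + 0) = ∑ k, a k • y k := by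
    have h := hker n (x (n + 1)) ((hx n).trans hx0)
    rw [ha] at h
    obtain ⟨y, -, hy⟩ := exists_sum_smul a _ h
    exact ⟨y, hy⟩
  let Y : ∀ d, {y : κ → M (n + 1 + d) // x (n + 1 + d) = ∑ k, a k • y k} := fun d => by
    induction d with
    | zero => exact ⟨hbase.choose, hbase.choose_spec⟩
    | succ d y => exact ⟨(hstep d y.1 y.2).choose, (hstep d y.1 y.2).choose_spec.1⟩
  have hY : ∀ d k, t (n + 1 + d) ((Y (d + 1)).1 k) - (Y d).1 k ∈
      J ^ (d + 1) • (⊤ : Submodule R (M (n + 1 + d))) := fun d k => (hstep d (Y d).1 (Y d).2).choose_spec.2 k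
  -- descend
  refine ⟨fun k j => tr t (Nat.le_add_left j (n + 1)) ((Y j).1 k), fun k j => ?_, fun j => ?_⟩
  · have h0 : tr t (Nat.le_add_left j (n + 1)) (t (n + 1 + j) ((Y (j + 1)).1 k) - (Y j).1 k) = 0 := by
      refine (Submodule.mem_bot R).1 (hkill j ▸ ?_)
      refine (Submodule.map_smul'' (J ^ (j + 1)) (⊤ : Submodule R (M (n + 1 + j))) (tr t (Nat.le_add_left j (n + 1)))).le.trans
        (Submodule.smul_mono le_rfl le_top) ?_
      exact Submodule.mem_map_of_mem (hY j k)
    rw [map_sub, sub_eq_zero, ← LinearMap.comp_apply, ← tr_succ] at h0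
    rw [← LinearMap.comp_apply, tr_comp]
    exact h0
  · rw [← tr_compat t hx (Nat.le_add_left j (n + 1)), (Y j).2, map_sum]
    exact Finset.sum_congr rfl fun k _ => map_smul _ _ _

end Groth.Agent.Formal61.TowerAlg
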