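import Groth.Agent.Formal61.Limit
import Groth.Agent.Formal61.Sys
import Groth.Agent.Formal61.TowerAlg
import Groth.Agent.LimTower.SheafTower

/-!
# The truncations of the limit of a quasi-coherent formal system
-/

set_option autoImplicit false
universe u

open CategoryTheory CategoryTheory.Limits AlgebraicGeometry Opposite TopologicalSpace

noncomputable section

namespace Groth.Agent.Formal61.LimitTrunc

variable {A : Type u} [CommRing A] {I : Ideal A} {X : Scheme.{u}} [X.Over (Spec (CommRingCat.of A))]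
  {G : ℕᵒᵖ ⥤ X.Modules}

theorem app_comp {M N P : X.Modules} (φ : M ⟶ N) (ψ : N ⟶ P) (U : X.Opens) (x : Γ(M, U)) :
    (φ ≫ ψ).app U x = ψ.app U (φ.app U x) := rfl

/-- A compatible family of sections gives a section of the limit. -/
theorem exists_section (G : ℕᵒᵖ ⥤ X.Modules) (U : X.Opens) (x : ∀ n : ℕ, Γ(G.obj (op n), U))
    (hx : ∀ n, (G.map (homOfLE (Nat.le_succ n)).op).app U (x (n + 1)) = x n) :
    ∃ z : Γ(limit G, U), ∀ n, (limit.π G (op n)).app U z = x n := by
  obtain ⟨z, hz⟩ := LimTower.SheafTower.exists_section (Limit.abTower G) U (fun n => x n.unop)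
    (fun i j f => LimTower.SheafTower.compat_nat (Limit.abTower G ⋙ LimTower.SheafTower.Ev U) x hx i j f)
  refine ⟨((Limit.limIso G).inv.hom.app (op U)).hom z, fun n => ?_⟩
  refine Eq.trans ?_ (hz (op n))
  have h : (Limit.limIso G).inv ≫ (SheafOfModules.toSheaf X.ringCatSheaf).map (limit.π G (op n)) =
      limit.π (Limit.abTower G) (op n) := by
    rw [Iso.inv_comp_eq]
    exact (Limit.limIso_π G (op n)).symm
  exact ConcreteCategory.congr_hom (congrArg (fun φ => φ.hom.app (op U)) h) z

theorem ext_section (G : ℕᵒᵖ ⥤ X.Modules) (U : X.Opens) (z z' : Γ(limit G, U))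
    (h : ∀ n, (limit.π G (op n)).app U z = (limit.π G (op n)).app U z') : z = z' := by
  have hinj : Function.Injective ((Limit.limIso G).hom.hom.app (op U)).hom := fun a b hab => by
    have := congrArg ((Limit.limIso G).inv.hom.app (op U)).hom hab
    have e := fun c => ConcreteCategory.congr_hom
      (congrArg (fun φ => φ.hom.app (op U)) (Limit.limIso G).hom_inv_id) c
    exact (e a).symm.trans (this.trans (e b))
  refine hinj (LimTower.SheafTower.ext_section (Limit.abTower G) U _ _ fun n => ?_)
  have e := fun c => ConcreteCategory.congr_hom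
    (congrArg (fun φ => φ.hom.app (op U)) (Limit.limIso_π G n)) c
  exact (e z).trans ((h n.unop).trans (e z').symm)

theorem transition_compat (G : ℕᵒᵖ ⥤ X.Modules) (U : X.Opens) (z : Γ(limit G, U)) (n : ℕ) :
    (G.map (homOfLE (Nat.le_succ n)).op).app U ((limit.π G (op (n + 1))).app U z) = (limit.π G (op n)).app U z := by
  exact (app_comp _ _ U z).symm.trans (congr($(limit.w G (homOfLE (Nat.le_succ n)).op).app U z))

/-- Sections of the kernel of a projection lie in `I^(n+1)`. -/
theorem exists_combination (hG : Formal2.IsQCohFormal I G) (hI : I.FG) {U : X.Opens} (hU : IsAffineOpen U)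
    {κ : Type u} [Fintype κ] (a : κ → A) {n : ℕ} (ha : I ^ (n + 1) = Ideal.span (Set.range a))
    (z : Γ(limit G, U)) (hz : (limit.π G (op n)).app U z = 0) :
    ∃ y : κ → Γ(limit G, U), z = ∑ k, (Formal.smulMod A (limit G) (a k)).app U (y k) := by
  classical
  let R := Γ(X, U)
  let M : ℕ → Type u := fun m => Γ(G.obj (op m), U)
  let t : ∀ m, M (m + 1) →ₗ[R] M m := fun m =>
    { toFun := fun x => (G.map (homOfLE (Nat.le_succ m)).op).app U x
      map_add' := fun x y => map_add _ x y
      map_smul' := fun r x => Scheme.Modules.Hom.app_smul _ r x }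
  let J : Ideal R := I.map (FormalFun.gA (A := A) U)
  have hkill : ∀ m, J ^ (m + 1) • (⊤ : Submodule R (M m)) = ⊥ := fun m => by
    rw [← Ideal.map_pow, eq_bot_iff, Ideal.map, Submodule.span_smul_eq, Submodule.set_smul_le_iff]
    rintro _ x ⟨b, hb, rfl⟩ -
    exact (Submodule.mem_bot R).2 ((FormalFun.smulMod_app _ b U x).symm.trans (congr($(hG.2.1 m b hb).app U x)))
  have hker : ∀ m (x : M (m + 1)), t m x = 0 → x ∈ J ^ (m + 1) • (⊤ : Submodule R (M (m + 1))) := by
    intro m x hx
    obtain ⟨s, hs⟩ := Submodule.FG.pow hI (m + 1)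
    haveI : (G.obj (op (m + 1))).IsQuasicoherent := hG.1 (m + 1)
    obtain ⟨e, he⟩ := (Sys.isModQuot_modPowπ I (m + 1) (G.obj (op (m + 1)))).existsUnique_iso (hG.2.2 m)
    have hspan : I ^ (m + 1) = Ideal.span (Set.range (fun k : (↥s : Type u) => (k : A))) := by
      rw [show Set.range (fun k : (↥s : Type u) => (k : A)) = ↑s from Subtype.range_coe]
      exact hs.symm
    have h0 : (cokernel.π (Formal.smulFamily (I ^ (m + 1)) (G.obj (op (m + 1))))).app U x = 0 := by
      have h1 : (Formal.modPowπ I (m + 1) (G.obj (op (m + 1))) ≫ e.hom).app U x = 0 := by rw [he]; exact hx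
      have h2 := congrArg (e.inv.app U) h1
      rw [map_zero, ← app_comp, Category.assoc, Iso.hom_inv_id, Category.comp_id] at h2
      exact h2
    obtain ⟨y, rfl⟩ := (FormalFun.ker_iff _ (G.obj (op (m + 1))) hspan hU x).1 h0
    refine Submodule.sum_mem _ fun k _ => ?_
    rw [FormalFun.smulMod_app]
    refine Submodule.smul_mem_smul ?_ trivial
    rw [← Ideal.map_pow]
    exact Ideal.mem_map_of_mem _ (hspan.ge (Ideal.subset_span ⟨k, rfl⟩))
  have ha' : J ^ (n + 1) = Ideal.span (Set.range fun k => FormalFun.gA (A := A) U (a k)) := by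
    rw [← Ideal.map_pow, ha, Ideal.map_span, ← Set.range_comp]
    rfl
  obtain ⟨y, hy, hsum⟩ := TowerAlg.exists_combination t J hkill
    (fun m => Limit.surj_affine hG U hU m) hker (fun k => FormalFun.gA (A := A) U (a k)) ha'
    (x := fun m => (limit.π G (op m)).app U z) (transition_compat G U z) hz
  choose w hw using fun k => exists_section G U (y k) (hy k)
  refine ⟨w, ext_section G U _ _ fun m => ?_⟩
  refine (hsum m).trans ?_
  rw [map_sum]
  refine Finset.sum_congr rfl fun k _ => ?_
  rw [← hw k m, FormalFun.smulMod_app]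
  exact (Scheme.Modules.Hom.app_smul _ _ _).symm

/-- Vanishing of morphisms of modules can be tested on affine opens. -/
theorem hom_eq_zero_of_affine {M N : X.Modules} (φ : M ⟶ N)
    (h : ∀ U : X.Opens, IsAffineOpen U → ∀ x : Γ(M, U), φ.app U x = 0) : φ = 0 := by
  refine Scheme.Modules.hom_ext _ _ fun V => ?_
  ext s
  choose W hW hxW hWV using fun x : V =>
    exists_isAffineOpen_mem_and_subset (X := X) (U := V) x.2
  refine TopCat.Sheaf.eq_of_locally_eq' ⟨N.presheaf, N.isSheaf⟩ W V (fun x => homOfLE (hWV x))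
    (fun y hy => TopologicalSpace.Opens.mem_iSup.2 ⟨⟨y, hy⟩, hxW ⟨y, hy⟩⟩) _ _ fun x => ?_
  refine (congr($(φ.mapPresheaf.naturality (homOfLE (hWV x)).op) s)).symm.trans ?_
  exact (h _ (hW x) _).trans (map_zero (N.presheaf.map (homOfLE (hWV x)).op).hom).symm

/-- Every projection from the limit is the truncation by `I^(n+1)`. -/
theorem isModQuot_π (hG : Formal2.IsQCohFormal I G) (hI : I.FG) (n : ℕ) :
    Sys.IsModQuot (I ^ (n + 1)) (limit.π G (op n)) := by
  classical
  have hsurj : ∀ U : X.Opens, IsAffineOpen U → Function.Surjective ((limit.π G (op n)).app U) := by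
    intro U hU c
    let t : ∀ m, Γ(G.obj (op (m + 1)), U) →ₗ[Γ(X, U)] Γ(G.obj (op m), U) := fun m =>
      { toFun := fun x => (G.map (homOfLE (Nat.le_succ m)).op).app U x
        map_add' := fun x y => map_add _ x y
        map_smul' := fun r x => Scheme.Modules.Hom.app_smul _ r x }
    obtain ⟨x, hx, rfl⟩ := TowerAlg.exists_family (M := fun m => (Γ(G.obj (op m), U) : Type u)) t (fun m => Limit.surj_affine hG U hU m) (n := n) c
    obtain ⟨z, hz⟩ := exists_section G U x hx
    exact ⟨z, hz n⟩
  haveI : Epi (limit.π G (op n)) := by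
    refine Preadditive.epi_of_cancel_zero _ fun {P} t ht => hom_eq_zero_of_affine t fun U hU x => ?_
    obtain ⟨z, rfl⟩ := hsurj U hU x
    exact congr($(ht).app U z)
  refine Sys.IsModQuot.mk' ((Sys.smulFamily_comp_eq_zero_iff _).1 (Sys.comp_eq_zero_of_killedBy (hG.2.1 n) _))
    fun Z φ hφ => ?_
  obtain ⟨s, hs⟩ := Submodule.FG.pow hI (n + 1)
  have hspan : I ^ (n + 1) = Ideal.span (Set.range (fun k : (↥s : Type u) => (k : A))) := by
    rw [show Set.range (fun k : (↥s : Type u) => (k : A)) = ↑s from Subtype.range_coe]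
    exact hs.symm
  have hk : kernel.ι (limit.π G (op n)) ≫ φ = 0 := hom_eq_zero_of_affine _ fun U hU x => by
    obtain ⟨y, hy⟩ := exists_combination hG hI hU _ hspan ((kernel.ι (limit.π G (op n))).app U x)
      ((app_comp _ _ U x).symm.trans (congr($(kernel.condition (limit.π G (op n))).app U x)))
    rw [app_comp, hy, map_sum]
    refine Finset.sum_eq_zero fun k _ => ?_
    exact (app_comp _ φ U _).symm.trans
      (congr($(hφ k (hspan.ge (Ideal.subset_span ⟨k, rfl⟩))).app U (y k)))
  exact ⟨_, (CokernelCofork.IsColimit.desc' (Abelian.epiIsCokernelOfKernel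
    (KernelFork.ofι _ (kernel.condition (limit.π G (op n)))) (kernelIsKernel _)) φ hk).2⟩

end Groth.Agent.Formal61.LimitTrunc
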