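import Groth.Agent.Formal61.TowerTors
import Groth.Agent.Formal61.LimitTrunc
import Groth.Agent.Formal61.LocRetract
import Groth.Agent.QCoh.FiniteType
import Groth.Agent.QCoh.Qcqs

/-!
# Torsion of the limit of a coherent formal system is separated from `I^K`
-/

set_option autoImplicit false
universe u

open CategoryTheory CategoryTheory.Limits AlgebraicGeometry Opposite TopologicalSpace

noncomputable section

namespace Groth.Agent.Formal61.LimTors

variable {A : Type u} [CommRing A] [IsNoetherianRing A] {I : Ideal A} {X : Scheme.{u}}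
  [X.Over (Spec (CommRingCat.of A))] [IsNoetherian X] {G : ℕᵒᵖ ⥤ X.Modules} (hG : Formal.IsCohFormal I G)

local notation "gA" => FormalFun.gA (A := A)

/-- The transition map of sections, linear over the functions. -/
abbrev tU (G : ℕᵒᵖ ⥤ X.Modules) (U : X.Opens) (n : ℕ) :
    Γ(G.obj (op (n + 1)), U) →ₗ[Γ(X, U)] Γ(G.obj (op n), U) :=
  { toFun := fun x => (G.map (homOfLE (Nat.le_succ n)).op).app U x
    map_add' := fun x y => map_add _ x y
    map_smul' := fun r x => Scheme.Modules.Hom.app_smul _ r x }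

theorem tr_eq (U : X.Opens) {n m : ℕ} (h : n ≤ m) (x : Γ(G.obj (op m), U)) :
    TowerAlg.tr (M := fun k => (Γ(G.obj (op k), U) : Type u)) (tU G U) h x = (G.map (homOfLE h).op).app U x := by
  induction m, h using Nat.le_induction with
  | base =>
    rw [TowerAlg.tr_self, show (homOfLE (le_refl n)).op = 𝟙 (op n) from Subsingleton.elim _ _, G.map_id]
    rfl
  | succ k h ih =>
    rw [TowerAlg.tr_succ _ h, LinearMap.comp_apply, ih]
    refine (LimitTrunc.app_comp (G.map (homOfLE k.le_succ).op) (G.map (homOfLE h).op) U x).symm.trans ?_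
    rw [← G.map_comp]
    rfl

include hG in
/-- The bound on one affine open. -/
theorem exists_bound_affine {U : X.Opens} (hU : IsAffineOpen U) :
    ∃ K, ∀ N n, ∃ (m : ℕ) (h : n ≤ m), ∀ s : Γ(G.obj (op m), U),
      s ∈ (I ^ K).map (gA U) • (⊤ : Submodule Γ(X, U) Γ(G.obj (op m), U)) →
      (∀ a ∈ I ^ N, gA U a • s = 0) → (G.map (homOfLE h).op).app U s = 0 := by
  classical
  haveI : IsNoetherianRing Γ(X, U) := IsLocallyNoetherian.component_noetherian ⟨U, hU⟩
  haveI : ∀ n, (G.obj (op n)).IsQuasicoherent := fun n => (hG.1 n).1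
  haveI : ∀ n, SheafOfModules.IsFiniteType.{u} (G.obj (op n)) := fun n => (hG.1 n).2
  haveI : ∀ n, Module.Finite Γ(X, U) Γ(G.obj (op n), U) := fun n => QCoh.finite_sections_of_isFiniteType _ hU
  have hq : Formal2.IsQCohFormal I G := ⟨fun n => (hG.1 n).1, hG.2.1, hG.2.2⟩
  let J : Ideal Γ(X, U) := I.map (gA U)
  have hkill : ∀ m, J ^ (m + 1) • (⊤ : Submodule Γ(X, U) Γ(G.obj (op m), U)) = ⊥ := fun m => by
    rw [← Ideal.map_pow, eq_bot_iff, Ideal.map, Submodule.span_smul_eq, Submodule.set_smul_le_iff]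
    rintro _ x ⟨b, hb, rfl⟩ -
    exact (Submodule.mem_bot _).2 ((FormalFun.smulMod_app _ b U x).symm.trans (congr($(hG.2.1 m b hb).app U x)))
  have hker : ∀ m, LinearMap.ker (tU G U m) = J ^ (m + 1) • ⊤ := fun m => by
    refine le_antisymm (fun x hx => ?_) (Submodule.smul_le.2 fun r hr x _ => ?_)
    · obtain ⟨s, hs⟩ := (IsNoetherian.noetherian (I ^ (m + 1)) : (I ^ (m + 1)).FG)
      obtain ⟨e, he⟩ := (Sys.isModQuot_modPowπ I (m + 1) (G.obj (op (m + 1)))).existsUnique_iso (hG.2.2 m)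
      have hspan : I ^ (m + 1) = Ideal.span (Set.range (fun k : (↥s : Type u) => (k : A))) := by
        rw [show Set.range (fun k : (↥s : Type u) => (k : A)) = ↑s from Subtype.range_coe]
        exact hs.symm
      have h0 : (cokernel.π (Formal.smulFamily (I ^ (m + 1)) (G.obj (op (m + 1))))).app U x = 0 := by
        have h1 : (Formal.modPowπ I (m + 1) (G.obj (op (m + 1))) ≫ e.hom).app U x = 0 := by rw [he]; exact hx
        have h2 := congrArg (e.inv.app U) h1
        rw [map_zero, ← LimitTrunc.app_comp, Category.assoc, Iso.hom_inv_id, Category.comp_id] at h2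
        exact h2
      obtain ⟨y, rfl⟩ := (FormalFun.ker_iff _ (G.obj (op (m + 1))) hspan hU x).1 h0
      refine Submodule.sum_mem _ fun k _ => ?_
      rw [FormalFun.smulMod_app]
      refine Submodule.smul_mem_smul ?_ trivial
      rw [← Ideal.map_pow]
      exact Ideal.mem_map_of_mem _ (hspan.ge (Ideal.subset_span ⟨k, rfl⟩))
    · rw [LinearMap.mem_ker, map_smul]
      exact (Submodule.eq_bot_iff _).1 (hkill m) _ (Submodule.smul_mem_smul hr trivial)
  obtain ⟨K, hK⟩ := TowerTors.exists_bound J (fun n => (Γ(G.obj (op n), U) : Type u)) (tU G U)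
    (fun m => Limit.surj_affine hq U hU m) hkill hker
  refine ⟨K, fun N n => ?_⟩
  obtain ⟨m, h, hm⟩ := hK N n
  refine ⟨m, h, fun s hs has => (tr_eq U h s).symm.trans (hm s (by rwa [← Ideal.map_pow]) fun a ha => ?_)⟩
  rw [← Ideal.map_pow] at ha
  induction ha using Submodule.span_induction with
  | mem b hb =>
    obtain ⟨b₀, hb₀, rfl⟩ := hb
    exact has b₀ hb₀
  | zero => exact zero_smul _ _
  | add b c _ _ hb hc => rw [add_smul, hb, hc, add_zero]
  | smul r b _ hb => rw [smul_eq_mul, mul_smul, hb, smul_zero]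

omit [IsNoetherianRing A] [AlgebraicGeometry.IsNoetherian X] in
theorem res_gA {U V : X.Opens} (h : V ≤ U) (a : A) : QCoh.rres h (gA U a) = gA V a := by
  exact QCoh.rres_rres le_top h (Coh.toGlobal (X ↘ Spec (CommRingCat.of A)) a)

include hG in
/-- The bound spreads to basic opens. -/
theorem vanish_basicOpen {U : X.Opens} (hU : IsAffineOpen U) (g : Γ(X, U)) {K N n m : ℕ} (h : n ≤ m)
    (hm : ∀ s : Γ(G.obj (op m), U), s ∈ (I ^ K).map (gA U) • (⊤ : Submodule Γ(X, U) Γ(G.obj (op m), U)) →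
      (∀ a ∈ I ^ N, gA U a • s = 0) → (G.map (homOfLE h).op).app U s = 0)
    (y : Γ(G.obj (op m), X.basicOpen g))
    (hy : (Formal.modPowπ I K (G.obj (op m))).app (X.basicOpen g) y = 0)
    (hya : ∀ a ∈ I ^ N, gA (X.basicOpen g) a • y = 0) :
    (G.map (homOfLE h).op).app (X.basicOpen g) y = 0 := by
  classical
  haveI : ∀ k, (G.obj (op k)).IsQuasicoherent := fun k => (hG.1 k).1
  obtain ⟨a, ha⟩ : ∃ S : Finset A, Ideal.span (S : Set A) = I ^ K := (IsNoetherian.noetherian (I ^ K) : (I ^ K).FG)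
  obtain ⟨b, hb⟩ : ∃ S : Finset A, Ideal.span (S : Set A) = I ^ N := (IsNoetherian.noetherian (I ^ N) : (I ^ N).FG)
  let aκ : (↥a : Type u) → A := fun k => (k : A)
  have hspan : I ^ K = Ideal.span (Set.range aκ) := by
    rw [show Set.range (fun k : (↥a : Type u) => (k : A)) = ↑a from Subtype.range_coe]
    exact ha.symm
  have hloc : QCoh.IsLocalizingAt (G.obj (op m)) g := QCoh.isLocalizingAt _ hU g
  obtain ⟨z, hz⟩ := (FormalFun.ker_iff _ (G.obj (op m)) hspan (hU.basicOpen g) y).1 hy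
  choose e z₀ hz₀ using fun k => hloc.surj (z k)
  obtain ⟨E, hE⟩ := Finite.exists_le e
  let r := QCoh.rres (X.basicOpen_le g) g
  let s : Γ(G.obj (op m), U) := ∑ k, gA U (aκ k) • (g ^ (E - e k) • z₀ k)
  have hs : QCoh.res (G.obj (op m)) (X.basicOpen_le g) s = r ^ E • y := by
    rw [hz, Finset.smul_sum]
    refine (map_sum _ _ _).trans (Finset.sum_congr rfl fun k _ => ?_)
    rw [QCoh.res_smul, res_gA, QCoh.res_smul, map_pow, hz₀, FormalFun.smulMod_app, smul_smul, smul_smul, smul_smul]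
    congr 1
    rw [mul_assoc, ← pow_add, Nat.sub_add_cancel (hE k)]
    exact mul_comm _ _
  choose f hf using fun i : (↥b : Type u) => hloc.eq_zero (gA U (i : A) • s) (by
    rw [QCoh.res_smul, res_gA, hs, smul_comm, hya _ (hb ▸ Ideal.subset_span i.2), smul_zero])
  obtain ⟨F, hF⟩ := Finite.exists_le f
  have hmem : g ^ F • s ∈ (I ^ K).map (gA U) • (⊤ : Submodule Γ(X, U) Γ(G.obj (op m), U)) :=
    Submodule.smul_mem _ _ (Submodule.sum_mem _ fun k _ => Submodule.smul_mem_smul
      (Ideal.mem_map_of_mem _ (hspan.ge (Ideal.subset_span ⟨k, rfl⟩))) trivial)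
  have hkilled : ∀ a ∈ I ^ N, gA U a • (g ^ F • s) = 0 := fun c hc => by
    rw [← hb] at hc
    induction hc using Submodule.span_induction with
    | mem c hc =>
      rw [smul_comm, ← Nat.sub_add_cancel (hF ⟨c, hc⟩), pow_add, mul_smul, hf ⟨c, hc⟩, smul_zero]
    | zero => rw [map_zero, zero_smul]
    | add p q _ _ hp hq => rw [map_add, add_smul, hp, hq, add_zero]
    | smul t p _ hp => rw [smul_eq_mul, map_mul, mul_smul, hp, smul_zero]
  have h0 := congrArg (QCoh.res (G.obj (op n)) (X.basicOpen_le g)) (hm _ hmem hkilled)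
  rw [map_zero] at h0
  have hnat : QCoh.res (G.obj (op n)) (X.basicOpen_le g) ((G.map (homOfLE h).op).app U (g ^ F • s)) =
      (G.map (homOfLE h).op).app (X.basicOpen g) (QCoh.res (G.obj (op m)) (X.basicOpen_le g) (g ^ F • s)) :=
    (ConcreteCategory.congr_hom ((G.map (homOfLE h).op).mapPresheaf.naturality (homOfLE (X.basicOpen_le g)).op) _).symm
  rw [hnat, QCoh.res_smul, map_pow, hs, smul_smul, ← pow_add, Scheme.Modules.Hom.app_smul] at h0
  have hu : IsUnit (QCoh.rres (X.basicOpen_le g) g) :=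
    (X.toLocallyRingedSpace.toRingedSpace.isUnit_res_basicOpen g)
  exact (hu.pow (F + E)).smul_eq_zero.1 h0

include hG in
/-- `(0 : I^N) ∩ I^K = 0` in the limit, with `K` independent of `N`. -/
theorem exists_bound : ∃ K, ∀ (N : ℕ) (T : X.Modules) (x : T ⟶ limit G),
    x ≫ Formal.modPowπ I K (limit G) = 0 → (∀ a ∈ I ^ N, x ≫ Formal.smulMod A (limit G) a = 0) → x = 0 := by
  classical
  obtain ⟨σ, hσfin, hσ⟩ := (isCompact_iff_finite_and_eq_biUnion_affineOpens (U := (⊤ : X.Opens))).mp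
    (show IsCompact ((⊤ : X.Opens) : Set X) by rw [Opens.coe_top]; exact isCompact_univ)
  haveI := hσfin.to_subtype
  choose Kf hKf using fun i : σ => exists_bound_affine hG i.1.2
  obtain ⟨K, hK⟩ := Finite.exists_le Kf
  refine ⟨K, fun N T x hx hxa => ?_⟩
  refine Scheme.Modules.hom_ext _ _ fun W => ?_
  ext z
  refine LimitTrunc.ext_section G W _ _ fun n => ?_
  show (limit.π G (op n)).app W (x.app W z) = (limit.π G (op n)).app W 0
  rw [map_zero, ← LimitTrunc.app_comp]
  have hcov : ∀ p : W, ∃ (i : σ) (g : Γ(X, i.1.1)), X.basicOpen g ≤ W ∧ p.1 ∈ X.basicOpen g := fun p => by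
    have : p.1 ∈ (⊤ : X.Opens) := trivial
    rw [hσ] at this
    obtain ⟨i, hi, hpi⟩ : ∃ i ∈ σ, p.1 ∈ i.1 := by simpa [Opens.mem_iSup] using this
    obtain ⟨g, hg, hpg⟩ := i.2.exists_basicOpen_le p hpi
    exact ⟨⟨i, hi⟩, g, hg, hpg⟩
  choose i g hgW hpg using hcov
  refine TopCat.Sheaf.eq_of_locally_eq' ⟨(G.obj (op n)).presheaf, (G.obj (op n)).isSheaf⟩
    (fun p : W => X.basicOpen (g p)) W (fun p => homOfLE (hgW p))
    (fun p hp => Opens.mem_iSup.2 ⟨⟨p, hp⟩, hpg ⟨p, hp⟩⟩) _ _ fun p => ?_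
  refine Eq.trans ?_ (map_zero ((G.obj (op n)).presheaf.map (homOfLE (hgW p)).op).hom).symm
  refine (ConcreteCategory.congr_hom ((x ≫ limit.π G (op n)).mapPresheaf.naturality (homOfLE (hgW p)).op) z).symm.trans ?_
  obtain ⟨m, h, hm⟩ := hKf (i p) N n
  let y : T ⟶ G.obj (op m) := x ≫ limit.π G (op m)
  have hyK : y ≫ Formal.modPowπ I K (G.obj (op m)) = 0 := by
    rw [Category.assoc, ← LocRetract.π_mP I K (limit.π G (op m)), ← Category.assoc, hx, zero_comp]
  have hyN : ∀ a ∈ I ^ N, y ≫ Formal.smulMod A (G.obj (op m)) a = 0 := fun a ha => by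
    rw [Category.assoc, ← FormalFun.smulMod_natural, ← Category.assoc, hxa a ha, zero_comp]
  have hw : x ≫ limit.π G (op n) = y ≫ G.map (homOfLE h).op := by
    rw [Category.assoc, limit.w]
  show (x ≫ limit.π G (op n)).app (X.basicOpen (g p)) _ = 0
  rw [hw, LimitTrunc.app_comp]
  refine vanish_basicOpen hG (i p).1.2 (g p) (K := K) (N := N) h (fun s hs has => hm s ?_ has) _ ?_ fun a ha => ?_
  · exact Submodule.smul_mono_left (Ideal.map_mono (Ideal.pow_le_pow_right (hK (i p)))) hs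
  · exact congr($hyK |>.app (X.basicOpen (g p)) _)
  · exact (FormalFun.smulMod_app _ a _ _).symm.trans (congr($(hyN a ha).app (X.basicOpen (g p)) _))

end Groth.Agent.Formal61.LimTors
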