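import Groth.Agent.Formal61.SplitFree
import Groth.Agent.InjMod.ExtTilde
import Groth.Agent.ZClosLib.CohDescent

/-!
# Algebraization of locally free formal modules along a regular element
-/

set_option autoImplicit false
universe u

open CategoryTheory CategoryTheory.Limits AlgebraicGeometry Opposite
open Groth.Agent.FormalSupp

noncomputable section

namespace Groth.Agent.Formal61.PrinAlg

variable {A : Type u} [CommRing A] [IsNoetherianRing A] {𝔞 : Ideal A} {f : A}

local notation "U" => LocCoh.puncturedOpen A 𝔞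

/-- The hypotheses on the formal module. -/
structure Dat (𝔞 : Ideal A) (f : A) (G : ℕᵒᵖ ⥤ (LocCoh.puncturedOpen A 𝔞 : Scheme.{u}).Modules) : Prop where
  coh : Formal.IsCohFormal (Ideal.span ({f} : Set A)) G
  free : ∀ n : ℕ, Formal2.IsFinLocFreeMod (Ideal.span ({f} : Set A)) (n + 1) (G.obj (op n))
  reg : f ∈ nonZeroDivisors A

variable {G : ℕᵒᵖ ⥤ (LocCoh.puncturedOpen A 𝔞 : Scheme.{u}).Modules} (hD : Dat 𝔞 f G)

local notation "II" => Ideal.span (Singleton.singleton f : Set A)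

/-- Transition maps. -/
abbrev tr {n m : ℕ} (h : n ≤ m) : G.obj (op m) ⟶ G.obj (op n) := G.map (homOfLE h).op

omit [IsNoetherianRing A] in
theorem tr_tr {a b c : ℕ} (h : a ≤ b) (h' : b ≤ c) : tr (G := G) h' ≫ tr h = tr (h.trans h') := by
  rw [← Functor.map_comp, ← op_comp, homOfLE_comp]

/-- The connecting map on global sections. -/
def δgen {S : ShortComplex (LocCoh.puncturedOpen A 𝔞 : Scheme.{u}).Modules} (hS : S.ShortExact) :
    (Model.Γf U).obj S.X₃ →ₗ[A] Coh.HH (U : Scheme.{u}) S.X₁ 1 :=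
  (CohLin.overLin A (CohLin.hδ hS 0)).comp (Model.θ U S.X₃).symm.toLinearMap

theorem θ_symm_map {P Q : (LocCoh.puncturedOpen A 𝔞 : Scheme.{u}).Modules} (φ : P ⟶ Q) (x : (Model.Γf U).obj P) :
    (Model.θ U Q).symm (((Model.Γf U).map φ).hom x) = CohLin.hMap φ 0 ((Model.θ U P).symm x) := by
  apply (Model.θ U Q).injective
  rw [LinearEquiv.apply_symm_apply, Model.θ_map, LinearEquiv.apply_symm_apply]

theorem exists_of_δgen {S : ShortComplex (LocCoh.puncturedOpen A 𝔞 : Scheme.{u}).Modules} (hS : S.ShortExact)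
    (x : (Model.Γf U).obj S.X₃) (hx : δgen hS x = 0) : ∃ y, ((Model.Γf U).map S.g).hom y = x := by
  obtain ⟨y, hy⟩ := CohLin.exists_hMap_g_eq hS ((Model.θ U S.X₃).symm x) hx
  exact ⟨Model.θ U _ y, (Model.θ_map U S.g y).symm.trans
    ((congrArg (Model.θ U S.X₃) hy).trans (LinearEquiv.apply_symm_apply _ x))⟩

theorem δgen_natural {S S' : ShortComplex (LocCoh.puncturedOpen A 𝔞 : Scheme.{u}).Modules} (hS : S.ShortExact)
    (hS' : S'.ShortExact) (σ : S ⟶ S') (x : (Model.Γf U).obj S.X₃) :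
    δgen hS' (((Model.Γf U).map σ.τ₃).hom x) = CohLin.hMap σ.τ₁ 1 (δgen hS x) :=
  (congrArg (CohLin.hδ hS' 0) (θ_symm_map σ.τ₃ x)).trans (FormalFun.δ_natural hS hS' σ 0 _)

include hD

theorem isModQuot_tr {n m : ℕ} (h : n ≤ m) : Sys.IsModQuot (II ^ (n + 1)) (tr (G := G) h) :=
  Sys.isModQuot_map hD.coh.2.1 hD.coh.2.2 h

theorem epi_tr {n m : ℕ} (h : n ≤ m) : Epi (tr (G := G) h) := (isModQuot_tr hD h).epi

theorem smul_pow_eq_zero {n k : ℕ} (h : n + 1 ≤ k) : Formal.smulMod A (G.obj (op n)) (f ^ k) = 0 :=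
  hD.coh.2.1 n _ (Ideal.pow_le_pow_right h (Principal.pow_mem f k))

theorem exists_j (n k : ℕ) : ∃ j : G.obj (op n) ⟶ G.obj (op (n + k)),
    tr (Nat.le_add_right n k) ≫ j = Formal.smulMod A (G.obj (op (n + k))) (f ^ k) :=
  (isModQuot_tr hD (Nat.le_add_right n k)).exists_desc _ (Principal.killing_of_gen _ (by
    rw [← CohIII.smulMod_mul, ← pow_add]
    exact smul_pow_eq_zero hD (by omega)))

/-- Multiplication by `f ^ k`. -/
def j (n k : ℕ) : G.obj (op n) ⟶ G.obj (op (n + k)) := (exists_j hD n k).choose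

theorem tr_j (n k : ℕ) : tr (Nat.le_add_right n k) ≫ j hD n k = Formal.smulMod A (G.obj (op (n + k))) (f ^ k) :=
  (exists_j hD n k).choose_spec

/-- A finite model of a term. -/
theorem exists_model (n : ℕ) : ∃ (N : ModuleCat.{u} A) (_ : Module.Finite A N)
    (ε : (Affine.Φ U).obj N ≅ G.obj (op n)), Split.IsSplit 𝔞 (A ⧸ Ideal.span ({f ^ (n + 1)} : Set A)) N := by
  obtain ⟨N, hN, ψ, hψ⟩ := Model.exists_finite_model 𝔞 (G.obj (op n)) (hD.coh.1 n)
  haveI := (hD.coh.1 n).1
  haveI := hψ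
  let ε : (Affine.Φ U).obj N ≅ G.obj (op n) := asIso ((Affine.Φ U).map ψ) ≪≫ Model.counitIso U (G.obj (op n))
  exact ⟨N, hN, ε, SplitFree.isSplit 𝔞 f (n + 1) _ (hD.free n) N ε⟩

/-- `f ^ k` is injective up to `f ^ (n + 1)` on the term of level `n + k`. -/
theorem comp_tr_eq_zero (n k : ℕ) {T : (U : Scheme.{u}).Modules} (x : T ⟶ G.obj (op (n + k)))
    (hx : x ≫ Formal.smulMod A (G.obj (op (n + k))) (f ^ k) = 0) : x ≫ tr (Nat.le_add_right n k) = 0 := by
  obtain ⟨N, _, ε, hN⟩ := exists_model hD (n + k)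
  let u₀ : N ⟶ N := ModuleCat.ofHom (f ^ k • LinearMap.id)
  let M' : Submodule A N := (II ^ (n + 1)) • ⊤
  let π : N ⟶ ModuleCat.of A ((N : Type u) ⧸ M') := ModuleCat.ofHom M'.mkQ
  have hπ : Sys.IsModQuot (II ^ (n + 1)) ((Affine.Φ U).map π) := Affine.isModQuot U N f (n + 1)
  have h0 : (Affine.Φ U).map (kernel.ι u₀ ≫ π) = 0 := by
    have hz : IsZero ((Affine.Φ U).obj (ModuleCat.of A (LinearMap.range (kernel.ι u₀ ≫ π).hom))) := by
      refine Model.isZero_of_torsion _ fun q => ?_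
      obtain ⟨_, z, rfl⟩ := q
      have hz : f ^ k • (kernel.ι u₀).hom z = 0 := congr($(kernel.condition u₀) z)
      obtain ⟨m, hm⟩ := Split.isSplit_torsion' hD.reg (n + 1) k
        (show n + k + 1 = k + (n + 1) by omega) hN _ hz
      refine ⟨m, fun a ha => Subtype.ext ?_⟩
      show a • π.hom ((kernel.ι u₀).hom z) = 0
      obtain ⟨y, hy⟩ := hm a ha
      rw [← map_smul, hy]
      exact (Submodule.Quotient.mk_eq_zero _).2 (Submodule.smul_mem_smul (Principal.pow_mem f _) trivial)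
    have e : kernel.ι u₀ ≫ π = ModuleCat.ofHom (kernel.ι u₀ ≫ π).hom.rangeRestrict ≫
        ModuleCat.ofHom (LinearMap.range (kernel.ι u₀ ≫ π).hom).subtype := rfl
    rw [e, Functor.map_comp, hz.eq_of_tgt ((Affine.Φ U).map _) 0, zero_comp]
  have hx' : (x ≫ ε.inv) ≫ (Affine.Φ U).map u₀ = 0 := by
    rw [Affine.Φ_smul U N (f ^ k), Category.assoc]
    refine (congrArg (x ≫ ·) (FormalFun.smulMod_natural ε.inv (f ^ k)).symm).trans ?_
    rw [← Category.assoc, hx, zero_comp]
  obtain ⟨ψ, hψ⟩ := hπ.exists_desc (ε.hom ≫ tr (Nat.le_add_right n k)) fun a ha => by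
    rw [← Category.assoc, FormalFun.smulMod_natural, Category.assoc]
    refine (congrArg (_ ≫ ·) ((isModQuot_tr hD (Nat.le_add_right n k)).condition a ha)).trans comp_zero
  have : (x ≫ ε.inv) ≫ (Affine.Φ U).map π = 0 := by
    have h1 := kernel.lift_ι ((Affine.Φ U).map u₀) (x ≫ ε.inv) hx'
    rw [← h1, ← PreservesKernel.iso_inv_ι (Affine.Φ U) u₀, Category.assoc, Category.assoc, ← Functor.map_comp, h0,
      comp_zero, comp_zero]
  calc x ≫ tr (Nat.le_add_right n k) = (x ≫ ε.inv) ≫ ε.hom ≫ tr (Nat.le_add_right n k) := by simp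
    _ = (x ≫ ε.inv) ≫ (Affine.Φ U).map π ≫ ψ := by rw [hψ]
    _ = 0 := by rw [← Category.assoc, this, zero_comp]

theorem mono_j (n k : ℕ) : Mono (j hD n k) := by
  refine Preadditive.mono_of_cancel_zero _ fun {T} a ha => ?_
  haveI := epi_tr hD (G := G) (Nat.le_add_right n k)
  obtain ⟨T', q, hq, x, hx⟩ := surjective_up_to_refinements_of_epi (tr (G := G) (Nat.le_add_right n k)) a
  have h : x ≫ Formal.smulMod A (G.obj (op (n + k))) (f ^ k) = 0 := by
    rw [← tr_j hD n k, ← Category.assoc, ← hx, Category.assoc, ha, comp_zero]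
  rw [← cancel_epi q, comp_zero, hx]
  exact comp_tr_eq_zero hD n k x h

theorem j_tr (n m : ℕ) : j hD n (m + 1) ≫ tr (show m ≤ n + (m + 1) by omega) = 0 := by
  haveI := epi_tr hD (G := G) (Nat.le_add_right n (m + 1))
  rw [← cancel_epi (tr (G := G) (Nat.le_add_right n (m + 1))), ← Category.assoc, tr_j, comp_zero,
    FormalFun.smulMod_natural, smul_pow_eq_zero hD le_rfl, comp_zero]

/-- `0 → G_n → G_{n+m+1} → G_m → 0` -/
abbrev S (n m : ℕ) : ShortComplex (U : Scheme.{u}).Modules :=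
  ShortComplex.mk (j hD n (m + 1)) (tr (show m ≤ n + (m + 1) by omega)) (j_tr hD n m)

theorem shortExact_S (n m : ℕ) : (S hD n m).ShortExact where
  exact :=
    haveI : Epi (S hD n m).g := epi_tr hD (show m ≤ n + (m + 1) by omega)
    ShortComplex.exact_of_g_is_cokernel _ (CokernelCofork.IsColimit.ofπ' _ _ fun {Z} φ hφ =>
    have hx := (isModQuot_tr hD (show m ≤ n + (m + 1) by omega)).exists_desc φ
      (Principal.killing_of_gen φ (by
        rw [← tr_j hD n (m + 1), Category.assoc]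
        exact (congrArg (_ ≫ ·) hφ).trans comp_zero))
    ⟨hx.choose, hx.choose_spec⟩)
  mono_f := mono_j hD n (m + 1)
  epi_g := epi_tr hD (show m ≤ n + (m + 1) by omega)

theorem j_tr_comm {n n' : ℕ} (h : n ≤ n') (k : ℕ) :
    j hD n' k ≫ tr (show n + k ≤ n' + k by omega) = tr h ≫ j hD n k := by
  haveI := epi_tr hD (G := G) (Nat.le_add_right n' k)
  rw [← cancel_epi (tr (G := G) (Nat.le_add_right n' k)), ← Category.assoc, tr_j, FormalFun.smulMod_natural,
    ← Category.assoc, tr_tr, ← tr_j hD n k, ← Category.assoc, tr_tr]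

theorem j_tr_self (n k : ℕ) :
    j hD n k ≫ tr (Nat.le_add_right n k) = Formal.smulMod A (G.obj (op n)) (f ^ k) := by
  haveI := epi_tr hD (G := G) (Nat.le_add_right n k)
  rw [← cancel_epi (tr (G := G) (Nat.le_add_right n k)), ← Category.assoc, tr_j, FormalFun.smulMod_natural]

/-- Global sections of the `n`-th term. -/
abbrev H (_hD : Dat 𝔞 f G) (n : ℕ) : ModuleCat.{u} A := (Model.Γf U).obj (G.obj (op n))

/-- The induced map of sections. -/
abbrev tH (_hD : Dat 𝔞 f G) {a b : ℕ} (h : a ≤ b) : (Model.Γf U).obj (G.obj (op b)) ⟶ (Model.Γf U).obj (G.obj (op a)) :=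
  (Model.Γf U).map (tr (G := G) h)

omit hD in
theorem map_comp_apply {P Q R : (U : Scheme.{u}).Modules} (φ : P ⟶ Q) (ψ : Q ⟶ R) (x : (Model.Γf U).obj P) :
    ((Model.Γf U).map ψ).hom (((Model.Γf U).map φ).hom x) = ((Model.Γf U).map (φ ≫ ψ)).hom x := by
  rw [Functor.map_comp]; rfl

theorem tH_tH {a b c : ℕ} (h : a ≤ b) (h' : b ≤ c) (x : H hD c) :
    (tH hD h).hom ((tH hD h').hom x) = (tH hD (h.trans h')).hom x := by
  rw [map_comp_apply, tr_tr]

theorem tH_self {a : ℕ} (x : H hD a) : (tH hD (le_refl a)).hom x = x := by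
  show ((Model.Γf U).map (tr (G := G) (le_refl a))).hom x = x
  rw [show tr (G := G) (le_refl a) = 𝟙 _ from (congrArg G.map (Subsingleton.elim _ _)).trans (G.map_id _),
    CategoryTheory.Functor.map_id]
  rfl

/-- The connecting map of `0 → G_0 → G_{n+1} → G_n → 0`. -/
def δ (n : ℕ) : H hD n →ₗ[A] Coh.HH (U : Scheme.{u}) (G.obj (op 0)) 1 := δgen (shortExact_S hD 0 n)

theorem exists_of_δ {n : ℕ} (x : H hD n) (hx : δ hD n x = 0) :
    ∃ x' : H hD (0 + (n + 1)), (tH hD (show n ≤ 0 + (n + 1) by omega)).hom x' = x :=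
  exists_of_δgen (shortExact_S hD 0 n) x hx

theorem exists_σ (c k : ℕ) : ∃ σ : S hD 0 c ⟶ S hD 0 (c + k), σ.τ₁ = 𝟙 _ ∧ σ.τ₃ = j hD c k := by
  let τ₂ : G.obj (op (0 + (c + 1))) ⟶ G.obj (op (0 + (c + k + 1))) :=
    j hD (0 + (c + 1)) k ≫ tr (show 0 + (c + k + 1) ≤ 0 + (c + 1) + k by omega)
  refine ⟨{ τ₁ := 𝟙 _, τ₂ := τ₂, τ₃ := j hD c k, comm₁₂ := ?_, comm₂₃ := ?_ }, rfl, rfl⟩
  · show 𝟙 (G.obj (op 0)) ≫ j hD 0 (c + k + 1) = j hD 0 (c + 1) ≫ τ₂
    have hN : ∀ {a b : ℕ} (h : a ≤ b), Epi (tr (G := G) h) := fun h => epi_tr hD h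
    haveI := hN (Nat.le_add_right 0 (c + 1))
    haveI := hN (Nat.le_add_right (0 + (c + 1)) k)
    rw [Category.id_comp, ← cancel_epi (tr (G := G) (Nat.le_add_right (0 + (c + 1)) k) ≫
      tr (G := G) (Nat.le_add_right 0 (c + 1)))]
    have lhs : (tr (G := G) (Nat.le_add_right (0 + (c + 1)) k) ≫ tr (Nat.le_add_right 0 (c + 1))) ≫
        j hD 0 (c + k + 1) = Formal.smulMod A (G.obj (op (0 + (c + 1) + k))) (f ^ (c + k + 1)) ≫
          tr (show 0 + (c + k + 1) ≤ 0 + (c + 1) + k by omega) := by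
      rw [tr_tr, ← tr_tr (Nat.le_add_right 0 (c + k + 1)) (show 0 + (c + k + 1) ≤ 0 + (c + 1) + k by omega),
        Category.assoc, tr_j, FormalFun.smulMod_natural]
    have rhs : (tr (G := G) (Nat.le_add_right (0 + (c + 1)) k) ≫ tr (Nat.le_add_right 0 (c + 1))) ≫
        j hD 0 (c + 1) ≫ τ₂ = Formal.smulMod A (G.obj (op (0 + (c + 1) + k))) (f ^ (c + k + 1)) ≫
          tr (show 0 + (c + k + 1) ≤ 0 + (c + 1) + k by omega) := by
      rw [Category.assoc, ← Category.assoc (tr (Nat.le_add_right 0 (c + 1))), tr_j]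
      simp only [τ₂, ← Category.assoc]
      rw [← FormalFun.smulMod_natural, Category.assoc (Formal.smulMod A _ (f ^ (c + 1))), tr_j]
      congr 1
      rw [← CohIII.smulMod_mul, ← pow_add]
      congr 2
      omega
    exact lhs.trans rhs.symm
  · show τ₂ ≫ tr _ = tr _ ≫ j hD c k
    rw [Category.assoc, tr_tr]
    exact j_tr_comm hD (show c ≤ 0 + (c + 1) by omega) k

theorem δ_j (c k : ℕ) (x : H hD c) : δ hD (c + k) (((Model.Γf U).map (j hD c k)).hom x) = δ hD c x := by
  obtain ⟨σ, hσ₁, hσ₃⟩ := exists_σ hD c k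
  have h := δgen_natural (shortExact_S hD 0 c) (shortExact_S hD 0 (c + k)) σ x
  rw [hσ₁, hσ₃] at h
  exact h.trans (CohLin.hMap_id _ 1 _)

omit hD [IsNoetherianRing A] in
theorem exists_stable [IsNoetherianRing A] {E : Type u} [AddCommGroup E] [Module A E] (hE : Module.Finite A E)
    (P : ℕ → Submodule A E) (hP : ∀ a b, a ≤ b → P a ≤ P b) : ∃ c, ∀ n, c ≤ n → P c = P n := by
  haveI := isNoetherian_of_isNoetherianRing_of_finite A E
  exact monotone_stabilizes_iff_noetherian.mpr inferInstance ⟨P, fun a b h => hP a b h⟩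

theorem range_δ_mono (c n : ℕ) (h : c ≤ n) : LinearMap.range (δ hD c) ≤ LinearMap.range (δ hD n) := by
  obtain ⟨k, rfl⟩ := Nat.exists_eq_add_of_le h
  rintro _ ⟨x, rfl⟩
  exact ⟨_, δ_j hD c k x⟩

/-- Sections at each level, compatibly. -/
def M : Submodule A (∀ n : ℕ, H hD n) where
  carrier := {z | ∀ n, (tH hD (Nat.le_succ n)).hom (z (n + 1)) = z n}
  zero_mem' n := map_zero (tH hD (Nat.le_succ n)).hom
  add_mem' {x y} hx hy n := by rw [Pi.add_apply, Pi.add_apply, map_add, hx n, hy n]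
  smul_mem' a x hx n := by rw [Pi.smul_apply, Pi.smul_apply, map_smul, hx n]

theorem compat {z : ∀ n : ℕ, H hD n} (hz : z ∈ M hD) {a b : ℕ} (h : a ≤ b) : (tH hD h).hom (z b) = z a := by
  induction b, h using Nat.le_induction with
  | base => exact tH_self hD (z a)
  | succ b h ih => rw [← tH_tH hD h b.le_succ, hz b, ih]

/-- Sections which extend far enough extend to all levels. -/
theorem exists_lift_all (h₁ : Module.Finite A (Coh.HH (LocCoh.puncturedOpen A 𝔞 : Scheme.{u}) (G.obj (op 0)) 1)) : ∃ c : ℕ, ∀ (m : ℕ) (x : H hD (m + c + 1)),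
    ∃ z ∈ M hD, z m = (tH hD (show m ≤ m + c + 1 by omega)).hom x := by
  obtain ⟨c, hc⟩ := exists_stable h₁ (fun n => LinearMap.range (δ hD n)) (range_δ_mono hD)
  have step : ∀ (m' n : ℕ) (hn : m' + c + 1 ≤ n) (x : H hD n),
      ∃ x' : H hD (n + 1), (tH hD (show m' ≤ n + 1 by omega)).hom x' = (tH hD (show m' ≤ n by omega)).hom x := by
    intro m' n hn x
    obtain ⟨k, rfl⟩ := Nat.exists_eq_add_of_le (show c ≤ n by omega)
    obtain ⟨y, hy⟩ : δ hD (c + k) x ∈ LinearMap.range (δ hD c) := by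
      rw [hc (c + k) (by omega)]
      exact LinearMap.mem_range_self _ x
    obtain ⟨x', hx'⟩ := exists_of_δ hD (x - ((Model.Γf U).map (j hD c k)).hom y)
      (by rw [map_sub, δ_j, hy, sub_self])
    refine ⟨(tH hD (show c + k + 1 ≤ 0 + (c + k + 1) by omega)).hom x', ?_⟩
    rw [tH_tH, ← tH_tH hD (show m' ≤ c + k by omega) (show c + k ≤ 0 + (c + k + 1) by omega), hx', map_sub,
      sub_eq_self, map_comp_apply]
    obtain ⟨l, rfl⟩ := Nat.exists_eq_add_of_le (show m' + 1 ≤ k by omega)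
    have hz : j hD c (m' + 1 + l) ≫ tr (show m' ≤ c + (m' + 1 + l) by omega) = 0 := by
      haveI := epi_tr hD (G := G) (Nat.le_add_right c (m' + 1 + l))
      rw [← cancel_epi (tr (G := G) (Nat.le_add_right c (m' + 1 + l))), ← Category.assoc, tr_j, comp_zero,
        FormalFun.smulMod_natural, smul_pow_eq_zero hD (by omega), comp_zero]
    rw [hz, Functor.map_zero]
    rfl
  refine ⟨c, fun m x => ?_⟩
  choose nx hnx using fun i => step (m + i) (m + c + 1 + i) (by omega)
  let xs : ∀ i : ℕ, H hD (m + c + 1 + i) :=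
    fun i => Nat.rec (motive := fun i => H hD (m + c + 1 + i)) x (fun i y => nx i y) i
  let z : ∀ n : ℕ, H hD n := fun n => (tH hD (show n ≤ m + c + 1 + n by omega)).hom (xs n)
  have hz : z ∈ M hD := fun n => by
    show (tH hD _).hom ((tH hD _).hom (nx n (xs n))) = (tH hD _).hom (xs n)
    rw [tH_tH, ← tH_tH hD (show n ≤ m + n by omega) (show m + n ≤ m + c + 1 + (n + 1) by omega),
      ← tH_tH hD (show n ≤ m + n by omega) (show m + n ≤ m + c + 1 + n by omega)]
    exact congrArg _ (hnx n (xs n))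
  refine ⟨z, hz, ?_⟩
  have key : ∀ i, (tH hD (show m ≤ m + c + 1 + i by omega)).hom (xs i) =
      (tH hD (show m ≤ m + c + 1 by omega)).hom x := fun i => by
    induction i with
    | zero => rfl
    | succ i ih =>
      refine Eq.trans ?_ ih
      show (tH hD _).hom (nx i (xs i)) = _
      rw [← tH_tH hD (show m ≤ m + i by omega) (show m + i ≤ m + c + 1 + (i + 1) by omega),
        ← tH_tH hD (show m ≤ m + i by omega) (show m + i ≤ m + c + 1 + i by omega)]
      exact congrArg _ (hnx i (xs i))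
  exact key m

/-- The component at level `n`. -/
def μ (n : ℕ) : M hD →ₗ[A] H hD n := (LinearMap.proj n).comp (M hD).subtype

theorem torsion_coker_μ (h₁ : Module.Finite A (Coh.HH (LocCoh.puncturedOpen A 𝔞 : Scheme.{u}) (G.obj (op 0)) 1)) (n : ℕ) (x : H hD n) : ∃ m : ℕ, ∀ a ∈ 𝔞 ^ m, ∃ z, μ hD n z = a • x := by
  obtain ⟨c, hc⟩ := exists_lift_all hD h₁
  haveI := fun i => (hD.coh.1 i).1
  haveI : QuasiCompact (Scheme.Opens.ι U) := inferInstance
  haveI : Epi ((Affine.Φ U).map (tH hD (show n ≤ n + c + 1 by omega))) := by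
    haveI := epi_tr hD (G := G) (show n ≤ n + c + 1 by omega)
    haveI := Model.isIso_counit U (G.obj (op n))
    haveI := Model.isIso_counit U (G.obj (op (n + c + 1)))
    have e : (Affine.Φ U).map (tH hD (show n ≤ n + c + 1 by omega)) ≫ (Model.adj U).counit.app _ =
        (Model.adj U).counit.app _ ≫ tr (show n ≤ n + c + 1 by omega) :=
      (Model.adj U).counit.naturality (tr (G := G) (show n ≤ n + c + 1 by omega))
    rw [← IsIso.eq_comp_inv] at e
    rw [e]
    infer_instance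
  obtain ⟨m, hm⟩ := Model.exists_pow_mem_range (𝔞 := 𝔞) (tH hD (show n ≤ n + c + 1 by omega)) x
  refine ⟨m, fun a ha => ?_⟩
  obtain ⟨y, hy⟩ := hm a ha
  obtain ⟨z, hz, hzn⟩ := hc n y
  exact ⟨⟨z, hz⟩, hzn.trans hy⟩

theorem ker_μ (m : ℕ) (z : M hD) (hz : μ hD m z = 0) : ∃ w : M hD, z = f ^ (m + 1) • w := by
  have hzn : ∀ n, ((Model.Γf U).map (S hD n m).g).hom (z.1 (n + (m + 1))) = 0 := fun n =>
    (compat hD z.2 (show m ≤ n + (m + 1) by omega)).trans hz
  choose w hw using fun n => Model.Γf_exact U _ (shortExact_S hD n m) _ (hzn n)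
  have hwM : w ∈ M hD := fun n => by
    haveI := mono_j hD n (m + 1)
    apply Model.Γf_injective U (j hD n (m + 1))
    rw [map_comp_apply, ← j_tr_comm hD (Nat.le_succ n) (m + 1), ← map_comp_apply]
    refine Eq.trans ?_ (hw n).symm
    exact (congrArg _ (hw (n + 1))).trans (compat hD z.2 _)
  refine ⟨⟨w, hwM⟩, Subtype.ext (funext fun n => ?_)⟩
  show z.1 n = f ^ (m + 1) • w n
  rw [← Model.Γf_smul_apply, ← j_tr_self hD n (m + 1), ← map_comp_apply]
  exact (compat hD z.2 (Nat.le_add_right n (m + 1))).symm.trans (congrArg _ (hw n).symm)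

theorem smul_mem_ker (m : ℕ) (w : M hD) : μ hD m (f ^ (m + 1) • w) = 0 := by
  rw [map_smul, ← Model.Γf_smul_apply, smul_pow_eq_zero hD le_rfl, Functor.map_zero]
  rfl

theorem eq_zero_of_all (z : M hD) (h : ∀ k : ℕ, ∃ w : M hD, z = f ^ k • w) : z = 0 := by
  refine Subtype.ext (funext fun n => ?_)
  obtain ⟨w, hw⟩ := h (n + 1)
  show μ hD n z = 0
  rw [hw, smul_mem_ker hD]

variable [IsAdicComplete (Ideal.span ({f} : Set A)) A]

theorem finite_M (h₀ : Module.Finite A (Coh.HH (U : Scheme.{u}) (G.obj (op 0)) 0)) : Module.Finite A (M hD) := by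
  haveI hH : Module.Finite A (H hD 0) := Module.Finite.equiv (Model.θ U (G.obj (op 0)))
  let p : M hD →ₗ[A] H hD 0 := μ hD 0
  haveI : _root_.IsNoetherian A (H hD 0) := isNoetherian_of_isNoetherianRing_of_finite A _
  obtain ⟨k, v, hv⟩ := Submodule.fg_iff_exists_fin_generating_family.1 (IsNoetherian.noetherian (LinearMap.range p))
  choose l hl using fun i : Fin k => (hv ▸ Submodule.subset_span ⟨i, rfl⟩ : v i ∈ LinearMap.range p)
  let π : (Fin k → A) →ₗ[A] M hD := Fintype.linearCombination A l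
  have key : ∀ z : M hD, ∃ (a : Fin k → A) (w : M hD), z = π a + f • w := fun z => by
    have hz : p z ∈ Submodule.span A (Set.range v) := hv.symm ▸ LinearMap.mem_range_self p z
    obtain ⟨a, ha⟩ := (Submodule.mem_span_range_iff_exists_fun A).1 hz
    obtain ⟨w, hw⟩ := ker_μ hD 0 (z - π a) (by
      rw [map_sub, sub_eq_zero]
      refine ha.symm.trans ?_
      simp only [π, Fintype.linearCombination_apply, map_sum, map_smul]
      exact Finset.sum_congr rfl fun i _ => by rw [← hl i])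
    rw [zero_add, pow_one] at hw
    exact ⟨a, w, by rw [← hw]; abel⟩
  choose a w hw using key
  haveI : IsAdicComplete II (Fin k → A) := Adic.isAdicComplete_of_finite II
  refine Module.Finite.of_surjective π fun z => ?_
  let zs : ℕ → M hD := fun n => w^[n] z
  let b : ℕ → (Fin k → A) := fun n => ∑ i ∈ Finset.range n, f ^ i • a (zs i)
  have hzb : ∀ n, z = π (b n) + f ^ n • zs n := fun n => by
    induction n with
    | zero => simp [b, zs]
    | succ n ih =>
      refine ih.trans ?_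
      have e : zs (n + 1) = w (zs n) := Function.iterate_succ_apply' w n z
      conv_lhs => rw [hw (zs n)]
      simp only [b, Finset.sum_range_succ, map_add, map_smul, e, smul_add, smul_smul, pow_succ]
      abel
  obtain ⟨L, hL⟩ := IsPrecomplete.prec' (I := II) (M := Fin k → A) b (fun {m n} hmn => by
    rw [SModEq.sub_mem]
    simp only [b]
    rw [← Finset.sum_range_add_sum_Ico _ hmn, sub_add_cancel_left]
    refine Submodule.neg_mem _ (Submodule.sum_mem _ fun i hi => ?_)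
    exact Submodule.smul_mem_smul (Ideal.pow_le_pow_right (Finset.mem_Ico.1 hi).1 (Principal.pow_mem f i)) trivial)
  refine ⟨L, (sub_eq_zero.1 (eq_zero_of_all hD (z - π L) fun n => ?_)).symm⟩
  have h := SModEq.sub_mem.1 (hL n)
  obtain ⟨q, hq⟩ : ∃ q, b n - L = f ^ n • q := by
    rw [Ideal.span_singleton_pow, Submodule.ideal_span_singleton_smul] at h
    obtain ⟨q, -, hq⟩ := h
    exact ⟨q, hq.symm⟩
  refine ⟨π q + zs n, ?_⟩
  rw [smul_add, ← map_smul, ← hq, map_sub]
  conv_lhs => rw [hzb n]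
  abel

theorem exists_algebraization (h₁ : Module.Finite A (Coh.HH (LocCoh.puncturedOpen A 𝔞 : Scheme.{u}) (G.obj (op 0)) 1))
    (h₀ : Module.Finite A (Coh.HH (U : Scheme.{u}) (G.obj (op 0)) 0)) :
    ∃ F : (U : Scheme.{u}).Modules, Coh.IsCoh F ∧ Nonempty (Formal.completion II F ≅ G) := by
  haveI := finite_M hD h₀
  let P := ModuleCat.of A (M hD)
  have hF : Coh.IsCoh ((Affine.Φ U).obj P) :=
    CohDev.isCoh_of_iso ((Scheme.Modules.restrictFunctorIsoPullback (Scheme.Opens.ι U)).app _).symm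
      (ZClosLib.CohDescent.isCoh_pullback (Scheme.Opens.ι U) _
        (InjMod.isCoh_tilde_of_finite (R := CommRingCat.of A) P))
  refine ⟨_, hF, ?_⟩
  haveI := fun i => (hD.coh.1 i).1
  haveI : QuasiCompact (Scheme.Opens.ι U) := inferInstance
  haveI : ∀ n : ℕ, IsIso ((Model.adj U).counit.app (G.obj (op n))) := fun n => Model.isIso_counit U _
  let q : ∀ n : ℕ, (Affine.Φ U).obj P ⟶ G.obj (op n) := fun n =>
    (Affine.Φ U).map (ModuleCat.ofHom (μ hD n)) ≫ (Model.adj U).counit.app (G.obj (op n))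
  have hq : ∀ n, Sys.IsModQuot (II ^ (n + 1)) (q n) := fun n => by
    let K : Submodule A (M hD) := II ^ (n + 1) • ⊤
    have hK : K ≤ LinearMap.ker (μ hD n) := Submodule.smul_le.mpr fun a ha x _ => by
      rw [Ideal.span_singleton_pow, Ideal.mem_span_singleton'] at ha
      obtain ⟨c, rfl⟩ := ha
      rw [LinearMap.mem_ker, mul_smul, map_smul, smul_mem_ker hD, smul_zero]
    let l : ModuleCat.of A ((M hD) ⧸ K) ⟶ (Model.Γf U).obj (G.obj (op n)) := ModuleCat.ofHom (K.liftQ _ hK)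
    haveI : IsIso ((Affine.Φ U).map l) := Model.isIso_map l (fun x => ⟨0, fun a _ => by
        obtain ⟨x, hx⟩ := x
        obtain ⟨z, rfl⟩ := K.mkQ_surjective x
        obtain ⟨w, rfl⟩ := ker_μ hD n z hx
        refine Subtype.ext ?_
        show a • K.mkQ (f ^ (n + 1) • w) = 0
        rw [← map_smul]
        exact (Submodule.Quotient.mk_eq_zero _).2
          (Submodule.smul_mem _ _ (Submodule.smul_mem_smul (Principal.pow_mem f _) trivial))⟩)
      fun q' => by
        obtain ⟨x, rfl⟩ := Submodule.mkQ_surjective _ q'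
        obtain ⟨m, hm⟩ := torsion_coker_μ hD h₁ n x
        refine ⟨m, fun a ha => ?_⟩
        obtain ⟨z, hz⟩ := hm a ha
        rw [← map_smul]
        exact (Submodule.Quotient.mk_eq_zero _).2 ⟨K.mkQ z, hz⟩
    have h1 : Sys.IsModQuot (II ^ (n + 1)) ((Affine.Φ U).map (ModuleCat.ofHom (X := M hD) K.mkQ)) :=
      Affine.isModQuot U (M hD) f (n + 1)
    refine ModelSys.isModQuot_conj h1 (Iso.refl _)
      (asIso ((Affine.Φ U).map l ≫ (Model.adj U).counit.app (G.obj (op n)))).symm ?_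
    rw [Iso.symm_hom, Iso.refl_hom, Category.id_comp, asIso_inv, IsIso.comp_inv_eq, ← Category.assoc,
      ← Functor.map_comp]
    rfl
  obtain ⟨e, -⟩ := Sys.exists_completion_iso (G := G) _ q hq fun n => by
    show ((Affine.Φ U).map _ ≫ (Model.adj U).counit.app _) ≫ tr (Nat.le_succ n) = _
    rw [Category.assoc]
    refine (congrArg (_ ≫ ·) ((Model.adj U).counit.naturality (tr (Nat.le_succ n))).symm).trans ?_
    show (Affine.Φ U).map _ ≫ (Affine.Φ U).map ((Model.Γf U).map (tr (Nat.le_succ n))) ≫ _ = _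
    rw [← Category.assoc, ← Functor.map_comp]
    refine congrArg (· ≫ (Model.adj U).counit.app (G.obj (op n))) (congrArg (Affine.Φ U).map ?_)
    refine ModuleCat.hom_ext (LinearMap.ext fun z => ?_)
    exact z.2 n
  exact ⟨e⟩

end Groth.Agent.Formal61.PrinAlg
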