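import Groth.Agent.Formal61.LimitTrunc
import Groth.Prelude.Def_ega3

/-!
# Systems for a principal ideal
-/

set_option autoImplicit false
universe u

open CategoryTheory CategoryTheory.Limits AlgebraicGeometry Opposite

noncomputable section

namespace Groth.Agent.Formal61.Principal

variable {A : Type u} [CommRing A] {X : Scheme.{u}} [X.Over (Spec (CommRingCat.of A))] {f : A}

/-- It is enough to test the generator. -/
theorem killing_of_gen {M T : X.Modules} (φ : M ⟶ T) {m : ℕ} (h : Formal.smulMod A M (f ^ m) ≫ φ = 0) :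
    ∀ a ∈ (Ideal.span ({f} : Set A)) ^ m, Formal.smulMod A M a ≫ φ = 0 := fun a ha => by
  rw [Ideal.span_singleton_pow, Ideal.mem_span_singleton'] at ha
  obtain ⟨c, rfl⟩ := ha
  rw [mul_comm, CohIII.smulMod_mul, Category.assoc, h, comp_zero]

theorem pow_mem (f : A) (m : ℕ) : f ^ m ∈ (Ideal.span ({f} : Set A)) ^ m :=
  Ideal.pow_mem_pow (Ideal.mem_span_singleton_self f) m

theorem smulMod_pow_succ (M : X.Modules) (f : A) (m : ℕ) :
    Formal.smulMod A M (f ^ (m + 1)) = Formal.smulMod A M (f ^ m) ≫ Formal.smulMod A M f := by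
  rw [pow_succ', CohIII.smulMod_mul]

theorem smulMod_pow_succ' (M : X.Modules) (f : A) (m : ℕ) :
    Formal.smulMod A M (f ^ (m + 1)) = Formal.smulMod A M f ≫ Formal.smulMod A M (f ^ m) := by
  rw [pow_succ, CohIII.smulMod_mul]

section System

variable {G : ℕᵒᵖ ⥤ X.Modules}
  (h1 : ∀ n : ℕ, ∃ i : G.obj (op n) ⟶ G.obj (op (n + 1)), Mono i ∧
    G.map (homOfLE (Nat.le_succ n)).op ≫ i = Formal.smulMod A (G.obj (op (n + 1))) f ∧
    ∃ w : i ≫ G.map (homOfLE (Nat.zero_le (n + 1))).op = 0,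
      (ShortComplex.mk i (G.map (homOfLE (Nat.zero_le (n + 1))).op) w).ShortExact)

theorem map_zero_le_succ (G : ℕᵒᵖ ⥤ X.Modules) (n : ℕ) :
    G.map (homOfLE (Nat.le_succ n)).op ≫ G.map (homOfLE (Nat.zero_le n)).op =
      G.map (homOfLE (Nat.zero_le (n + 1))).op := by
  rw [← Functor.map_comp, ← op_comp, homOfLE_comp]

include h1

theorem killedBy (n : ℕ) : Formal.KilledBy ((Ideal.span ({f} : Set A)) ^ (n + 1)) (G.obj (op n)) := by
  intro a ha
  have key : Formal.smulMod A (G.obj (op n)) (f ^ (n + 1)) = 0 := by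
    induction n generalizing a with
    | zero =>
      obtain ⟨i, _, hi, w, hS⟩ := h1 0
      haveI : Epi (G.map (homOfLE (Nat.zero_le 1)).op) := hS.epi_g
      rw [zero_add, pow_one, ← cancel_epi (G.map (homOfLE (Nat.zero_le 1)).op), comp_zero,
        ← FormalFun.smulMod_natural, ← hi, Category.assoc, w, comp_zero]
    | succ n ih =>
      obtain ⟨i, _, hi, -⟩ := h1 n
      rw [smulMod_pow_succ, ← hi, ← Category.assoc, FormalFun.smulMod_natural,
        ih (f ^ (n + 1)) (pow_mem f (n + 1)), comp_zero, zero_comp]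
  have h' : Formal.smulMod A (G.obj (op n)) (f ^ (n + 1)) ≫ 𝟙 _ = 0 := by rw [key, zero_comp]
  exact (Category.comp_id _).symm.trans (killing_of_gen (𝟙 _) h' a ha)

theorem comp_transition (n : ℕ) (i : G.obj (op n) ⟶ G.obj (op (n + 1))) [Mono i]
    (hi : G.map (homOfLE (Nat.le_succ n)).op ≫ i = Formal.smulMod A (G.obj (op (n + 1))) f) :
    i ≫ G.map (homOfLE (Nat.le_succ n)).op = Formal.smulMod A (G.obj (op n)) f := by
  rw [← cancel_mono i, Category.assoc, hi, FormalFun.smulMod_natural]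

theorem epi_transition (n : ℕ) : Epi (G.map (homOfLE (Nat.le_succ n)).op) := by
  induction n with
  | zero =>
    obtain ⟨i, _, _, w, hS⟩ := h1 0
    exact hS.epi_g
  | succ n ih =>
    obtain ⟨i, _, hi, w, hS⟩ := h1 n
    obtain ⟨i', _, hi', w', hS'⟩ := h1 (n + 1)
    haveI := ih
    haveI : Epi (G.map (homOfLE (Nat.zero_le (n + 1 + 1))).op) := hS'.epi_g
    refine Preadditive.epi_of_cancel_zero _ fun {Z} φ hφ => ?_
    have h3 : i ≫ φ = 0 := by
      rw [← cancel_epi (G.map (homOfLE (Nat.le_succ n)).op), ← Category.assoc, hi,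
        ← comp_transition h1 (n + 1) i' hi', Category.assoc, hφ, comp_zero, comp_zero]
    haveI : Epi (G.map (homOfLE (Nat.zero_le (n + 1))).op) := hS.epi_g
    obtain ⟨χ, hχ⟩ := CokernelCofork.IsColimit.desc' hS.gIsCokernel φ h3
    have h4 : G.map (homOfLE (Nat.zero_le (n + 1 + 1))).op ≫ χ = 0 := by
      rw [← map_zero_le_succ, Category.assoc]
      exact (congrArg (_ ≫ ·) hχ).trans hφ
    rw [← hχ, zero_of_epi_comp _ h4, comp_zero]

theorem kernel_le (n : ℕ) {Z : X.Modules} (φ : G.obj (op (n + 1)) ⟶ Z)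
    (hφ : Formal.smulMod A (G.obj (op (n + 1))) (f ^ (n + 1)) ≫ φ = 0) {T : X.Modules} (k : T ⟶ G.obj (op (n + 1)))
    (hk : k ≫ G.map (homOfLE (Nat.le_succ n)).op = 0) : k ≫ φ = 0 := by
  induction n generalizing Z T with
  | zero =>
    obtain ⟨i, _, hi, w, hS⟩ := h1 0
    haveI := epi_transition h1 0
    rw [show f ^ (0 + 1) = f from pow_one f, ← hi, Category.assoc] at hφ
    have h3 : i ≫ φ = 0 := zero_of_epi_comp _ hφ
    haveI : Mono i := ‹_›
    obtain ⟨k', hk'⟩ := KernelFork.IsLimit.lift' hS.fIsKernel k hk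
    rw [← hk', Category.assoc]
    exact (congrArg (k' ≫ ·) h3).trans comp_zero
  | succ n ih =>
    obtain ⟨i, hmono, hi, w, hS⟩ := h1 (n + 1)
    obtain ⟨i₀, hmono₀, hi₀, -⟩ := h1 n
    haveI := epi_transition h1 (n + 1)
    have hk0 : k ≫ G.map (homOfLE (Nat.zero_le (n + 1 + 1))).op = 0 := by
      rw [← map_zero_le_succ, ← Category.assoc, hk, zero_comp]
    obtain ⟨k', hk'⟩ := KernelFork.IsLimit.lift' hS.fIsKernel k hk0
    change k' ≫ i = k at hk'
    have hk2 : k' ≫ G.map (homOfLE (Nat.le_succ n)).op = 0 := by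
      rw [← cancel_mono i₀, Category.assoc, hi₀, ← comp_transition h1 (n + 1) i hi, ← Category.assoc, hk', hk,
        zero_comp]
    have hφ' : Formal.smulMod A (G.obj (op (n + 1))) (f ^ (n + 1)) ≫ i ≫ φ = 0 := by
      rw [← cancel_epi (G.map (homOfLE (Nat.le_succ (n + 1))).op), comp_zero, ← Category.assoc,
        ← FormalFun.smulMod_natural, Category.assoc, ← Category.assoc _ i φ, hi, ← Category.assoc,
        ← smulMod_pow_succ, hφ]
    rw [← hk', Category.assoc]
    exact ih (i ≫ φ) hφ' k' hk2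

theorem isModQuot_transition (n : ℕ) :
    Sys.IsModQuot ((Ideal.span ({f} : Set A)) ^ (n + 1)) (G.map (homOfLE (Nat.le_succ n)).op) := by
  haveI := epi_transition h1 n
  refine Sys.IsModQuot.mk' ((Sys.smulFamily_comp_eq_zero_iff _).1 (Sys.comp_eq_zero_of_killedBy (killedBy h1 n) _))
    fun Z φ hφ => ?_
  exact ⟨_, (CokernelCofork.IsColimit.desc' (Abelian.epiIsCokernelOfKernel
    (KernelFork.ofι _ (kernel.condition (G.map (homOfLE (Nat.le_succ n)).op))) (kernelIsKernel _)) φ
      (kernel_le h1 n φ (hφ _ (pow_mem f (n + 1))) _ (kernel.condition _))).2⟩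

theorem exists_torsionFree_completion (hqc : ∀ n : ℕᵒᵖ, Coh.IsQCoh (G.obj n)) :
    ∃ F : X.Modules, Mono (Formal.smulMod A F f) ∧
      Nonempty (Formal.completion (Ideal.span ({f} : Set A)) F ≅ G) := by
  have hG : Formal2.IsQCohFormal (Ideal.span ({f} : Set A)) G :=
    ⟨fun n => hqc _, killedBy h1, isModQuot_transition h1⟩
  obtain ⟨e, -⟩ := Sys.exists_completion_iso (limit G) (fun n => limit.π G (op n))
    (LimitTrunc.isModQuot_π hG ⟨{f}, by simp⟩) (fun n => limit.w G _)
  refine ⟨limit G, Preadditive.mono_of_cancel_zero _ fun {T} a ha => limit.hom_ext fun ⟨n⟩ => ?_, ⟨e⟩⟩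
  obtain ⟨i, hmono, hi, -⟩ := h1 n
  rw [zero_comp, ← limit.w G (homOfLE (Nat.le_succ n)).op, ← cancel_mono i, zero_comp, Category.assoc,
    Category.assoc, hi, ← FormalFun.smulMod_natural, ← Category.assoc, ha, zero_comp]

end System

/-- The sequence `F/fF → F/f^(n+1)F → F/f^nF` for torsion free `F`. -/
theorem exists_shortExact (F : X.Modules) (hF : Mono (Formal.smulMod A F f)) (n : ℕ) :
    ∃ i : Formal.modPow (Ideal.span ({f} : Set A)) 1 F ⟶ Formal.modPow (Ideal.span ({f} : Set A)) (n + 1) F,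
      Mono i ∧ Formal2.modPowLE (Ideal.span ({f} : Set A)) (Nat.le_add_left 1 n) F ≫ i =
        Formal.smulMod A (Formal.modPow (Ideal.span ({f} : Set A)) (n + 1) F) (f ^ n) ∧
      ∃ w : i ≫ Formal.modPowTrans (Ideal.span ({f} : Set A)) n F = 0,
        (ShortComplex.mk i (Formal.modPowTrans (Ideal.span ({f} : Set A)) n F) w).ShortExact := by
  let I := Ideal.span ({f} : Set A)
  let π := fun m => Formal.modPowπ I m F
  let s := fun m => Formal.smulMod A F (f ^ m)
  have hπ : ∀ m, Sys.IsModQuot (I ^ m) (π m) := fun m => Sys.isModQuot_modPowπ I m F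
  haveI : ∀ m, Epi (π m) := fun m => (hπ m).epi
  have hmono : ∀ m, Mono (s m) := fun m => by
    induction m with
    | zero =>
      show Mono (Formal.smulMod A F (f ^ 0))
      rw [pow_zero, FormalFun.smulMod_one]
      infer_instance
    | succ m ih =>
      show Mono (Formal.smulMod A F (f ^ (m + 1)))
      rw [smulMod_pow_succ]
      exact @mono_comp _ _ _ _ _ _ ih _ hF
  have hcok : ∀ m, ∃ w : s m ≫ π m = 0, Nonempty (IsColimit (CokernelCofork.ofπ (π m) w)) := fun m =>
    ⟨(hπ m).condition _ (pow_mem f m), ⟨CokernelCofork.IsColimit.ofπ' _ _ fun {Z} φ hφ =>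
      ⟨_, ((hπ m).exists_desc φ (killing_of_gen φ hφ)).choose_spec⟩⟩⟩
  have hex : ∀ m, (ShortComplex.mk (s m) (π m) (hcok m).choose).Exact := fun m =>
    ShortComplex.exact_of_g_is_cokernel _ (hcok m).choose_spec.some
  obtain ⟨i, hi⟩ := (hπ 1).exists_desc (s n ≫ π (n + 1)) (killing_of_gen _ (by
    rw [pow_one, ← Category.assoc, ← smulMod_pow_succ']
    exact (hπ (n + 1)).condition _ (pow_mem f (n + 1))))
  have hm : Mono i := by
    refine Preadditive.mono_of_cancel_zero _ fun {T} a ha => ?_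
    obtain ⟨T', p, hp, x, hx⟩ := surjective_up_to_refinements_of_epi (π 1) a
    obtain ⟨T'', q, hq, y, hy⟩ := (hex (n + 1)).exact_up_to_refinements (x ≫ s n) (by
      show (x ≫ s n) ≫ π (n + 1) = 0
      rw [Category.assoc, ← hi, ← Category.assoc, ← hx, Category.assoc, ha, comp_zero])
    have h2 : q ≫ x = y ≫ s 1 := by
      haveI := hmono n
      rw [← cancel_mono (s n), Category.assoc, hy, Category.assoc]
      show y ≫ Formal.smulMod A F (f ^ (n + 1)) = y ≫ Formal.smulMod A F (f ^ 1) ≫ _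
      rw [smulMod_pow_succ', pow_one]
    rw [← cancel_epi p, ← cancel_epi q, hx, ← Category.assoc, h2, Category.assoc, comp_zero, comp_zero]
    exact (congrArg (y ≫ ·) (hcok 1).choose).trans comp_zero
  refine ⟨i, hm, ?_, ?_⟩
  · refine (cancel_epi (π (n + 1))).1 ?_
    rw [← Category.assoc]
    refine (congrArg (· ≫ i) (Formal2.modPowπ_modPowLE I (Nat.le_add_left 1 n) F)).trans (hi.trans ?_)
    exact FormalFun.smulMod_natural _ _
  · have w : i ≫ Formal.modPowTrans I n F = 0 := by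
      refine (cancel_epi (π 1)).1 ?_
      rw [← Category.assoc, hi, Category.assoc, Formal.modPowπ_trans, comp_zero]
      exact (hcok n).choose
    haveI : Epi (Formal.modPowTrans I n F) := by
      refine epi_of_epi_fac (f := π (n + 1)) (h := π n) ?_
      exact Formal.modPowπ_trans I n F
    refine ⟨w, ⟨ShortComplex.exact_of_g_is_cokernel _ (CokernelCofork.IsColimit.ofπ' _ _ fun {Z} φ hφ => ?_)⟩⟩
    have h3 : s n ≫ π (n + 1) ≫ φ = 0 := by
      rw [← Category.assoc, ← hi, Category.assoc]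
      exact (congrArg (π 1 ≫ ·) hφ).trans comp_zero
    have hx := (hπ n).exists_desc (π (n + 1) ≫ φ) (killing_of_gen _ h3)
    refine ⟨hx.choose, (cancel_epi (π (n + 1))).1 ?_⟩
    rw [← Category.assoc]
    exact (congrArg (· ≫ hx.choose) (Formal.modPowπ_trans I n F)).trans hx.choose_spec

end Groth.Agent.Formal61.Principal
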