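import Groth.Agent.Formal61.LimTors
import Groth.Agent.CohLin.Basic
import Groth.Agent.FormalFun.GrCoh

/-!
# `(H^p(X, F)/I^n)` and `(H^p(X, F/I^nF))` are pro-isomorphic when the `H^p(X, F)` are finite
-/

set_option autoImplicit false
universe u

open CategoryTheory CategoryTheory.Limits AlgebraicGeometry Opposite TopologicalSpace

noncomputable section

namespace Groth.Agent.Formal61.ProFin

variable {A : Type u} [CommRing A] {X : Scheme.{u}} [X.Over (Spec (CommRingCat.of A))]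

section torsion

variable [IsNoetherianRing A] [AlgebraicGeometry.IsNoetherian X]

/-- Bounded torsion on a coherent module. -/
theorem exists_torsion_bound {Q : X.Modules} (hQ : Coh.IsCoh Q) (f : A) :
    ∃ c : ℕ, ∀ (b : ℕ) (T : X.Modules) (x : T ⟶ Q),
      x ≫ Formal.smulMod A Q (f ^ b) = 0 → x ≫ Formal.smulMod A Q (f ^ c) = 0 := by
  classical
  haveI := hQ.1
  haveI := hQ.2
  obtain ⟨σ, hσfin, hσ⟩ := (isCompact_iff_finite_and_eq_biUnion_affineOpens (U := (⊤ : X.Opens))).mp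
    (show IsCompact ((⊤ : X.Opens) : Set X) by rw [Opens.coe_top]; exact isCompact_univ)
  haveI := hσfin.to_subtype
  have hbd : ∀ i : σ, ∃ c, ∀ (b : ℕ) (s : Γ(Q, i.1.1)),
      FormalFun.gA (A := A) i.1.1 (f ^ b) • s = 0 → FormalFun.gA (A := A) i.1.1 (f ^ c) • s = 0 := fun i => by
    haveI : IsNoetherianRing Γ(X, i.1.1) := IsLocallyNoetherian.component_noetherian i.1
    haveI : Module.Finite Γ(X, i.1.1) Γ(Q, i.1.1) := QCoh.finite_sections_of_isFiniteType _ i.1.2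
    let r := FormalFun.gA (A := A) i.1.1 f
    let S : ℕ →o Submodule Γ(X, i.1.1) Γ(Q, i.1.1) :=
      ⟨fun j => LinearMap.ker (LinearMap.lsmul Γ(X, i.1.1) Γ(Q, i.1.1) (r ^ j)), fun a b hab z hz => by
        obtain ⟨d, rfl⟩ := Nat.exists_eq_add_of_le hab
        rw [LinearMap.mem_ker, LinearMap.lsmul_apply] at hz ⊢
        rw [pow_add, mul_comm, mul_smul, hz, smul_zero]⟩
    haveI : _root_.IsNoetherian Γ(X, i.1.1) Γ(Q, i.1.1) := isNoetherian_of_isNoetherianRing_of_finite _ _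
    obtain ⟨c, hc⟩ := monotone_stabilizes_iff_noetherian.mpr inferInstance S
    refine ⟨c, fun b s hs => ?_⟩
    rw [map_pow] at hs ⊢
    have h1 : s ∈ S (b + c) := by
      show (r ^ (b + c)) • s = 0
      rw [add_comm, pow_add, mul_smul, hs, smul_zero]
    rw [← hc (b + c) (Nat.le_add_left c b)] at h1
    exact h1
  choose cf hcf using hbd
  obtain ⟨c, hc⟩ := Finite.exists_le cf
  refine ⟨c, fun b T x hx => ?_⟩
  refine Scheme.Modules.hom_ext _ _ fun W => ?_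
  ext z
  show (x ≫ Formal.smulMod A Q (f ^ c)).app W z = 0
  have hcov : ∀ p : W, ∃ (i : σ) (g : Γ(X, i.1.1)), X.basicOpen g ≤ W ∧ p.1 ∈ X.basicOpen g := fun p => by
    have : p.1 ∈ (⊤ : X.Opens) := trivial
    rw [hσ] at this
    obtain ⟨i, hi, hpi⟩ : ∃ i ∈ σ, p.1 ∈ i.1 := by simpa [Opens.mem_iSup] using this
    obtain ⟨g, hg, hpg⟩ := i.2.exists_basicOpen_le p hpi
    exact ⟨⟨i, hi⟩, g, hg, hpg⟩
  choose i g hgW hpg using hcov
  refine TopCat.Sheaf.eq_of_locally_eq' ⟨Q.presheaf, Q.isSheaf⟩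
    (fun p : W => X.basicOpen (g p)) W (fun p => homOfLE (hgW p))
    (fun p hp => Opens.mem_iSup.2 ⟨⟨p, hp⟩, hpg ⟨p, hp⟩⟩) _ _ fun p => ?_
  refine Eq.trans ?_ (map_zero (Q.presheaf.map (homOfLE (hgW p)).op).hom).symm
  refine (ConcreteCategory.congr_hom ((x ≫ Formal.smulMod A Q (f ^ c)).mapPresheaf.naturality (homOfLE (hgW p)).op) z).symm.trans ?_
  let V := X.basicOpen (g p)
  let y : Γ(Q, V) := x.app V (T.presheaf.map (homOfLE (hgW p)).op z)
  show FormalFun.gA (A := A) V (f ^ c) • y = 0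
  have hy : FormalFun.gA (A := A) V (f ^ b) • y = 0 := congr($(hx).app V (T.presheaf.map (homOfLE (hgW p)).op z))
  have hloc : QCoh.IsLocalizingAt Q (g p) := QCoh.isLocalizingAt _ (i p).1.2 (g p)
  obtain ⟨e, s, hs⟩ := hloc.surj y
  obtain ⟨e', he'⟩ := hloc.eq_zero (FormalFun.gA (A := A) (i p).1.1 (f ^ b) • s) (by
    rw [QCoh.res_smul, LimTors.res_gA, hs, smul_comm, hy, smul_zero])
  have h1 := hcf (i p) b (g p ^ e' • s) (by rw [smul_comm]; exact he')
  have h2 : FormalFun.gA (A := A) (i p).1.1 (f ^ c) • (g p ^ e' • s) = 0 := by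
    rw [← Nat.sub_add_cancel (hc (i p)), pow_add, map_mul, mul_smul, h1, smul_zero]
  have h3 := congrArg (QCoh.res Q (X.basicOpen_le (g p))) h2
  rw [map_zero, QCoh.res_smul, LimTors.res_gA, QCoh.res_smul, map_pow (QCoh.rres (X.basicOpen_le (g p))).hom,
    hs, smul_smul ((QCoh.rres (X.basicOpen_le (g p))) (g p) ^ e'), ← pow_add, smul_comm] at h3
  have hu : IsUnit (QCoh.rres (X.basicOpen_le (g p)) (g p)) :=
    (X.toLocallyRingedSpace.toRingedSpace.isUnit_res_basicOpen (g p))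
  exact (hu.pow (e' + e)).smul_eq_zero.1 h3

end torsion

variable (F : X.Modules)

/-- `F/JF`. -/
abbrev Q (J : Ideal A) : X.Modules := cokernel (Formal.smulFamily J F)

/-- The projection. -/
abbrev q (J : Ideal A) : F ⟶ Q F J := cokernel.π (Formal.smulFamily J F)

theorem isModQuot_q (J : Ideal A) : Sys.IsModQuot J (q F J) :=
  Sys.IsModQuot.mk' (fun a ha => FormalFun.smulMod_comp_π F ha) fun _ φ hφ =>
    ⟨cokernel.desc _ φ ((Sys.smulFamily_comp_eq_zero_iff φ).2 hφ), cokernel.π_desc _ _ _⟩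

/-- `F/KF ⟶ F/JF`. -/
def le {K J : Ideal A} (h : K ≤ J) : Q F K ⟶ Q F J :=
  cokernel.desc _ (q F J) (Formal.smulFamily_π_of_le h F)

theorem q_le {K J : Ideal A} (h : K ≤ J) : q F K ≫ le F h = q F J := cokernel.π_desc _ _ _

theorem le_le {L K J : Ideal A} (h : L ≤ K) (h' : K ≤ J) : le F h ≫ le F h' = le F (h.trans h') := by
  rw [← cancel_epi (q F L), ← Category.assoc, q_le, q_le, q_le]

theorem hMap_q_le {K J : Ideal A} (h : K ≤ J) (p : ℕ) (x : Coh.HH X F p) :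
    CohLin.hMap (le F h) p (CohLin.hMap (q F K) p x) = CohLin.hMap (q F J) p x := by
  rw [← CohLin.hMap_comp, q_le]

theorem hMap_le_le {L K J : Ideal A} (h : L ≤ K) (h' : K ≤ J) (p : ℕ) (x : Coh.HH X (Q F L) p) :
    CohLin.hMap (le F h') p (CohLin.hMap (le F h) p x) = CohLin.hMap (le F (h.trans h')) p x := by
  rw [← CohLin.hMap_comp, le_le]

theorem hMap_smul {M N : X.Modules} (φ : M ⟶ N) (a : A) (p : ℕ) (x : Coh.HH X M p) :
    CohLin.hMap φ p (a • x) = a • CohLin.hMap φ p x := by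
  rw [← FormalFun.hMap_smulMod, ← CohLin.hMap_comp, FormalFun.smulMod_natural, CohLin.hMap_comp,
    FormalFun.hMap_smulMod]

theorem hMap_q_smul {J : Ideal A} (p : ℕ) {x : Coh.HH X F p}
    (hx : x ∈ J • (⊤ : Submodule A (Coh.HH X F p))) : CohLin.hMap (q F J) p x = 0 := by
  refine Submodule.smul_induction_on hx (fun a ha z _ => ?_) fun u v hu hv => by rw [map_add, hu, hv, add_zero]
  rw [← FormalFun.hMap_smulMod, ← CohLin.hMap_comp, FormalFun.smulMod_comp_π F ha]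
  exact map_zero (CohLin.hMapHom _ _ p z)

/-- Kernels of `H^p(F) → H^p(F/J^mF)` are small. -/
def PI (J : Ideal A) : Prop := ∀ p n : ℕ, ∃ m : ℕ, n ≤ m ∧ ∀ x : Coh.HH X F p,
  CohLin.hMap (q F (J ^ m)) p x = 0 → x ∈ J ^ n • (⊤ : Submodule A (Coh.HH X F p))

/-- Images of `H^p(F/J^mF) → H^p(F/J^nF)` come from `H^p(F)`. -/
def PII (J : Ideal A) : Prop := ∀ p n : ℕ, ∃ (m : ℕ) (h : n ≤ m), ∀ x : Coh.HH X (Q F (J ^ m)) p,
  ∃ y : Coh.HH X F p, CohLin.hMap (q F (J ^ n)) p y = CohLin.hMap (le F (Ideal.pow_le_pow_right h)) p x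

theorem base : PI F (⊥ : Ideal A) ∧ PII F (⊥ : Ideal A) := by
  have hiso : IsIso (q F (⊥ : Ideal A)) := (isModQuot_q F ⊥).isIso fun a ha => by
    rw [(Submodule.mem_bot A).1 ha, FormalFun.smulMod_zero]
  refine ⟨fun p n => ⟨n + 1, Nat.le_succ n, fun x hx => ?_⟩, fun p n => ⟨n + 1, Nat.le_succ n, fun x => ?_⟩⟩
  · have hz : x = 0 := by
      have e : (⊥ : Ideal A) ^ (n + 1) = ⊥ := Submodule.bot_pow (Nat.succ_ne_zero n) |>.trans rfl
      have hiso' : IsIso (q F ((⊥ : Ideal A) ^ (n + 1))) := by rw [e]; exact hiso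
      have := congrArg (CohLin.hMap (inv (q F ((⊥ : Ideal A) ^ (n + 1)))) p) hx
      rwa [← CohLin.hMap_comp, IsIso.hom_inv_id, CohLin.hMap_id, map_zero] at this
    rw [hz]
    exact zero_mem _
  · have e : (⊥ : Ideal A) ^ (n + 1) = ⊥ := Submodule.bot_pow (Nat.succ_ne_zero n) |>.trans rfl
    have hiso' : IsIso (q F ((⊥ : Ideal A) ^ (n + 1))) := by rw [e]; exact hiso
    refine ⟨CohLin.hMap (inv (q F ((⊥ : Ideal A) ^ (n + 1)))) p x, ?_⟩
    rw [← CohLin.hMap_comp]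
    refine congrArg (fun φ => CohLin.hMap φ p x) ?_
    rw [IsIso.inv_comp_eq, q_le]

variable [IsNoetherianRing A] [AlgebraicGeometry.IsNoetherian X]

/-- The sequence `0 → kernel → F/KF → F/LF → 0`. -/
abbrev Sq {K L : Ideal A} (h : K ≤ L) : ShortComplex X.Modules :=
  ShortComplex.mk (kernel.ι (le F h)) (le F h) (kernel.condition _)

omit [IsNoetherianRing A] [AlgebraicGeometry.IsNoetherian X] in
theorem epi_le {K L : Ideal A} (h : K ≤ L) : Epi (le F h) := epi_of_epi_fac (q_le F h)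

omit [IsNoetherianRing A] [AlgebraicGeometry.IsNoetherian X] in
theorem shortExact_Sq {K L : Ideal A} (h : K ≤ L) : (Sq F h).ShortExact :=
  { exact := ShortComplex.exact_of_f_is_kernel _ (kernelIsKernel _)
    mono_f := inferInstanceAs (Mono (kernel.ι (le F h)))
    epi_g := epi_le F h }

/-- Up to bounded torsion the kernel of `F/KF → F/(K + f^b)F` is `F/KF` multiplied by `f^b`. -/
theorem exists_ψ (hF : ∀ K : Ideal A, Coh.IsCoh (Q F K)) (K : Ideal A) (f : A) :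
    ∃ c : ℕ, ∀ b : ℕ, c ≤ b → ∀ (L : Ideal A) (h : K ≤ L), L = K ⊔ Ideal.span {f ^ b} →
      ∃ ψ : kernel (le F h) ⟶ Q F K, ψ ≫ Formal.smulMod A (Q F K) (f ^ (b - c)) = kernel.ι (le F h) := by
  obtain ⟨c, hc⟩ := exists_torsion_bound (hF K) f
  refine ⟨c, fun b hb L h hL => ?_⟩
  let π : Q F K ⟶ Q F L := le F h
  haveI : Epi π := epi_le F h
  have hπ : Sys.IsModQuot L π :=
    Sys.IsModQuot.of_comp (π := q F K) (by rw [q_le]; exact isModQuot_q F _)
  have hD : Formal.smulMod A (Q F K) (f ^ b) ≫ π = 0 :=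
    hπ.condition _ (hL ▸ Ideal.mem_sup_right (Ideal.mem_span_singleton_self _))
  have hex : (ShortComplex.mk (Formal.smulMod A (Q F K) (f ^ b)) π hD).Exact := by
    refine ShortComplex.exact_of_g_is_cokernel _ (CokernelCofork.IsColimit.ofπ' _ _ fun {Z} φ hφ => ?_)
    have hq := hπ.exists_desc φ fun a ha => by
      rw [hL] at ha
      obtain ⟨u, hu, v, hv, rfl⟩ := Submodule.mem_sup.1 ha
      obtain ⟨w, rfl⟩ := Ideal.mem_span_singleton'.1 hv
      rw [FormalFun.smulMod_add, Preadditive.add_comp, (isModQuot_q F K).killedBy u hu, zero_comp, zero_add,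
        mul_comm, CohIII.smulMod_mul, Category.assoc]
      exact (congrArg (Formal.smulMod A (Q F K) w ≫ ·) hφ).trans comp_zero
    exact ⟨hq.choose, hq.choose_spec⟩
  let p : Q F K ⟶ kernel π := kernel.lift π (Formal.smulMod A (Q F K) (f ^ b)) hD
  haveI : Epi p := hex.epi_kernelLift
  have hker : kernel.ι p ≫ Formal.smulMod A (Q F K) (f ^ c) = 0 := hc b _ _ (by
    rw [← kernel.lift_ι π (Formal.smulMod A (Q F K) (f ^ b)) hD, ← Category.assoc, kernel.condition, zero_comp])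
  refine ⟨Abelian.epiDesc p _ hker, ?_⟩
  rw [← cancel_epi p, ← Category.assoc, Abelian.comp_epiDesc, kernel.lift_ι, ← CohIII.smulMod_mul, ← pow_add,
    Nat.sub_add_cancel hb]

theorem hMap_ψ {K L : Ideal A} {h : K ≤ L} {a : A} {ψ : kernel (le F h) ⟶ Q F K}
    (hψ : ψ ≫ Formal.smulMod A (Q F K) a = kernel.ι (le F h)) (p : ℕ) (z : Coh.HH X (kernel (le F h)) p) :
    a • CohLin.hMap ψ p z = CohLin.hMap (kernel.ι (le F h)) p z := by
  rw [← FormalFun.hMap_smulMod, ← CohLin.hMap_comp, hψ]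

omit [IsNoetherianRing A] [AlgebraicGeometry.IsNoetherian X] in
theorem sup_pow_le (J : Ideal A) (f : A) (a b : ℕ) :
    (J ⊔ Ideal.span {f}) ^ (a + b) ≤ J ^ a ⊔ Ideal.span {f ^ b} := by
  refine Ideal.sup_pow_add_le_pow_sup_pow.trans ?_
  rw [Ideal.span_singleton_pow]

omit [IsNoetherianRing A] [AlgebraicGeometry.IsNoetherian X] in
theorem le_sup_pow (J : Ideal A) (f : A) (n : ℕ) : J ^ n ⊔ Ideal.span {f ^ n} ≤ (J ⊔ Ideal.span {f}) ^ n :=
  sup_le (Ideal.pow_right_mono le_sup_left n) ((Ideal.span_singleton_le_iff_mem _).2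
    (Ideal.pow_mem_pow (Ideal.mem_sup_right (Ideal.mem_span_singleton_self f)) n))

theorem stepI (hF : ∀ K : Ideal A, Coh.IsCoh (Q F K)) (J : Ideal A) (hI : PI F J) (hII : PII F J) (f : A) :
    PI F (J ⊔ Ideal.span {f}) := by
  intro p n
  obtain ⟨n', hn', hker⟩ := hI p n
  obtain ⟨a, ha, him⟩ := hII p n'
  obtain ⟨c, hc⟩ := exists_ψ F hF (J ^ a) f
  refine ⟨a + (c + n), by omega, fun x hx => ?_⟩
  have hKL : J ^ a ≤ J ^ a ⊔ Ideal.span {f ^ (c + n)} := le_sup_left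
  obtain ⟨ψ, hψ⟩ := hc (c + n) (Nat.le_add_right c n) _ hKL rfl
  rw [Nat.add_sub_cancel_left] at hψ
  have h0 : CohLin.hMap (le F hKL) p (CohLin.hMap (q F (J ^ a)) p x) = 0 := by
    rw [hMap_q_le, ← hMap_q_le F (sup_pow_le J f a (c + n)), hx, map_zero]
  obtain ⟨z, hz⟩ := CohLin.exists_hMap_f_eq (shortExact_Sq F hKL) (CohLin.hMap (q F (J ^ a)) p x) h0
  obtain ⟨y, hy⟩ := him (CohLin.hMap ψ p z)
  have h1 : CohLin.hMap (q F (J ^ n')) p (x - f ^ n • y) = 0 := by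
    rw [map_sub, hMap_smul, hy, ← hMap_smul, hMap_ψ F hψ]
    rw [show CohLin.hMap (kernel.ι (le F hKL)) p z = CohLin.hMap (q F (J ^ a)) p x from hz, hMap_q_le, sub_self]
  have h2 := hker _ h1
  have h3 : f ^ n • y ∈ (J ⊔ Ideal.span {f}) ^ n • (⊤ : Submodule A (Coh.HH X F p)) :=
    Submodule.smul_mem_smul (Ideal.pow_mem_pow (Ideal.mem_sup_right (Ideal.mem_span_singleton_self f)) n) trivial
  have h4 := Submodule.add_mem _ (Submodule.smul_mono_left (Ideal.pow_right_mono (le_sup_left : J ≤ J ⊔ Ideal.span {f}) n) h2) h3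
  rwa [sub_add_cancel] at h4

theorem stepII (hF : ∀ K : Ideal A, Coh.IsCoh (Q F K)) (hfin : ∀ p, Module.Finite A (Coh.HH X F p))
    (J : Ideal A) (hI : PI F J) (hII : PII F J) (f : A) : PII F (J ⊔ Ideal.span {f}) := by
  intro p n
  obtain ⟨n₁, hn₁, him₁⟩ := hII p n
  haveI := hfin (p + 1)
  let P : Submodule A (Coh.HH X F (p + 1)) := J ^ n₁ • ⊤
  let S : ℕ →o Submodule A (Coh.HH X F (p + 1)) :=
    ⟨fun e => P.comap (LinearMap.lsmul A _ (f ^ e)), fun a b hab z hz => by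
      obtain ⟨d, rfl⟩ := Nat.exists_eq_add_of_le hab
      rw [Submodule.mem_comap, LinearMap.lsmul_apply] at hz ⊢
      rw [pow_add, mul_comm, mul_smul]
      exact P.smul_mem _ hz⟩
  haveI : _root_.IsNoetherian A (Coh.HH X F (p + 1)) := isNoetherian_of_isNoetherianRing_of_finite _ _
  obtain ⟨c', hc'⟩ := monotone_stabilizes_iff_noetherian.mpr inferInstance S
  obtain ⟨n', hn', hker⟩ := hI (p + 1) n₁
  obtain ⟨a, ha, him⟩ := hII (p + 1) n'
  obtain ⟨c, hc⟩ := exists_ψ F hF (J ^ a) f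
  refine ⟨a + (c + c' + n), by omega, fun x => ?_⟩
  let b := c + c' + n
  let L := J ^ a ⊔ Ideal.span {f ^ b}
  let L₁ := J ^ n₁ ⊔ Ideal.span {f ^ n}
  have hKL : J ^ a ≤ L := le_sup_left
  have hKL₁ : J ^ n₁ ≤ L₁ := le_sup_left
  obtain ⟨ψ, hψ⟩ := hc b (by omega) L hKL rfl
  have hKK : J ^ a ≤ J ^ n₁ := Ideal.pow_le_pow_right (by omega)
  have hKn' : J ^ a ≤ J ^ n' := Ideal.pow_le_pow_right ha
  have hLL : L ≤ L₁ := sup_le (hKK.trans le_sup_left) ((Ideal.span_singleton_le_iff_mem _).2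
    (Ideal.mem_sup_right (Ideal.mem_span_singleton.2 (pow_dvd_pow f (by omega)))))
  let x₁ := CohLin.hMap (le F (sup_pow_le J f a b)) p x
  let z := CohLin.hδ (shortExact_Sq F hKL) p x₁
  obtain ⟨y, hy⟩ := him (CohLin.hMap ψ (p + 1) z)
  have h1 : f ^ (c' + n) • y ∈ P := by
    refine hker _ ?_
    rw [hMap_smul, hy, ← hMap_smul, show c' + n = b - c by omega, hMap_ψ F hψ]
    rw [show CohLin.hMap (kernel.ι (le F hKL)) (p + 1) z = 0 from CohLin.hMap_f_hδ (shortExact_Sq F hKL) x₁,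
      map_zero]
  have h2 : f ^ c' • y ∈ P := by
    have : y ∈ S (c' + n) := h1
    rwa [← hc' _ (Nat.le_add_right c' n)] at this
  have h3 : f ^ c' • CohLin.hMap (le F hKK) (p + 1) (CohLin.hMap ψ (p + 1) z) = 0 := by
    rw [← hMap_le_le F hKn' (Ideal.pow_le_pow_right hn'), ← hy, hMap_q_le, ← hMap_smul]
    exact hMap_q_smul F (p + 1) h2
  let σ : Sq F hKL ⟶ Sq F hKL₁ :=
    { τ₁ := kernel.map _ _ (le F hKK) (le F hLL) (by rw [le_le, le_le])
      τ₂ := le F hKK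
      τ₃ := le F hLL
      comm₁₂ := by simp [kernel.map]
      comm₂₃ := by simp only [le_le] }
  let p₁ : Q F (J ^ n₁) ⟶ kernel (le F hKL₁) :=
    kernel.lift _ (Formal.smulMod A (Q F (J ^ n₁)) (f ^ n)) (by
      rw [← cancel_epi (q F (J ^ n₁)), ← Category.assoc, ← FormalFun.smulMod_natural, Category.assoc, q_le,
        comp_zero]
      exact (isModQuot_q F L₁).condition _ (Ideal.mem_sup_right (Ideal.mem_span_singleton_self _)))
  have hτ : σ.τ₁ = ψ ≫ le F hKK ≫ Formal.smulMod A (Q F (J ^ n₁)) (f ^ c') ≫ p₁ := by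
    rw [← cancel_mono (kernel.ι (le F hKL₁))]
    simp only [σ, p₁, kernel.map, kernel.lift_ι, Category.assoc, ← CohIII.smulMod_mul]
    rw [← FormalFun.smulMod_natural, ← Category.assoc ψ, show f ^ n * f ^ c' = f ^ (b - c) by rw [← pow_add]; congr 1; omega, hψ]
  have h4 : CohLin.hδ (shortExact_Sq F hKL₁) p (CohLin.hMap (le F hLL) p x₁) = 0 := by
    refine (FormalFun.δ_natural (shortExact_Sq F hKL) (shortExact_Sq F hKL₁) σ p x₁).trans ?_
    show CohLin.hMap σ.τ₁ (p + 1) z = 0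
    rw [hτ, CohLin.hMap_comp, CohLin.hMap_comp, CohLin.hMap_comp, FormalFun.hMap_smulMod, h3, map_zero]
  obtain ⟨w, hw⟩ := CohLin.exists_hMap_g_eq (shortExact_Sq F hKL₁) _ h4
  obtain ⟨y', hy'⟩ := him₁ w
  have hLn : L₁ ≤ (J ⊔ Ideal.span {f}) ^ n := (sup_le_sup_right (Ideal.pow_le_pow_right hn₁) _).trans (le_sup_pow J f n)
  refine ⟨y', ?_⟩
  rw [← hMap_q_le F ((Ideal.pow_right_mono (le_sup_left : J ≤ J ⊔ Ideal.span {f}) n)), hy', hMap_le_le,
    ← hMap_le_le F hKL₁ hLn, show CohLin.hMap (le F hKL₁) p w = CohLin.hMap (le F hLL) p x₁ from hw]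
  simp only [x₁, hMap_le_le]

theorem main (hF : ∀ K : Ideal A, Coh.IsCoh (Q F K)) (hfin : ∀ p, Module.Finite A (Coh.HH X F p)) (I : Ideal A) :
    PI F I ∧ PII F I := by
  classical
  obtain ⟨s, rfl⟩ := (IsNoetherian.noetherian I : I.FG)
  induction s using Finset.induction with
  | empty => rw [Finset.coe_empty, Submodule.span_empty]; exact base F
  | insert f s _ ih =>
    rw [Finset.coe_insert, Set.insert_eq, Set.union_comm, Submodule.span_union]
    exact ⟨stepI F hF _ ih.1 ih.2 f, stepII F hF hfin _ ih.1 ih.2 f⟩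

end Groth.Agent.Formal61.ProFin
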