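import Groth.Agent.Formal61.ProFin
import Groth.Agent.CohDev.Coh
import Groth.Agent.S14616
import Groth.Prelude.Def_Formal2

/-!
# Formal functions when all cohomology groups are finite
-/

set_option autoImplicit false
universe u

open CategoryTheory CategoryTheory.Limits AlgebraicGeometry Opposite

noncomputable section

namespace Groth.Agent.Formal61.ProFin

variable {A : Type u} [CommRing A] [IsNoetherianRing A] {X : Scheme.{u}} [X.Over (Spec (CommRingCat.of A))]
  [AlgebraicGeometry.IsNoetherian X] {F : X.Modules} (I : Ideal A) (p : ℕ)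

theorem isCoh_Q (hF : Coh.IsCoh F) (K : Ideal A) : Coh.IsCoh (Q F K) :=
  CohDev.isCoh_cokernel _ (@QCoh.isQuasicoherent_coproduct _ _ (fun _ : K => F) fun _ => hF.1) hF

omit [IsNoetherianRing A] [AlgebraicGeometry.IsNoetherian X] in
theorem trans_eq (n : ℕ) (x : Formal.HHmodPow I F p (n + 1)) :
    Formal.HHmodPowTrans I F p n x = CohLin.hMap (Formal.modPowTrans I (n + 1) F) p x := (CohLin.hMap_apply _ _).symm

omit [IsNoetherianRing A] [AlgebraicGeometry.IsNoetherian X] in
theorem modPowTrans_eq (n : ℕ) :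
    Formal.modPowTrans I n F = le F (Ideal.pow_le_pow_right (Nat.le_succ n) : I ^ (n + 1) ≤ I ^ n) := by
  haveI : Epi (Formal.modPowπ I (n + 1) F) := Sys.epi_modPowπ I (n + 1) F
  exact (cancel_epi (Formal.modPowπ I (n + 1) F)).1 ((Formal.modPowπ_trans I n F).trans (q_le F _).symm)

omit [IsNoetherianRing A] [AlgebraicGeometry.IsNoetherian X] in
theorem to_eq (n : ℕ) (x : Coh.HH X F p) :
    Formal.toHHmodPow I F p n x = CohLin.hMap (q F (I ^ (n + 1))) p x := (CohLin.hMap_apply _ _).symm

variable (F) in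
/-- The map from the completion, one level at a time. -/
theorem exists_level (n : ℕ) : ∃ φ : (Coh.HH X F p ⧸ I ^ (n + 1) • (⊤ : Submodule A (Coh.HH X F p))) →+
    Formal.HHmodPow I F p n, ∀ h, φ (Submodule.Quotient.mk h) = Formal.toHHmodPow I F p n h :=
  ⟨QuotientAddGroup.lift _ (Formal.toHHmodPow I F p n) fun x hx => by
    rw [AddMonoidHom.mem_ker, to_eq]
    exact hMap_q_smul F p hx, fun h => rfl⟩

omit [IsNoetherianRing A] [AlgebraicGeometry.IsNoetherian X] in
theorem mk_succ {M : Type u} [AddCommGroup M] [Module A M] (z : AdicCompletion I M) {m n : ℕ} (h : m ≤ n) {x : M}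
    (hx : AdicCompletion.eval I M n z = Submodule.Quotient.mk x) :
    AdicCompletion.eval I M m z = Submodule.Quotient.mk x := by
  refine (AdicCompletion.transitionMap_comp_eval_apply I M h z).symm.trans ?_
  rw [show z.val n = _ from hx]
  rfl

/-- The comparison map and its bijectivity. -/
theorem exists_beta (hF : Coh.IsCoh F) (hfin : ∀ p, Module.Finite A (Coh.HH X F p)) :
    ∃ β : AdicCompletion I (Coh.HH X F p) →+ Formal.HHlim I F p, Function.Bijective β ∧
      ∀ (x : AdicCompletion I (Coh.HH X F p)) (n : ℕ) (h : Coh.HH X F p),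
        AdicCompletion.eval I (Coh.HH X F p) (n + 1) x = Submodule.Quotient.mk h →
          (β x : ∀ n, Formal.HHmodPow I F p n) n = Formal.toHHmodPow I F p n h := by
  obtain ⟨hI, hII⟩ := main F (isCoh_Q hF) hfin I
  choose φ hφ using exists_level F I p
  have hmem : ∀ x, (fun n => φ n (AdicCompletion.eval I (Coh.HH X F p) (n + 1) x)) ∈ Formal.HHlim I F p := fun x n => by
    obtain ⟨h, hh⟩ := Submodule.Quotient.mk_surjective _ (AdicCompletion.eval I (Coh.HH X F p) (n + 1 + 1) x)
    dsimp only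
    rw [← hh, mk_succ I x (Nat.le_succ (n + 1)) hh.symm, hφ, hφ, trans_eq, to_eq, to_eq, modPowTrans_eq]
    exact hMap_q_le F _ p h
  let β : AdicCompletion I (Coh.HH X F p) →+ Formal.HHlim I F p :=
    { toFun := fun x => ⟨_, hmem x⟩
      map_zero' := Subtype.ext (funext fun n => by simp)
      map_add' := fun x y => Subtype.ext (funext fun n => by simp) }
  have hβ : ∀ (x : AdicCompletion I (Coh.HH X F p)) (n : ℕ) (h : Coh.HH X F p),
      AdicCompletion.eval I (Coh.HH X F p) (n + 1) x = Submodule.Quotient.mk h →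
        (β x : ∀ n, Formal.HHmodPow I F p n) n = Formal.toHHmodPow I F p n h := fun x n h hh => by
    show φ n _ = _
    rw [hh, hφ]
  refine ⟨β, ⟨(injective_iff_map_eq_zero β).2 fun x hx => ?_, fun ⟨y, hy⟩ => ?_⟩, hβ⟩
  · refine AdicCompletion.ext fun n => ?_
    obtain ⟨m, hnm, hm⟩ := hI p n
    obtain ⟨h, hh⟩ := Submodule.Quotient.mk_surjective _ (AdicCompletion.eval I (Coh.HH X F p) (m + 1) x)
    have h0 : Formal.toHHmodPow I F p m h = 0 := by
      rw [← hβ x m h hh.symm, hx]; rfl
    have hmem' := hm h ((hMap_q_le F (Ideal.pow_le_pow_right (Nat.le_succ m)) p h).symm.trans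
      ((congrArg (fun t => CohLin.hMap (le F (Ideal.pow_le_pow_right (Nat.le_succ m))) p t) ((to_eq I p m h).symm.trans h0)).trans
        (map_zero (CohLin.hMap (le F (Ideal.pow_le_pow_right (Nat.le_succ m))) p))))
    show AdicCompletion.eval I (Coh.HH X F p) n x = 0
    rw [mk_succ I x (hnm.trans (Nat.le_succ m)) hh.symm]
    exact (Submodule.Quotient.mk_eq_zero _).2 hmem'
  · have hcompat : ∀ {a b : ℕ} (h : a ≤ b), CohLin.hMap (le F (Ideal.pow_le_pow_right (Nat.succ_le_succ h) :
        I ^ (b + 1) ≤ I ^ (a + 1))) p (y b) = y a := fun {a b} h => by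
      induction b, h using Nat.le_induction with
      | base =>
        rw [show le F (le_refl (I ^ (a + 1))) = 𝟙 _ from (cancel_epi (q F (I ^ (a + 1)))).1 ((q_le F _).trans (Category.comp_id _).symm)]
        exact CohLin.hMap_id _ p _
      | succ b h ih =>
        rw [← ih, ← hy b, trans_eq, modPowTrans_eq]
        exact (hMap_le_le F _ _ p (y (b + 1))).symm
    have hlift : ∀ n, ∃ h, Formal.toHHmodPow I F p n h = y n := fun n => by
      obtain ⟨m, hnm, hm⟩ := hII p (n + 1)
      obtain ⟨h, hh⟩ := hm (CohLin.hMap (le F (Ideal.pow_le_pow_right (Nat.le_succ m))) p (y m))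
      exact ⟨h, (to_eq I p n h).trans (hh.trans ((hMap_le_le F _ _ p _).trans (hcompat (by omega))))⟩
    choose hl hhl using hlift
    choose μ hμn hμ using fun n => hI p n
    let μ' : ℕ → ℕ := fun n => (Finset.range (n + 1)).sup μ
    have hμ' : ∀ n, μ n ≤ μ' n := fun n => Finset.le_sup (Finset.self_mem_range_succ n)
    have hmono : ∀ n, μ' n ≤ μ' (n + 1) := fun n => Finset.sup_mono (Finset.range_subset_range.mpr (by omega))
    have hcauchy : ∀ n, hl (μ' n) ≡ hl (μ' (n + 1)) [SMOD (I ^ n • ⊤ : Submodule A (Coh.HH X F p))] := fun n => by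
      refine SModEq.sub_mem.2 (hμ n _ ?_)
      rw [← hMap_q_le F (Ideal.pow_le_pow_right ((hμ' n).trans (Nat.le_succ _)) : I ^ (μ' n + 1) ≤ I ^ μ n), map_sub]
      have e1 : CohLin.hMap (q F (I ^ (μ' n + 1))) p (hl (μ' (n + 1))) = y (μ' n) := by
        rw [← hMap_q_le F (Ideal.pow_le_pow_right (Nat.succ_le_succ (hmono n))), ← to_eq, hhl]
        exact hcompat (hmono n)
      exact (congrArg _ (sub_eq_zero.2 (((to_eq I p _ _).symm.trans (hhl _)).trans e1.symm))).trans (map_zero _)
    let z := AdicCompletion.mk I (Coh.HH X F p) (AdicCompletion.AdicCauchySequence.mk I _ (fun n => hl (μ' n)) hcauchy)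
    refine ⟨z, Subtype.ext (funext fun n => ?_)⟩
    refine (hβ z n (hl (μ' (n + 1))) rfl).trans ?_
    have hle : n ≤ μ' (n + 1) := (Nat.le_succ n).trans ((hμn (n + 1)).trans (hμ' (n + 1)))
    rw [to_eq, ← hMap_q_le F (Ideal.pow_le_pow_right (Nat.succ_le_succ hle)), ← to_eq, hhl]
    exact hcompat hle

omit [IsNoetherianRing A] [AlgebraicGeometry.IsNoetherian X] in
theorem map_completionTower {i j : ℕ} (h : i ≤ j) (x : Formal.HHmodPow I F p j) :
    ((Functor.ofOpSequence (X := fun n => AddCommGrpCat.of (Formal.HHmodPow I F p n))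
      (fun n => AddCommGrpCat.ofHom (Formal.HHmodPowTrans I F p n))).map (homOfLE h).op).hom x =
      CohLin.hMap (le F (Ideal.pow_le_pow_right (Nat.succ_le_succ h) : I ^ (j + 1) ≤ I ^ (i + 1))) p x := by
  induction j, h using Nat.le_induction with
  | base =>
    rw [show le F (le_refl (I ^ (i + 1))) = 𝟙 _ from (cancel_epi (q F (I ^ (i + 1)))).1 ((q_le F _).trans (Category.comp_id _).symm),
      show (homOfLE (le_refl i)).op = 𝟙 (op i) from rfl, CategoryTheory.Functor.map_id]
    exact (CohLin.hMap_id _ p x).symm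
  | succ j h ih =>
    rw [show (homOfLE (h.trans j.le_succ)).op = (homOfLE j.le_succ).op ≫ (homOfLE h).op from rfl, Functor.map_comp,
      Functor.ofOpSequence_map_homOfLE_succ]
    refine (ih (Formal.HHmodPowTrans I F p j x)).trans ?_
    rw [trans_eq, modPowTrans_eq]
    exact hMap_le_le F _ _ p x

/-- The tower `H^p(X, F/I^(n+1)F)` has no `lim¹`. -/
theorem surjective_towerDiff (hF : Coh.IsCoh F) (hfin : ∀ p, Module.Finite A (Coh.HH X F p)) :
    Function.Surjective (Formal2.towerDiff (fun n => Formal.HHmodPow I F p n) (fun n => Formal.HHmodPowTrans I F p n)) := by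
  obtain ⟨-, hII⟩ := main F (isCoh_Q hF) hfin I
  refine Groth.Agent.S14616.result _ _ fun j => ?_
  obtain ⟨m, hnm, hm⟩ := hII p (j.unop + 1)
  refine ⟨op m, (homOfLE (show j.unop ≤ m by omega)).op, fun {k} g => ?_⟩
  rintro _ ⟨x, rfl⟩
  obtain ⟨h, hh⟩ := hm (CohLin.hMap (le F (Ideal.pow_le_pow_right (Nat.le_succ m))) p x)
  refine ⟨Formal.toHHmodPow I F p k.unop h, ?_⟩
  rw [show g = (homOfLE (leOfHom g.unop)).op from Subsingleton.elim _ _]
  refine (map_completionTower I p (leOfHom g.unop) _).trans (Eq.trans ?_ (map_completionTower I p _ x).symm)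
  rw [to_eq, hMap_q_le]
  exact hh.trans (hMap_le_le F _ _ p x)

end Groth.Agent.Formal61.ProFin
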