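import Groth.Agent.CohTop.Restrict
import Mathlib.Algebra.Homology.DerivedCategory.Ext.Map

/-!
# `H^n(U, F) = H^n(U, F|_U)`, naturally in the sheaf
-/

universe u

open CategoryTheory CategoryTheory.Limits Opposite TopologicalSpace

namespace Groth.Agent.Formal61.RestrNat

open Groth.Agent.CohTop Groth.Agent.CohTop.Basic

set_option synthInstance.maxHeartbeats 200000

noncomputable section

variable {X : TopCat.{u}} (U : Opens X)

/-- The constant sheaf on `U`. -/
abbrev K : CohTop.Ab (TopCat.of U) :=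
  (constantSheaf (Opens.grothendieckTopology (TopCat.of U)) AddCommGrpCat.{u}).obj
    (AddCommGrpCat.of (ULift.{u} ℤ))

/-- Sections over `U` as global sections of the restriction. -/
def secEquiv (F : CohTop.Ab X) : F.obj.obj (op U) ≃+ (CohTop.restr F U).obj.obj (op ⊤) :=
  (F.obj.mapIso (eqToIso (congrArg op (Restrict.img_top U).symm))).addCommGroupIsoToAddEquiv

theorem secEquiv_map {F G : CohTop.Ab X} (φ : F ⟶ G) (s : F.obj.obj (op U)) :
    secEquiv U G ((φ.hom.app (op U)).hom s) =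
      (((CohTop.restrFunctor U).map φ).hom.app (op ⊤)).hom (secEquiv U F s) :=
  (congr($(φ.hom.naturality (eqToHom (congrArg op (Restrict.img_top U).symm))) s)).symm

/-- `H⁰(U, F) = H⁰(U, F|_U)`. -/
def equiv₀ (F : CohTop.Ab X) : CohTop.HU F 0 U ≃+ CohTop.H (CohTop.restr F U) 0 :=
  (HU0Equiv F U).trans ((secEquiv U F).trans (H0Equiv (CohTop.restr F U)).symm)

theorem equiv₀_map {F G : CohTop.Ab X} (φ : F ⟶ G) (x : CohTop.HU F 0 U) :
    equiv₀ U G (CohTop.HUmap φ 0 U x) = Sheaf.H.map ((CohTop.restrFunctor U).map φ) 0 (equiv₀ U F x) := by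
  refine (H0Equiv (CohTop.restr G U)).injective ?_
  rw [H0Equiv_map]
  simp only [equiv₀, AddEquiv.trans_apply, AddEquiv.apply_symm_apply, HU0Equiv_map]
  exact secEquiv_map U φ _

/-- The free sheaf restricted. -/
abbrev fr : CohTop.Ab X := CohCx.freeSheaf (Opens.grothendieckTopology X) U

/-- The comparison `K ⟶ (free U)|_U`. -/
def eta : K U ⟶ CohTop.restr (fr U) U :=
  Abelian.Ext.homEquiv₀ (equiv₀ U (fr U) (Abelian.Ext.mk₀ (𝟙 (fr U))))

theorem mk₀_eta : Abelian.Ext.mk₀ (eta U) = equiv₀ U (fr U) (Abelian.Ext.mk₀ (𝟙 (fr U))) :=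
  Abelian.Ext.mk₀_homEquiv₀_apply _

/-- The comparison map. -/
def Θ (F : CohTop.Ab X) (n : ℕ) : CohTop.HU F n U →+ CohTop.H (CohTop.restr F U) n where
  toFun x := (Abelian.Ext.mk₀ (eta U)).comp
    ((show Abelian.Ext (fr U) F n from x).mapExactFunctor (CohTop.restrFunctor U)) (zero_add n)
  map_zero' := by
    show (Abelian.Ext.mk₀ (eta U)).comp ((0 : Abelian.Ext (fr U) F n).mapExactFunctor (CohTop.restrFunctor U))
      (zero_add n) = 0
    rw [Abelian.Ext.mapExactFunctor_zero, Abelian.Ext.comp_zero]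
  map_add' x y := by
    show (Abelian.Ext.mk₀ (eta U)).comp ((HAdd.hAdd (show Abelian.Ext (fr U) F n from x)
      (show Abelian.Ext (fr U) F n from y)).mapExactFunctor (CohTop.restrFunctor U)) (zero_add n) = _
    rw [Abelian.Ext.mapExactFunctor_add, Abelian.Ext.comp_add]

theorem Θ_map {F G : CohTop.Ab X} (φ : F ⟶ G) (n : ℕ) (x : CohTop.HU F n U) :
    Θ U G n (CohTop.HUmap φ n U x) = Sheaf.H.map ((CohTop.restrFunctor U).map φ) n (Θ U F n x) := by
  show (Abelian.Ext.mk₀ (eta U)).comp (((show Abelian.Ext (fr U) F n from x).comp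
    (Abelian.Ext.mk₀ φ) (add_zero n)).mapExactFunctor (CohTop.restrFunctor U)) (zero_add n) = _
  rw [Abelian.Ext.mapExactFunctor_comp, Abelian.Ext.mapExactFunctor_mk₀]
  exact (Abelian.Ext.comp_assoc_of_third_deg_zero _ _ _ _).symm

theorem Θ_zero (F : CohTop.Ab X) (x : CohTop.HU F 0 U) : Θ U F 0 x = equiv₀ U F x := by
  obtain ⟨f, rfl⟩ := (Abelian.Ext.mk₀_bijective (fr U) F).2 x
  have h := equiv₀_map U f (Abelian.Ext.mk₀ (𝟙 (fr U)))
  rw [show CohTop.HUmap f 0 U (Abelian.Ext.mk₀ (𝟙 (fr U))) = Abelian.Ext.mk₀ f from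
    (Abelian.Ext.mk₀_comp_mk₀ _ _).trans (congrArg _ (Category.id_comp f))] at h
  rw [h, ← mk₀_eta]
  show (Abelian.Ext.mk₀ (eta U)).comp ((Abelian.Ext.mk₀ f).mapExactFunctor (CohTop.restrFunctor U)) (zero_add 0) = _
  rw [Abelian.Ext.mapExactFunctor_mk₀]
  rfl

theorem Θ_bijective (n : ℕ) : ∀ F : CohTop.Ab X, Function.Bijective (Θ U F n) := by
  induction n with
  | zero =>
    intro F
    rw [show (Θ U F 0 : CohTop.HU F 0 U → _) = equiv₀ U F from funext (Θ_zero U F)]
    exact (equiv₀ U F).bijective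
  | succ n ih =>
    intro F
    have hI : Injective (embedding F).X₂ := Injective.injective_under F
    have hS := embedding_shortExact F
    have hS' := hS.map_of_exact (CohTop.restrFunctor U)
    haveI : Injective ((embedding F).map (CohTop.restrFunctor U)).X₂ := (CohTop.restrFunctor U).injective_obj _
    have hδ : ∀ y, Θ U (embedding F).X₁ (n + 1) (δ hS U n (n + 1) rfl y) =
        (Θ U (embedding F).X₃ n y).comp hS'.extClass rfl := fun y => by
      show (Abelian.Ext.mk₀ (eta U)).comp (((show Abelian.Ext (fr U) (embedding F).X₃ n from y).comp hS.extClass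
        rfl).mapExactFunctor (CohTop.restrFunctor U)) (zero_add _) = _
      rw [Abelian.Ext.mapExactFunctor_comp, Abelian.Ext.mapExactFunctor_extClass]
      exact (Abelian.Ext.comp_assoc _ _ _ (zero_add n) rfl (by omega)).symm
    constructor
    · rw [injective_iff_map_eq_zero]
      intro x hx
      obtain ⟨y, rfl⟩ := HU_exact₁ (S := embedding F) hS U (rfl : n + 1 = n + 1) x
        (Abelian.Ext.eq_zero_of_injective _)
      obtain ⟨w, hw⟩ := Abelian.Ext.covariant_sequence_exact₃ (K U) hS' (Θ U (embedding F).X₃ n y) rfl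
        ((hδ y).symm.trans hx)
      obtain ⟨w', rfl⟩ := (ih _).2 w
      have h2 : y = CohTop.HUmap (embedding F).g n U w' := (ih _).1 ((hw.symm).trans (Θ_map U (embedding F).g n w').symm)
      rw [h2]
      exact δ_g hS U rfl w'
    · intro z
      obtain ⟨y', hy'⟩ := Abelian.Ext.covariant_sequence_exact₁ (K U) hS' z
        (Abelian.Ext.eq_zero_of_injective _) (rfl : n + 1 = n + 1)
      obtain ⟨y, rfl⟩ := (ih _).2 y'
      exact ⟨δ hS U n (n + 1) rfl y, (hδ y).trans hy'⟩

/-- The natural comparison. -/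
def equiv (F : CohTop.Ab X) (n : ℕ) : CohTop.HU F n U ≃+ CohTop.H (CohTop.restr F U) n :=
  AddEquiv.ofBijective (Θ U F n) (Θ_bijective U n F)

theorem equiv_map {F G : CohTop.Ab X} (φ : F ⟶ G) (n : ℕ) (x : CohTop.HU F n U) :
    equiv U G n (CohTop.HUmap φ n U x) = Sheaf.H.map ((CohTop.restrFunctor U).map φ) n (equiv U F n x) :=
  Θ_map U φ n x

end

end Groth.Agent.Formal61.RestrNat
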