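import Groth.Prelude.Def_Formal2
import Groth.Agent.CohTop.Basic

/-!
# Sections of `M~` as functions into the localisations
-/

set_option autoImplicit false
universe u

open CategoryTheory Opposite AlgebraicGeometry TopologicalSpace

noncomputable section

namespace Groth.Agent.Formal61.Sec0

open Groth.Agent.CohTop Groth.Agent.CohTop.Basic

variable {A : Type u} [CommRing A]
variable {M N P : Type u} [AddCommGroup M] [Module A M] [AddCommGroup N] [Module A N] [AddCommGroup P] [Module A P]

/-- The localisation at a point. -/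
abbrev Lp (z : PrimeSpectrum A) (M : Type u) [AddCommGroup M] [Module A M] : Type u :=
  LocalizedModule z.asIdeal.primeCompl M

/-- The localised linear map. -/
abbrev lm (z : PrimeSpectrum A) (φ : M →ₗ[A] N) : Lp z M →ₗ[A] Lp z N :=
  (LocalizedModule.map z.asIdeal.primeCompl φ).restrictScalars A

theorem lm_mk (z : PrimeSpectrum A) (φ : M →ₗ[A] N) (m : M) (s : z.asIdeal.primeCompl) :
    lm z φ (LocalizedModule.mk m s) = LocalizedModule.mk (φ m) s :=
  LocalizedModule.map_mk _ φ m s

/-- The value of a class at a point. -/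
def val {V : (Spec (CommRingCat.of A)).Opens} (x : Formal2.HV A M 0 V) (z : V) : Lp z.1 M :=
  (show ((AlgebraicGeometry.structureSheafInType A M).obj.obj (op V)) from
    HU0Equiv (Coh.toAb (Formal2.tmod A M)) V x).1 z

variable {V W : (Spec (CommRingCat.of A)).Opens}

theorem val_ext {x y : Formal2.HV A M 0 V} (h : ∀ z, val x z = val y z) : x = y :=
  (HU0Equiv (Coh.toAb (Formal2.tmod A M)) V).injective (Subtype.ext (funext h))

theorem val_add (x y : Formal2.HV A M 0 V) (z : V) : val (x + y) z = val x z + val y z :=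
  congrArg (fun s : (AlgebraicGeometry.structureSheafInType A M).obj.obj (op V) => s.1 z)
    (map_add (HU0Equiv (Coh.toAb (Formal2.tmod A M)) V) x y)

theorem val_zero (z : V) : val (0 : Formal2.HV A M 0 V) z = 0 :=
  congrArg (fun s : (AlgebraicGeometry.structureSheafInType A M).obj.obj (op V) => s.1 z)
    (map_zero (HU0Equiv (Coh.toAb (Formal2.tmod A M)) V))

theorem val_res (h : W ≤ V) (x : Formal2.HV A M 0 V) (z : W) :
    val (Formal2.HVres A M 0 h x) z = val x ⟨z.1, h z.2⟩ :=
  congrArg (fun s : (AlgebraicGeometry.structureSheafInType A M).obj.obj (op W) => s.1 z)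
    (HU0Equiv_res (Coh.toAb (Formal2.tmod A M)) h x)

theorem val_map (φ : M →ₗ[A] N) (x : Formal2.HV A M 0 V) (z : V) :
    val (Formal2.HVmap A φ 0 V x) z = lm z.1 φ (val x z) := by
  refine (congrArg (fun s : (AlgebraicGeometry.structureSheafInType A N).obj.obj (op V) => s.1 z)
    (HU0Equiv_map ((SheafOfModules.toSheaf _).map (Formal2.tmodMap A φ)) V x)).trans ?_
  show AlgebraicGeometry.StructureSheaf.Localizations.comapFun φ z.1 (val x z) = _
  induction val x z using LocalizedModule.induction_on with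
  | _ m s => exact (AlgebraicGeometry.StructureSheaf.Localizations.comapFun_mk φ z.1 m s).trans (lm_mk z.1 φ m s).symm

/-- A family is locally a fraction. -/
def Loc (s : ∀ z : V, Lp z.1 M) : Prop :=
  ∀ z : V, ∃ (W : (Spec (CommRingCat.of A)).Opens) (_ : z.1 ∈ W) (h : W ≤ V) (m : M) (a : A),
    ∀ w : W, ∃ ha : a ∉ w.1.asIdeal, s ⟨w.1, h w.2⟩ = LocalizedModule.mk m ⟨a, ha⟩

theorem loc_val (x : Formal2.HV A M 0 V) : Loc (val x) := fun z => by
  obtain ⟨W, hW, i, m, a, hma⟩ :=
    (show ((AlgebraicGeometry.structureSheafInType A M).obj.obj (op V)) from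
      HU0Equiv (Coh.toAb (Formal2.tmod A M)) V x).2 z
  exact ⟨W, hW, i.le, m, a, hma⟩

theorem exists_val_eq {s : ∀ z : V, Lp z.1 M} (hs : Loc s) : ∃ x : Formal2.HV A M 0 V, ∀ z, val x z = s z := by
  let t : (AlgebraicGeometry.structureSheafInType A M).obj.obj (op V) :=
    ⟨s, fun z => by
      obtain ⟨W, hW, h, m, a, hma⟩ := hs z
      exact ⟨W, hW, homOfLE h, m, a, hma⟩⟩
  exact ⟨(HU0Equiv (Coh.toAb (Formal2.tmod A M)) V).symm t, fun z =>
    congrArg (fun s' : (AlgebraicGeometry.structureSheafInType A M).obj.obj (op V) => s'.1 z)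
      ((HU0Equiv (Coh.toAb (Formal2.tmod A M)) V).apply_symm_apply t)⟩

attribute [irreducible] val

end Groth.Agent.Formal61.Sec0
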