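import Groth.Agent.Formal61.SecPt
import Groth.Agent.Formal61.Punct

/-!
# Finiteness of sections over a punctured spectrum, pointwise
-/

set_option autoImplicit false
set_option backward.isDefEq.respectTransparency false
universe u

open CategoryTheory Opposite AlgebraicGeometry TopologicalSpace
open Groth.Agent.Formal61.Sec0

noncomputable section

namespace Groth.Agent.Formal61.SecFin

variable {A : Type u} [CommRing A] (𝔞 : Ideal A) (N : Type u) [AddCommGroup N] [Module A N]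

/-- The sections over an open as functions. -/
def secSub (V : (Spec (CommRingCat.of A)).Opens) : Submodule A (∀ z : V, Lp z.1 N) where
  carrier := { s | Loc s }
  add_mem' := fun {_ _} hs ht => hs.add ht
  zero_mem' := fun z => ⟨V, z.2, le_rfl, 0, 1, fun w => ⟨fun h => w.1.isPrime.ne_top ((Ideal.eq_top_iff_one _).2 h),
    (LocalizedModule.zero_mk _).symm⟩⟩
  smul_mem' := fun a _ hs => hs.smul a

theorem finite_secSub [IsNoetherianRing A] [Module.Finite A N] (h : Module.Finite A (_root_.LocCoh.H 𝔞 1 N)) :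
    Module.Finite A (secSub N (LocCoh.puncturedOpen A 𝔞)) := by
  classical
  obtain ⟨ι, _, f, hf⟩ := Punct.exists_cover 𝔞
  haveI : Module.Finite A (Coh.HH (Punct.U 𝔞 : Scheme.{u}) (Punct.G 𝔞 N) 0) :=
    Groth.Agent.FormalSupp.OpenFin.finite_HH (R := CommRingCat.of A) (Punct.U 𝔞) (ModuleCat.of A N) f
      (Punct.hle 𝔞 hf) (Punct.hcov 𝔞 hf) 0 (hf ▸ h)
  have hsmul : ∀ (a : A) (x : Formal2.HV A N 0 (Punct.U 𝔞)),
      Punct.Θ 𝔞 N 0 (Formal2.HVmap A (a • LinearMap.id) 0 (Punct.U 𝔞) x) = a • Punct.Θ 𝔞 N 0 x := fun a x => by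
    rw [Punct.Θ_map]
    exact (congrArg (fun ψ => CohLin.hMap ψ 0 (Punct.Θ 𝔞 N 0 x)) (Affine.Φ_smul (Punct.U 𝔞) N a)).trans
      (Groth.Agent.FormalFun.hMap_smulMod _ a 0 _)
  obtain ⟨t, ht⟩ := Module.Finite.fg_top (R := A) (M := Coh.HH (Punct.U 𝔞 : Scheme.{u}) (Punct.G 𝔞 N) 0)
  let w : t → ∀ z : LocCoh.puncturedOpen A 𝔞, Lp z.1 N := fun i z => val ((Punct.Θ 𝔞 N 0).symm i.1) z
  refine ⟨⟨Finset.univ.image fun i => (⟨w i, loc_val _⟩ : secSub N (LocCoh.puncturedOpen A 𝔞)),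
    eq_top_iff.2 fun s _ => ?_⟩⟩
  obtain ⟨x, hx⟩ := exists_val_eq s.2
  obtain ⟨c, hc⟩ := Submodule.mem_span_finset.1 (ht.ge (Submodule.mem_top (x := Punct.Θ 𝔞 N 0 x)))
  have hxe : x = ∑ i ∈ t, Formal2.HVmap A (c i • LinearMap.id) 0 (Punct.U 𝔞) ((Punct.Θ 𝔞 N 0).symm i) := by
    refine (Punct.Θ 𝔞 N 0).injective ?_
    rw [map_sum, ← hc.2]
    exact Finset.sum_congr rfl fun i _ => by rw [hsmul, AddEquiv.apply_symm_apply]
  have hs : s = ∑ i : t, c i.1 • (⟨w i, loc_val _⟩ : secSub N (LocCoh.puncturedOpen A 𝔞)) := by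
    refine Subtype.ext (funext fun z => ?_)
    rw [← hx z, hxe]
    let e : Formal2.HV A N 0 (Punct.U 𝔞) →+ Lp z.1 N :=
      { toFun := fun y => val y z, map_zero' := val_zero z, map_add' := fun a b => val_add a b z }
    refine (map_sum e _ t).trans ?_
    rw [← Finset.sum_coe_sort, AddSubmonoidClass.coe_finsetSum, Finset.sum_apply]
    refine Finset.sum_congr rfl fun i _ => (val_map _ _ z).trans ?_
    show lm z.1 (c i.1 • LinearMap.id) _ = c i.1 • w i z
    simp only [lm, map_smul, LinearMap.restrictScalars_smul, LinearMap.smul_apply]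
    exact congrArg (c i.1 • ·) (lm_id _ _)
  rw [hs]
  exact Submodule.sum_mem _ fun i _ => Submodule.smul_mem _ _ (Submodule.subset_span (by simp))

end Groth.Agent.Formal61.SecFin
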