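import Groth.Agent.Formal61.SeqColim

/-!
# Two out of three for the colimit comparison
-/

set_option autoImplicit false
set_option backward.isDefEq.respectTransparency false
universe u

open CategoryTheory Opposite AlgebraicGeometry TopologicalSpace
open Groth.Agent.Formal61.Sec0

noncomputable section

namespace Groth.Agent.Formal61.SeqColim

variable {A : Type u} [CommRing A] [IsNoetherianRing A] {I : Ideal A}
variable {U : (Spec (CommRingCat.of A)).Opens}
variable {M' M M'' : Type u} [AddCommGroup M'] [Module A M'] [AddCommGroup M] [Module A M] [AddCommGroup M'']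
  [Module A M'']

/-- Local numerators for a formal class. -/
theorem exists_local_section [Module.Finite A M] (f : M' →ₗ[A] M) (g : M →ₗ[A] M'') (hf : Function.Injective f)
    (hg : Function.Surjective g) (hfg : LinearMap.range f = LinearMap.ker g)
    (h' : Formal2.FormalCohColimBijective A I M' 0 U)
    {V : (Spec (CommRingCat.of A)).Opens} (hV : Formal2.Admissible A I U V)
    (y : ∀ n, Formal2.HV A (Formal2.quotPow A I M n) 0 U)
    (hy : ∀ n, Formal2.HVmap A (Formal2.quotPowTrans A I M n) 0 U (y (n + 1)) = y n)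
    (x'' : Formal2.HV A M'' 0 V)
    (hx : ∀ (n : ℕ) (z : U) (hz : z.1 ∈ V),
      lm z.1 (bar I g n) (val (y n) z) = lm z.1 (Formal2.quotPowπ A I M'' n) (val x'' ⟨z.1, hz⟩))
    (v : V) : ∃ (j : A) (W : (Spec (CommRingCat.of A)).Opens) (hW : Formal2.Admissible A I U W)
      (s : Formal2.HV A M 0 W), j ∉ v.1.asIdeal ∧
        ∀ (n : ℕ) (z : W), lm z.1 (Formal2.quotPowπ A I M n) (val s z) = j • val (y n) ⟨z.1, hW.1 z.2⟩ := by
  obtain ⟨c, hc⟩ := exists_ker_bar_le I f hf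
  obtain ⟨j, m'', hj, hjm⟩ := exists_numerator (loc_val x'') v
  obtain ⟨m, rfl⟩ := hg m''
  let zf : ∀ (n : ℕ) (z : U), Lp z.1 (Formal2.quotPow A I M n) := fun n z =>
    LocalizedModule.mk (Formal2.quotPowπ A I M n m) 1 - j • val (y n) z
  have hloc : ∀ n, Loc (zf n) := fun n => (loc_mk _).sub ((loc_val (y n)).smul j)
  have hgz : ∀ n z, lm z.1 (bar I g n) (zf n z) = 0 := fun n z => by
    by_cases hzV : z.1 ∈ V
    · simp only [zf, map_sub, map_smul, lm_mk]
      rw [hx n z hzV, ← map_smul, hjm, lm_mk]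
      exact sub_self _
    · refine eq_zero_of_not_mem (I := I) (fun hzI => hzV (hV.2 z.1 z.2 hzI)) (quotPow_killed I n) _
  have htl : ∀ (n k : ℕ) (h : n ≤ k) (z : U), lm z.1 (tl I M h) (zf k z) = zf n z := fun n k h z => by
    simp only [zf, map_sub, map_smul, lm_mk]
    rw [tl_compat I hy h z]
    rfl
  choose w hw using fun n => exists_lift (p := bar I f (n + c)) (q := bar I g (n + c)) (t := tr I M' n c)
    (ker_bar_le I f g hg hfg _) (hc n) (hloc (n + c)) (hgz (n + c))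
  have hex : ∀ n (z : U), ∃ v' : Lp z.1 (Formal2.quotPow A I M' (n + c)), lm z.1 (bar I f (n + c)) v' = zf (n + c) z :=
    fun n z => exists_lm_eq (ker_bar_le I f g hg hfg _) (hgz (n + c) z)
  have hbarw : ∀ n z, lm z.1 (bar I f n) (val (w n) z) = zf n z := fun n z => by
    obtain ⟨v', hv'⟩ := hex n z
    rw [hw n z v' hv', ← lm_comp, ← tl_eq_tr, bar_tl, lm_comp, hv', htl]
  have hwc : ∀ n, Formal2.HVmap A (Formal2.quotPowTrans A I M' n) 0 U (w (n + 1)) = w n := fun n => by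
    refine val_ext fun z => ?_
    obtain ⟨v', hv'⟩ := hex (n + 1) z
    have hle : n + c ≤ n + 1 + c := by omega
    have h2 : lm z.1 (bar I f (n + c)) (lm z.1 (tl I M' hle) v') = zf (n + c) z := by
      rw [← lm_comp, bar_tl, lm_comp, hv', htl]
    rw [val_map, hw (n + 1) z v' hv', hw n z _ h2, ← lm_comp, ← lm_comp, trans_eq_tl, ← tl_eq_tr, ← tl_eq_tr,
      tl_tl, tl_tl]
  obtain ⟨W, hW, c₀, hc₀⟩ := h'.2 w hwc
  obtain ⟨s, hs⟩ := exists_val_eq ((loc_mk (V := W) m).sub ((loc_val c₀).map f))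
  refine ⟨j, W, hW, s, hj, fun n z => ?_⟩
  have hc₁ : val (w n) ⟨z.1, hW.1 z.2⟩ = lm z.1 (Formal2.quotPowπ A I M' n) (val c₀ z) :=
    ((val_res hW.1 (w n) z).symm.trans (congrArg (fun q => val q z) (hc₀ n))).trans (val_map _ _ z)
  have hb := hbarw n ⟨z.1, hW.1 z.2⟩
  rw [hs z, map_sub, lm_mk, ← lm_comp, ← bar_π, lm_comp]
  refine (congrArg (fun q => LocalizedModule.mk (Formal2.quotPowπ A I M n m) 1 - lm z.1 (bar I f n) q) hc₁.symm).trans ?_
  refine (congrArg (LocalizedModule.mk (Formal2.quotPowπ A I M n m) 1 - ·) hb).trans ?_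
  exact sub_sub_cancel _ _

/-- Left and right give middle. -/
theorem middle [Module.Finite A M] (f : M' →ₗ[A] M) (g : M →ₗ[A] M'') (hf : Function.Injective f)
    (hg : Function.Surjective g) (hfg : LinearMap.range f = LinearMap.ker g)
    (h' : Formal2.FormalCohColimBijective A I M' 0 U) (h'' : Formal2.FormalCohColimBijective A I M'' 0 U) :
    Formal2.FormalCohColimBijective A I M 0 U := by
  classical
  have hinj : Inj I U M := inj_middle I f g hf hfg h'.1 h''.1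
  refine ⟨hinj, fun y hy => ?_⟩
  obtain ⟨V, hV, x'', hx''⟩ := h''.2 (fun n => Formal2.HVmap A (bar I g n) 0 U (y n)) fun n => val_ext fun z => by
    rw [val_map, val_map, val_map, ← lm_comp, ← bar_trans, lm_comp, ← val_map, hy n]
  have hx : ∀ (n : ℕ) (z : U) (hz : z.1 ∈ V),
      lm z.1 (bar I g n) (val (y n) z) = lm z.1 (Formal2.quotPowπ A I M'' n) (val x'' ⟨z.1, hz⟩) := fun n z hz =>
    ((val_map _ _ z).symm.trans ((val_res hV.1 _ ⟨z.1, hz⟩).symm.trans
      (congrArg (fun q => val q ⟨z.1, hz⟩) (hx'' n)))).trans (val_map _ _ _)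
  choose j W hW s hj hs using exists_local_section f g hf hg hfg h' hV y hy x'' hx
  haveI : NoetherianSpace (PrimeSpectrum A) := inferInstance
  obtain ⟨t, ht⟩ := (NoetherianSpace.isCompact (V.carrier : Set (PrimeSpectrum A))).elim_finite_subcover
    (fun v : V => (PrimeSpectrum.basicOpen (j v) : Set (PrimeSpectrum A)))
    (fun v => (PrimeSpectrum.basicOpen (j v)).2) fun z hz => Set.mem_iUnion.2 ⟨⟨z, hz⟩, hj ⟨z, hz⟩⟩
  obtain ⟨V₂, hV₂, hV₂V, hV₂W⟩ := admissible_finset I t W (fun i _ => hW i) hV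
  have hcomp : ∀ p : V × V, ∃ (V' : (Spec (CommRingCat.of A)).Opens) (_ : Formal2.Admissible A I U V'),
      ∀ (h₁ : p.1 ∈ t) (h₂ : p.2 ∈ t) (z : V₂), z.1 ∈ V' →
        j p.2 • val (s p.1) ⟨z.1, hV₂W p.1 h₁ z.2⟩ = j p.1 • val (s p.2) ⟨z.1, hV₂W p.2 h₂ z.2⟩ := by
    rintro ⟨a, b⟩
    by_cases hab : a ∈ t ∧ b ∈ t
    · obtain ⟨d, hd⟩ := exists_val_eq ((((loc_val (s a)).res (hV₂W a hab.1)).smul (j b)).sub
        (((loc_val (s b)).res (hV₂W b hab.2)).smul (j a)))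
      obtain ⟨V₃, hV₃, hd₃⟩ := hinj V₂ hV₂ d fun n => val_ext fun z => by
        rw [val_map, hd, map_sub, map_smul, map_smul, hs a n ⟨z.1, hV₂W a hab.1 z.2⟩,
          hs b n ⟨z.1, hV₂W b hab.2 z.2⟩, val_zero, smul_comm, sub_self]
      refine ⟨V₃, hV₃.1, fun _ _ z hz => sub_eq_zero.1 ((hd z).symm.trans ?_)⟩
      exact ((val_res hV₃.2 d ⟨z.1, hz⟩).symm.trans (congrArg (fun q => val q ⟨z.1, hz⟩) hd₃)).trans (val_zero _)
    · exact ⟨U, ⟨le_rfl, fun _ hp _ => hp⟩, fun h₁ h₂ => absurd ⟨h₁, h₂⟩ hab⟩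
  choose V' hV' hcomp' using hcomp
  obtain ⟨V₄, hV₄, hV₄₂, hV₄'⟩ := admissible_finset I (t ×ˢ t) V' (fun i _ => hV' i) hV₂
  have hcov : ∀ z : V₄, ∃ v ∈ t, j v ∉ z.1.asIdeal := fun z => by
    obtain ⟨v, hvt, hzv⟩ := Set.mem_iUnion₂.1 (ht (hV₂V (hV₄₂ z.2)))
    exact ⟨v, hvt, hzv⟩
  choose v hvt hvz using hcov
  choose x hx' using fun z : V₄ => (smul_bijective (M := M) (hvz z)).2
    (val (s (v z)) ⟨z.1, hV₂W (v z) (hvt z) (hV₄₂ z.2)⟩)
  have hxv : ∀ (z : V₄) (b : V) (hb : b ∈ t), j b • x z = val (s b) ⟨z.1, hV₂W b hb (hV₄₂ z.2)⟩ := fun z b hb => by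
    refine (smul_bijective (hvz z)).1 ?_
    show j (v z) • j b • x z = j (v z) • _
    rw [smul_comm]
    refine (congrArg (j b • ·) (hx' z)).trans ?_
    exact hcomp' (v z, b) (hvt z) hb ⟨z.1, hV₄₂ z.2⟩ (hV₄' (v z, b) (Finset.mem_product.2 ⟨hvt z, hb⟩) z.2)
  have hxloc : Loc x := fun z => by
    obtain ⟨O, hO, hOW, m, a, hma⟩ := loc_val (s (v z)) ⟨z.1, hV₂W (v z) (hvt z) (hV₄₂ z.2)⟩
    refine ⟨O ⊓ V₄ ⊓ PrimeSpectrum.basicOpen (j (v z)), ⟨⟨hO, z.2⟩, hvz z⟩, inf_le_left.trans inf_le_right,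
      m, a * j (v z), fun w => ?_⟩
    obtain ⟨ha, e⟩ := hma ⟨w.1, w.2.1.1⟩
    have hjw : j (v z) ∉ w.1.asIdeal := w.2.2
    refine ⟨w.1.asIdeal.primeCompl.mul_mem ha hjw, (smul_bijective hjw).1 ?_⟩
    refine ((hxv ⟨w.1, w.2.1.2⟩ (v z) (hvt z)).trans e).trans ?_
    show _ = j (v z) • LocalizedModule.mk m _
    rw [LocalizedModule.smul'_mk]
    exact (LocalizedModule.mk_cancel_common_right _ ⟨_, hjw⟩ m).symm.trans rfl
  obtain ⟨X, hX⟩ := exists_val_eq hxloc
  refine ⟨V₄, hV₄, X, fun n => val_ext fun z => ?_⟩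
  rw [val_res, val_map, hX]
  refine (smul_bijective (hvz z)).1 ?_
  show j (v z) • val (y n) _ = j (v z) • lm z.1 _ (x z)
  rw [← map_smul]
  refine ((congrArg (lm z.1 (Formal2.quotPowπ A I M n)) (hx' z)).trans ?_).symm
  exact hs (v z) n ⟨z.1, hV₂W (v z) (hvt z) (hV₄₂ z.2)⟩

/-- Middle and right give left. -/
theorem left [Module.Finite A M] (f : M' →ₗ[A] M) (g : M →ₗ[A] M'') (hf : Function.Injective f)
    (hfg : LinearMap.range f = LinearMap.ker g)
    (h : Formal2.FormalCohColimBijective A I M 0 U) (h'' : Formal2.FormalCohColimBijective A I M'' 0 U) :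
    Formal2.FormalCohColimBijective A I M' 0 U := by
  refine ⟨inj_left I f hf h.1, fun y hy => ?_⟩
  obtain ⟨c, hc⟩ := exists_ker_bar_le I f hf
  obtain ⟨V, hV, x, hx⟩ := h.2 (fun n => Formal2.HVmap A (bar I f n) 0 U (y n)) fun n => val_ext fun z => by
    rw [val_map, val_map, val_map, ← lm_comp, ← bar_trans, lm_comp, ← val_map, hy n]
  have hxy : ∀ n (z : V), lm z.1 (Formal2.quotPowπ A I M n) (val x z) =
      lm z.1 (bar I f n) (val (y n) ⟨z.1, hV.1 z.2⟩) := fun n z =>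
    (((val_res hV.1 _ z).symm.trans (congrArg (fun q => val q z) (hx n))).trans (val_map _ _ z)).symm.trans (val_map _ _ _)
  have hgf : ∀ n, (bar I g n).comp (bar I f n) = 0 := fun n => LinearMap.ext fun a =>
    Submodule.Quotient.induction_on _ a fun b => by
      show Submodule.Quotient.mk (g (f b)) = 0
      rw [LinearMap.mem_ker.1 (hfg.le ⟨b, rfl⟩)]
      rfl
  obtain ⟨V₁, hV₁, hx₁⟩ := h''.1 V hV (Formal2.HVmap A g 0 V x) fun n => val_ext fun z => by
    rw [val_map, val_map, ← lm_comp, ← bar_π, lm_comp, hxy, ← lm_comp, hgf, val_zero]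
    simp [lm]
  obtain ⟨x', hx'⟩ := exists_preimage f g hf hfg (Formal2.HVres A M 0 hV₁.2 x) fun z => by
    refine (congrArg (lm z.1 g) (val_res hV₁.2 x z)).trans ((val_map g x ⟨z.1, hV₁.2 z.2⟩).symm.trans ?_)
    exact ((val_res hV₁.2 _ z).symm.trans (congrArg (fun q => val q z) hx₁)).trans (val_zero z)
  refine ⟨V₁, hV₁.1, x', fun n => val_ext fun z => ?_⟩
  rw [val_res, val_map]
  refine sub_eq_zero.1 ?_
  have e : ∀ m, lm z.1 (bar I f m) (val (y m) ⟨z.1, hV₁.1.1 z.2⟩ - lm z.1 (Formal2.quotPowπ A I M' m) (val x' z)) = 0 :=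
    fun m => by
      rw [map_sub, ← lm_comp z.1 (Formal2.quotPowπ A I M' m) (bar I f m), bar_π, lm_comp, hx']
      refine sub_eq_zero.2 (((congrArg (lm z.1 _) (val_res hV₁.2 x z)).trans (hxy m ⟨z.1, hV₁.2 z.2⟩)).symm)
  have e' := lm_eq_zero_of_ker_le (hc n) (e (n + c))
  rw [map_sub, ← lm_comp, tr_π] at e'
  exact ((congrArg (· - _) (tr_compat I hy n c ⟨z.1, hV₁.1.1 z.2⟩)).symm.trans e')

end Groth.Agent.Formal61.SeqColim
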