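import Groth.Agent.Formal61.TowerAlg
import Groth.Agent.S0797
import Groth.Agent.Adic.Basic
import Groth.Agent.RegLoc.Completion
import Mathlib

/-!
# Torsion of a tower `M_n = M_{n+1}/J^{n+1}M_{n+1}` is separated from `J^K`
-/

set_option autoImplicit false
universe u

namespace Groth.Agent.Formal61.TowerTors

section complete

variable {R : Type u} [CommRing R] [IsNoetherianRing R] (J : Ideal R) [IsAdicComplete J R]
  (M : ℕ → Type u) [∀ n, AddCommGroup (M n)] [∀ n, Module R (M n)] [∀ n, Module.Finite R (M n)]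

theorem exists_bound_complete (t : ∀ n, M (n + 1) →ₗ[R] M n) (hsurj : ∀ n, Function.Surjective (t n))
    (hk : ∀ n, J ^ (n + 1) • (⊤ : Submodule R (M n)) = ⊥)
    (hker : ∀ n, LinearMap.ker (t n) = J ^ (n + 1) • (⊤ : Submodule R (M (n + 1)))) :
    ∃ K, ∀ N n, ∃ (m : ℕ) (h : n ≤ m), ∀ s : M m, s ∈ J ^ K • (⊤ : Submodule R (M m)) →
      (∀ a ∈ J ^ N, a • s = 0) → TowerAlg.tr t h s = 0 := by
  classical
  let L : Submodule R (∀ n, M n) :=
    { carrier := {x | ∀ n, t n (x (n + 1)) = x n}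
      zero_mem' := fun n => map_zero _
      add_mem' := fun {x y} hx hy n => by rw [Pi.add_apply, Pi.add_apply, map_add, hx n, hy n]
      smul_mem' := fun r x hx n => by rw [Pi.smul_apply, Pi.smul_apply, map_smul, hx n] }
  obtain ⟨hfin, hπ⟩ := Groth.Agent.S0797.result R J M t hsurj hk hker L fun x => Iff.rfl
  haveI := hfin
  let p : ∀ n, L →ₗ[R] M n := fun n => (LinearMap.proj n).comp L.subtype
  haveI : IsNoetherian R L := isNoetherian_of_isNoetherianRing_of_finite R L
  let T : ℕ →o Submodule R L :=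
    { toFun := fun N => (⊥ : Submodule R L).comap (0 : L →ₗ[R] L) ⊓
        ⨅ a : ↥(J ^ N), LinearMap.ker ((a : R) • (LinearMap.id : L →ₗ[R] L))
      monotone' := fun N N' h => by
        refine inf_le_inf le_rfl (le_iInf fun a => ?_)
        exact iInf_le (fun a : ↥(J ^ N) => LinearMap.ker ((a : R) • (LinearMap.id : L →ₗ[R] L))) ⟨a, Ideal.pow_le_pow_right h a.2⟩ }
  have hT : ∀ N (x : L), x ∈ T N ↔ ∀ a ∈ J ^ N, a • x = 0 := fun N x => by
    simp [T, Submodule.mem_iInf]
  obtain ⟨N₀, hN₀⟩ := monotone_stabilizes_iff_noetherian.mpr inferInstance T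
  obtain ⟨k, hAR⟩ := Ideal.exists_pow_inf_eq_pow_smul J (T N₀)
  have hsep : ∀ N (x : L), x ∈ J ^ (N₀ + k) • (⊤ : Submodule R L) → x ∈ T N → x = 0 := fun N x hx hxN => by
    have hx0 : x ∈ T N₀ := by
      rcases le_total N N₀ with h | h
      · exact T.monotone h hxN
      · rw [hN₀ N h]; exact hxN
    have := Submodule.mem_inf.2 ⟨hx, hx0⟩
    rw [hAR (N₀ + k) (Nat.le_add_left k N₀), Nat.add_sub_cancel] at this
    refine Submodule.smul_induction_on this (fun a ha z hz => ?_) fun u v hu hv => by rw [hu, hv, add_zero]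
    exact (hT N₀ z).1 (Submodule.mem_inf.1 hz).2 a ha
  refine ⟨N₀ + k, fun N n => ?_⟩
  obtain ⟨S, hS⟩ := (IsNoetherian.noetherian (J ^ N) : (J ^ N).FG)
  let φ : L →ₗ[R] (S → L) := LinearMap.pi fun a => (a : R) • LinearMap.id
  obtain ⟨k', hk'⟩ := Ideal.exists_pow_inf_eq_pow_smul J (LinearMap.range φ)
  refine ⟨n + (N₀ + k) + k', by omega, fun s hs has => ?_⟩
  obtain ⟨z, hz, rfl⟩ : ∃ z ∈ J ^ (N₀ + k) • (⊤ : Submodule R L), p _ z = s := by
    have hmap : Submodule.map (p (n + (N₀ + k) + k')) (J ^ (N₀ + k) • (⊤ : Submodule R L)) =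
        J ^ (N₀ + k) • ⊤ := by
      rw [Submodule.map_smul'', Submodule.map_top, LinearMap.range_eq_top.2 (hπ _).1]
    rw [← hmap] at hs
    exact Submodule.mem_map.1 hs
  have hφ : φ z ∈ J ^ (n + (N₀ + k) + k' + 1) • (⊤ : Submodule R (S → L)) ⊓ LinearMap.range φ := by
    refine ⟨Groth.Agent.Adic.mem_smul_pi _ _ fun a => ?_, LinearMap.mem_range_self _ z⟩
    show (a : R) • z ∈ _
    rw [← (hπ _).2]
    exact LinearMap.mem_ker.2 ((map_smul (p _) _ z).trans (has a (hS ▸ Ideal.subset_span a.2)))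
  rw [hk' _ (by omega)] at hφ
  obtain ⟨w, hw, hwz⟩ : φ z ∈ Submodule.map φ (J ^ (n + (N₀ + k) + k' + 1 - k') • (⊤ : Submodule R L)) := by
    rw [Submodule.map_smul'', Submodule.map_top]
    exact Submodule.smul_mono le_rfl inf_le_right hφ
  have hzw : z - w = 0 := by
    refine hsep N _ (Submodule.sub_mem _ hz (Submodule.smul_mono (Ideal.pow_le_pow_right (by omega)) le_rfl hw))
      ((hT N _).2 fun a ha => ?_)
    rw [← hS] at ha
    induction ha using Submodule.span_induction with
    | mem b hb =>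
      have := congrFun hwz ⟨b, hb⟩
      simp only [φ, LinearMap.pi_apply, LinearMap.smul_apply, LinearMap.id_coe, id_eq] at this
      rw [smul_sub, this, sub_self]
    | zero => exact zero_smul _ _
    | add b c _ _ hb hc => rw [add_smul, hb, hc, add_zero]
    | smul r b _ hb => rw [smul_eq_mul, mul_smul, hb, smul_zero]
  rw [sub_eq_zero] at hzw
  show TowerAlg.tr t _ (z.1 _) = 0
  rw [TowerAlg.tr_compat t (x := z.1) z.2]
  have : z ∈ J ^ (n + 1) • (⊤ : Submodule R L) := by
    rw [hzw]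
    exact Submodule.smul_mono (Ideal.pow_le_pow_right (by omega)) le_rfl hw
  rw [← (hπ n).2] at this
  exact this

end complete

/-- The same without completeness. -/
theorem exists_bound {R : Type u} [CommRing R] [IsNoetherianRing R] (J : Ideal R)
    (M : ℕ → Type u) [∀ n, AddCommGroup (M n)] [∀ n, Module R (M n)] [∀ n, Module.Finite R (M n)]
    (t : ∀ n, M (n + 1) →ₗ[R] M n) (hsurj : ∀ n, Function.Surjective (t n))
    (hk : ∀ n, J ^ (n + 1) • (⊤ : Submodule R (M n)) = ⊥)
    (hker : ∀ n, LinearMap.ker (t n) = J ^ (n + 1) • (⊤ : Submodule R (M (n + 1)))) :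
    ∃ K, ∀ N n, ∃ (m : ℕ) (h : n ≤ m), ∀ s : M m, s ∈ J ^ K • (⊤ : Submodule R (M m)) →
      (∀ a ∈ J ^ N, a • s = 0) → TowerAlg.tr t h s = 0 := by
  classical
  let S := AdicCompletion J R
  haveI : IsNoetherianRing S := RegLoc.Completion.isNoetherianRing_adicCompletion' J
  have hFG : J.FG := IsNoetherian.noetherian J
  let J' : Ideal S := J.map (algebraMap R S)
  haveI : IsAdicComplete J' S := (IsAdicComplete.map_algebraMap_iff J S).2 (AdicCompletion.isAdicComplete hFG)
  have htor : ∀ n, Module.IsTorsionBySet R (M n) ↑(J ^ (n + 1)) := fun n x a => by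
    have : (a : R) • x ∈ J ^ (n + 1) • (⊤ : Submodule R (M n)) := Submodule.smul_mem_smul a.2 trivial
    rwa [hk n, Submodule.mem_bot] at this
  letI instQ : ∀ n, Module (R ⧸ J ^ (n + 1)) (M n) := fun n => Module.IsTorsionBySet.module (htor n)
  letI instS : ∀ n, Module S (M n) := fun n => Module.compHom (M n) (AdicCompletion.evalₐ J (n + 1)).toRingHom
  have hS : ∀ n (r : S) (r₀ : R) (x : M n),
      AdicCompletion.evalₐ J (n + 1) r = Ideal.Quotient.mk _ r₀ → r • x = r₀ • x := fun n r r₀ x h => by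
    show AdicCompletion.evalₐ J (n + 1) r • x = _
    rw [h]; rfl
  have hS' : ∀ n (r₀ : R) (x : M n), algebraMap R S r₀ • x = r₀ • x := fun n r₀ x =>
    hS n _ r₀ x ((AdicCompletion.evalₐ J (n + 1)).commutes r₀)
  haveI : ∀ n, IsScalarTower R S (M n) := fun n => IsScalarTower.of_algebraMap_smul fun r x => hS' n r x
  haveI : ∀ n, Module.Finite S (M n) := fun n => Module.Finite.of_restrictScalars_finite R S (M n)
  let t' : ∀ n, M (n + 1) →ₗ[S] M n := fun n =>
    { toFun := t n
      map_add' := map_add (t n)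
      map_smul' := fun r x => by
        induction r using AdicCompletion.induction_on with
        | _ c =>
          have h1 : AdicCompletion.evalₐ J (n + 1) (AdicCompletion.mk J R c) = Ideal.Quotient.mk _ (c.1 (n + 1 + 1)) := by
            rw [AdicCompletion.evalₐ_mk, Ideal.Quotient.eq]
            have := SModEq.sub_mem.1 (c.2 (Nat.le_succ (n + 1)))
            simpa using this
          rw [RingHom.id_apply, hS _ _ _ x (AdicCompletion.evalₐ_mk J _ c), map_smul, hS _ _ _ _ h1] }
  have hJ : ∀ e n, J' ^ e • (⊤ : Submodule S (M n)) = J'^e • ⊤ ∧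
      (J' ^ e • (⊤ : Submodule S (M n))).restrictScalars R = J ^ e • (⊤ : Submodule R (M n)) := fun e n =>
    ⟨rfl, by rw [← Ideal.map_pow, Submodule.restrictScalars_map_smul_eq]; rfl⟩
  have hmem : ∀ e n (x : M n), x ∈ J' ^ e • (⊤ : Submodule S (M n)) ↔ x ∈ J ^ e • (⊤ : Submodule R (M n)) :=
    fun e n x => by rw [← (hJ e n).2]; rfl
  obtain ⟨K, hK⟩ := exists_bound_complete J' M t' hsurj
    (fun n => (Submodule.eq_bot_iff _).2 fun x hx => (Submodule.eq_bot_iff _).1 (hk n) x ((hmem _ _ x).1 hx))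
    (fun n => SetLike.ext fun x => by
      rw [hmem, ← hker n]; rfl)
  have htr : ∀ {i k : ℕ} (h : i ≤ k) (x : M k), TowerAlg.tr t' h x = TowerAlg.tr t h x := by
    intro i k h
    induction k, h using Nat.le_induction with
    | base => intro x; rw [TowerAlg.tr_self, TowerAlg.tr_self]; rfl
    | succ k h ih =>
      intro x
      rw [TowerAlg.tr_succ t' h, TowerAlg.tr_succ t h, LinearMap.comp_apply, LinearMap.comp_apply]
      exact ih (t k x)
  refine ⟨K, fun N n => ?_⟩
  obtain ⟨m, h, hm⟩ := hK N n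
  refine ⟨m, h, fun s hs has => (htr h s).symm.trans (hm s ((hmem _ _ s).2 hs) fun a ha => ?_)⟩
  rw [← Ideal.map_pow] at ha
  induction ha using Submodule.span_induction with
  | mem b hb =>
    obtain ⟨b₀, hb₀, rfl⟩ := hb
    rw [hS' m b₀ s]
    exact has b₀ hb₀
  | zero => exact zero_smul _ _
  | add b c _ _ hb hc => rw [add_smul, hb, hc, add_zero]
  | smul r b _ hb => rw [smul_eq_mul, mul_smul, hb, smul_zero]

end Groth.Agent.Formal61.TowerTors
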